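import Cfsg.Agent.Lib.Helper45.AltFreeDefs

/-!
# K-S2276-P1: two "local" 3-cycles sharing one point generate a non-solvable group
-/

set_option autoImplicit false
set_option linter.style.haveILetI false
set_option linter.unusedSectionVars false

namespace Cfsg.Agent.Lib.Helper67.AltFree

open Equiv Equiv.Perm Cfsg.Agent.Lib.Helper45.AltFree

variable {α : Type*} [Fintype α] [DecidableEq α]
variable {β : Type*} [Fintype β] [DecidableEq β]

/-- a subgroup generated by two commutators of its own elements is not solvable -/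
theorem not_solvable_closure_of_perfect_gens {G : Type*} [Group G] (a b a₁ a₂ b₁ b₂ : G)
    (ha₁ : a₁ ∈ Subgroup.closure ({a, b} : Set G)) (ha₂ : a₂ ∈ Subgroup.closure ({a, b} : Set G))
    (hb₁ : b₁ ∈ Subgroup.closure ({a, b} : Set G)) (hb₂ : b₂ ∈ Subgroup.closure ({a, b} : Set G))
    (hab : a = a₁ * a₂ * a₁⁻¹ * a₂⁻¹) (hbb : b = b₁ * b₂ * b₁⁻¹ * b₂⁻¹) (hne : a ≠ 1) :
    ¬ Group.IsSolvable (Subgroup.closure ({a, b} : Set G)) := by
  intro hsol
  set K := Subgroup.closure ({a, b} : Set G) with hK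
  have hle : K ≤ ⁅K, K⁆ := by
    rw [hK, Subgroup.closure_le]
    rintro x (hx | hx)
    · have h1 := Subgroup.commutator_mem_commutator ha₁ ha₂
      rw [commutatorElement_def, ← hab] at h1
      rw [hx]; exact h1
    · have h1 := Subgroup.commutator_mem_commutator hb₁ hb₂
      rw [commutatorElement_def, ← hbb] at h1
      have hx' : x = b := hx
      rw [hx']; exact h1
  have haK : a ∈ K := Subgroup.subset_closure (by simp)
  haveI : Nontrivial K := ⟨⟨⟨a, haK⟩, 1, fun h => hne (congrArg Subtype.val h)⟩⟩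
  have hlt := Group.IsSolvable.commutator_lt_top_of_nontrivial K
  apply hlt.ne
  rw [eq_top_iff]
  intro k _
  have hk : (k : G) ∈ ⁅K, K⁆ := hle k.2
  rw [← Subgroup.map_subtype_commutator] at hk
  obtain ⟨k', hk', hkk⟩ := hk
  have : k' = k := Subtype.ext hkk
  rw [← this]; exact hk'

/-- the two model 3-cycles on `Fin 5` -/
def modelF : Perm (Fin 5) := ⟨![1, 2, 0, 3, 4], ![2, 0, 1, 3, 4], by decide, by decide⟩

/-- the second model 3-cycle -/
def modelG : Perm (Fin 5) := ⟨![0, 1, 3, 4, 2], ![0, 1, 4, 2, 3], by decide, by decide⟩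

theorem not_solvable_model : ¬ Group.IsSolvable (Subgroup.closure ({modelF, modelG} : Set (Perm (Fin 5)))) := by
  have hF : modelF ∈ Subgroup.closure ({modelF, modelG} : Set (Perm (Fin 5))) :=
    Subgroup.subset_closure (by simp)
  have hG : modelG ∈ Subgroup.closure ({modelF, modelG} : Set (Perm (Fin 5))) :=
    Subgroup.subset_closure (by simp)
  refine not_solvable_closure_of_perfect_gens modelF modelG
    (modelG * modelF * modelG⁻¹) (modelG * modelF * modelG)
    (modelF * modelG * modelF⁻¹) (modelF * modelG * modelF) ?_ ?_ ?_ ?_ ?_ ?_ ?_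
  · exact Subgroup.mul_mem _ (Subgroup.mul_mem _ hG hF) (Subgroup.inv_mem _ hG)
  · exact Subgroup.mul_mem _ (Subgroup.mul_mem _ hG hF) hG
  · exact Subgroup.mul_mem _ (Subgroup.mul_mem _ hF hG) (Subgroup.inv_mem _ hF)
  · exact Subgroup.mul_mem _ (Subgroup.mul_mem _ hF hG) hF
  · decide
  · decide
  · decide

/-- the setwise stabilizer of `range v` -/
def stab (v : Fin 5 → α) : Subgroup (Perm α) where
  carrier := {σ | ∀ a, σ a ∈ Set.range v ↔ a ∈ Set.range v}
  one_mem' := fun _ => Iff.rfl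
  mul_mem' := fun {σ τ} hσ hτ a => by rw [Perm.mul_apply, hσ, hτ]
  inv_mem' := fun {σ} hσ a => by
    have h := hσ (σ⁻¹ a)
    have h2 : σ (σ⁻¹ a) = a := by simp
    rw [h2] at h
    exact h.symm

theorem mem_stab (v : Fin 5 → α) (σ : Perm α) :
    σ ∈ stab v ↔ ∀ a, σ a ∈ Set.range v ↔ a ∈ Set.range v := Iff.rfl

/-- the restricted map on indices -/
noncomputable def resFun (v : Fin 5 → α) (hv : Function.Injective v) (σ : stab v) (i : Fin 5) :
    Fin 5 :=
  (Equiv.ofInjective v hv).symm ⟨σ.1 (v i), ((mem_stab v σ.1).1 σ.2 (v i)).2 ⟨i, rfl⟩⟩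

theorem resFun_spec (v : Fin 5 → α) (hv : Function.Injective v) (σ : stab v) (i : Fin 5) :
    v (resFun v hv σ i) = σ.1 (v i) :=
  Equiv.apply_ofInjective_symm hv _

/-- restriction to `range v`, transported to `Fin 5`, as a permutation -/
noncomputable def resPerm (v : Fin 5 → α) (hv : Function.Injective v) (σ : stab v) :
    Perm (Fin 5) where
  toFun := resFun v hv σ
  invFun := resFun v hv σ⁻¹
  left_inv := fun i => hv (by rw [resFun_spec v hv, resFun_spec v hv]; simp)
  right_inv := fun i => hv (by rw [resFun_spec v hv, resFun_spec v hv]; simp)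

theorem resPerm_spec (v : Fin 5 → α) (hv : Function.Injective v) (σ : stab v) (i : Fin 5) :
    v (resPerm v hv σ i) = σ.1 (v i) := resFun_spec v hv σ i

/-- restriction to `range v`, transported to `Fin 5` -/
noncomputable def resHom (v : Fin 5 → α) (hv : Function.Injective v) : stab v →* Perm (Fin 5) where
  toFun := resPerm v hv
  map_one' := by
    ext i
    congr 1
    apply hv
    rw [resPerm_spec v hv]
    simp
  map_mul' σ τ := by
    ext i
    congr 1
    apply hv
    rw [resPerm_spec v hv, Perm.mul_apply, resPerm_spec v hv, resPerm_spec v hv]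
    simp

theorem resHom_spec (v : Fin 5 → α) (hv : Function.Injective v) (σ : stab v) (i : Fin 5) :
    v (resHom v hv σ i) = σ.1 (v i) := resPerm_spec v hv σ i

theorem not_solvable_of_local_three_cycles (H : Subgroup (Perm α)) (f g : Perm α)
    (hf : f ∈ H) (hg : g ∈ H) (v : Fin 5 → α) (hv : Function.Injective v)
    (hf0 : f (v 0) = v 1) (hf1 : f (v 1) = v 2) (hf2 : f (v 2) = v 0)
    (hf3 : f (v 3) = v 3) (hf4 : f (v 4) = v 4)
    (hg0 : g (v 0) = v 0) (hg1 : g (v 1) = v 1) (hg2 : g (v 2) = v 3)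
    (hg3 : g (v 3) = v 4) (hg4 : g (v 4) = v 2) : ¬ Group.IsSolvable H := by
  intro hsol
  -- f and g stabilize range v
  have hstab : ∀ σ : Perm α, (∀ i, ∃ j, σ (v i) = v j) → (∀ j, ∃ i, σ (v i) = v j) → σ ∈ stab v := by
    intro σ h1 h2 a
    constructor
    · rintro ⟨j, hj⟩
      obtain ⟨i, hi⟩ := h2 j
      exact ⟨i, σ.injective (hi.trans hj)⟩
    · rintro ⟨i, rfl⟩
      obtain ⟨j, hj⟩ := h1 i
      exact ⟨j, hj.symm⟩
  have hfT : f ∈ stab v := by
    apply hstab
    · intro i; fin_cases i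
      exacts [⟨1, hf0⟩, ⟨2, hf1⟩, ⟨0, hf2⟩, ⟨3, hf3⟩, ⟨4, hf4⟩]
    · intro j; fin_cases j
      exacts [⟨2, hf2⟩, ⟨0, hf0⟩, ⟨1, hf1⟩, ⟨3, hf3⟩, ⟨4, hf4⟩]
  have hgT : g ∈ stab v := by
    apply hstab
    · intro i; fin_cases i
      exacts [⟨0, hg0⟩, ⟨1, hg1⟩, ⟨3, hg2⟩, ⟨4, hg3⟩, ⟨2, hg4⟩]
    · intro j; fin_cases j
      exacts [⟨0, hg0⟩, ⟨1, hg1⟩, ⟨4, hg4⟩, ⟨2, hg2⟩, ⟨3, hg3⟩]
  -- images
  have hφf : resHom v hv ⟨f, hfT⟩ = modelF := by
    ext i
    congr 1
    apply hv
    rw [resHom_spec v hv]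
    fin_cases i
    exacts [hf0, hf1, hf2, hf3, hf4]
  have hφg : resHom v hv ⟨g, hgT⟩ = modelG := by
    ext i
    congr 1
    apply hv
    rw [resHom_spec v hv]
    fin_cases i
    exacts [hg0, hg1, hg2, hg3, hg4]
  -- the subgroup H ⊓ stab v, as a subgroup of `stab v`
  let K : Subgroup (stab v) := H.subgroupOf (stab v)
  have hfK : (⟨f, hfT⟩ : stab v) ∈ K := Subgroup.mem_subgroupOf.2 hf
  have hgK : (⟨g, hgT⟩ : stab v) ∈ K := Subgroup.mem_subgroupOf.2 hg
  haveI : Group.IsSolvable K := by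
    let ι : K →* H := ((stab v).subtype.comp K.subtype).codRestrict H
      (fun x => Subgroup.mem_subgroupOf.1 x.2)
    have hι : Function.Injective ι := by
      intro x y hxy
      have h1 : ((x : stab v) : Perm α) = ((y : stab v) : Perm α) :=
        congrArg (fun z : H => (z : Perm α)) hxy
      exact Subtype.ext (Subtype.ext h1)
    exact Group.isSolvable_of_isSolvable_injective hι
  haveI : Group.IsSolvable (K.map (resHom v hv)) :=
    Group.isSolvable_of_surjective ((resHom v hv).subgroupMap_surjective K)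
  have hle : Subgroup.closure ({modelF, modelG} : Set (Perm (Fin 5))) ≤ K.map (resHom v hv) := by
    rw [Subgroup.closure_le]
    rintro x (hx | hx)
    · rw [hx, ← hφf]; exact Subgroup.mem_map_of_mem _ hfK
    · have hx' : x = modelG := hx
      rw [hx', ← hφg]; exact Subgroup.mem_map_of_mem _ hgK
  exact not_solvable_model
    (Group.isSolvable_of_isSolvable_injective (Subgroup.inclusion_injective hle))

end Cfsg.Agent.Lib.Helper67.AltFree
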