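import Mathlib.GroupTheory.Sylow
import Mathlib.GroupTheory.PGroup
import Mathlib.GroupTheory.GroupAction.ConjAct
import Mathlib.Tactic

set_option autoImplicit false

namespace Cfsg.Agent.Lib.Helper67

open Subgroup MulAction
open scoped Pointwise

variable {G : Type*} [Group G]

/-- The copy of a subgroup `P ≤ G` inside `ConjAct G`. -/
def conjCopy (P : Subgroup G) : Subgroup (ConjAct G) :=
  P.comap (ConjAct.ofConjAct : ConjAct G ≃* G).toMonoidHom

theorem mem_conjCopy {P : Subgroup G} {a : ConjAct G} :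
    a ∈ conjCopy P ↔ ConjAct.ofConjAct a ∈ P := Iff.rfl

theorem toConjAct_mem_conjCopy {P : Subgroup G} {g : G} (hg : g ∈ P) :
    ConjAct.toConjAct g ∈ conjCopy P := by
  rw [mem_conjCopy]; simpa using hg

/-- `conjCopy P` is isomorphic to `P`. -/
def conjCopyEquiv (P : Subgroup G) : conjCopy P ≃* P :=
  (ConjAct.ofConjAct : ConjAct G ≃* G).subgroupMap (conjCopy P) |>.trans
    (MulEquiv.subgroupCongr (by
      ext x
      simp only [conjCopy, Subgroup.mem_map, Subgroup.mem_comap]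
      constructor
      · rintro ⟨a, ha, rfl⟩; exact ha
      · intro hx; exact ⟨ConjAct.toConjAct x, by simpa using hx, by simp⟩))

theorem isPGroup_conjCopy {p : ℕ} {P : Subgroup G} (hP : IsPGroup p P) : IsPGroup p (conjCopy P) :=
  hP.of_equiv (conjCopyEquiv P).symm

theorem val_smul_normal {N : Subgroup G} [N.Normal] (a : ConjAct G) (n : N) :
    ((a • n : N) : G) = ConjAct.ofConjAct a * (n : G) * (ConjAct.ofConjAct a)⁻¹ := rfl

/-- The fixed points of `P` acting by conjugation on the normal subgroup `N` are trivial as soon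
as `N ∩ C_G(P) = 1`; then `p` does not divide `|N|`. -/
theorem not_dvd_card_of_centralizer_inf_eq_bot [Finite G] {p : ℕ} [Fact p.Prime]
    {P N : Subgroup G} [N.Normal] (hP : IsPGroup p P)
    (hC : N ⊓ Subgroup.centralizer (P : Set G) = ⊥) : ¬ p ∣ Nat.card N := by
  have hPc := isPGroup_conjCopy hP
  have h1 := hPc.card_modEq_card_fixedPoints (↥N)
  have hfix : ∀ n : N, n ∈ fixedPoints (conjCopy P) N → n = 1 := by
    intro n hn
    have hmem : (n : G) ∈ N ⊓ Subgroup.centralizer (P : Set G) := by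
      refine Subgroup.mem_inf.mpr ⟨n.2, ?_⟩
      rw [Subgroup.mem_centralizer_iff]
      intro a ha
      have := hn ⟨ConjAct.toConjAct a, toConjAct_mem_conjCopy ha⟩
      have h2 : ((ConjAct.toConjAct a • n : N) : G) = (n : G) := congrArg Subtype.val this
      rw [val_smul_normal] at h2
      simp only [ConjAct.ofConjAct_toConjAct] at h2
      calc a * (n : G) = (a * (n : G) * a⁻¹) * a := by group
        _ = (n : G) * a := by rw [h2]
    rw [hC, Subgroup.mem_bot] at hmem
    exact Subtype.ext hmem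
  have hone : (1 : N) ∈ fixedPoints (conjCopy P) N := by
    intro a
    exact smul_one a
  have hcard : Nat.card (fixedPoints (conjCopy P) N) = 1 := by
    rw [Nat.card_eq_one_iff_unique]
    refine ⟨⟨?_⟩, ⟨⟨1, hone⟩⟩⟩
    rintro ⟨a, ha⟩ ⟨b, hb⟩
    apply Subtype.ext
    show a = b
    rw [hfix a ha, hfix b hb]
  rw [hcard] at h1
  intro hdvd
  have h2 : Nat.card N ≡ 0 [MOD p] := (Nat.modEq_zero_iff_dvd).mpr hdvd
  have h3 : 1 ≡ 0 [MOD p] := h1.symm.trans h2
  have h4 : p ∣ 1 := (Nat.modEq_zero_iff_dvd).mp h3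
  exact (Fact.out : p.Prime).one_lt.ne' (Nat.dvd_one.mp h4)

/-- If `P` is a `p`-group and `p ∤ |N|`, some Sylow `q`-subgroup of `N` is `P`-invariant. -/
theorem exists_invariant_sylow [Finite G] {p : ℕ} [Fact p.Prime] {P N : Subgroup G} [N.Normal]
    (hP : IsPGroup p P) (hpN : ¬ p ∣ Nat.card N) (q : ℕ) [Fact q.Prime] :
    ∃ Q : Sylow q ↥N, ∀ a ∈ conjCopy P, a • Q = Q := by
  have hPc := isPGroup_conjCopy hP
  have hnd : ¬ p ∣ Nat.card (Sylow q ↥N) := by
    intro h
    apply hpN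
    have Q0 : Sylow q ↥N := default
    exact h.trans ((Sylow.card_dvd_index Q0).trans (Subgroup.index_dvd_card _))
  obtain ⟨Q, hQ⟩ := hPc.nonempty_fixed_point_of_prime_not_dvd_card (Sylow q ↥N) hnd
  exact ⟨Q, fun a ha => hQ ⟨a, ha⟩⟩

/-- compatibility of the automorphism action with the conjugation action on Sylow subgroups -/
theorem smul_smul_sylow {N : Subgroup G} [N.Normal] {q : ℕ} (a : ConjAct G) (n : N)
    (Q : Sylow q ↥N) : a • (n • Q) = (a • n) • (a • Q) := by
  apply Sylow.ext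
  rw [Sylow.pointwise_smul_def, Sylow.coe_subgroup_smul, Sylow.coe_subgroup_smul,
    Sylow.pointwise_smul_def]
  ext x
  rw [Subgroup.mem_pointwise_smul_iff_inv_smul_mem, Subgroup.mem_pointwise_smul_iff_inv_smul_mem,
    Subgroup.mem_pointwise_smul_iff_inv_smul_mem, Subgroup.mem_pointwise_smul_iff_inv_smul_mem]
  have : (MulAut.conj n)⁻¹ • a⁻¹ • x = a⁻¹ • (MulAut.conj (a • n))⁻¹ • x := by
    simp only [MulAut.smul_def, MulAut.conj_inv_apply, smul_mul', smul_inv', inv_smul_smul]
  rw [this]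

/-- Two `P`-invariant Sylow `q`-subgroups of `N` (`P` a `p`-group, `p ∤ |N|`) are conjugate under
`C_N(P)`. -/
theorem invariant_sylow_conj [Finite G] {p : ℕ} [Fact p.Prime] {P N : Subgroup G} [N.Normal]
    (hP : IsPGroup p P) (hpN : ¬ p ∣ Nat.card N) (q : ℕ) [Fact q.Prime]
    (Q₁ Q₂ : Sylow q ↥N) (h₁ : ∀ a ∈ conjCopy P, a • Q₁ = Q₁) (h₂ : ∀ a ∈ conjCopy P, a • Q₂ = Q₂) :
    ∃ c : ↥N, (c : G) ∈ Subgroup.centralizer (P : Set G) ∧ c • Q₁ = Q₂ := by
  have hPc := isPGroup_conjCopy hP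
  let Ω : SubMulAction ↥(conjCopy P) ↥N :=
    { carrier := {n : ↥N | n • Q₁ = Q₂}
      smul_mem' := by
        rintro ⟨a, ha⟩ n hn
        show (a • n) • Q₁ = Q₂
        have hn' : n • Q₁ = Q₂ := hn
        calc (a • n) • Q₁ = (a • n) • (a • Q₁) := by rw [h₁ a ha]
          _ = a • (n • Q₁) := (smul_smul_sylow a n Q₁).symm
          _ = Q₂ := by rw [hn', h₂ a ha] }
  obtain ⟨n₀, hn₀⟩ := MulAction.exists_smul_eq (↥N) Q₁ Q₂
  -- Ω is in bijection with the stabilizer of Q₁
  let e : MulAction.stabilizer (↥N) Q₁ ≃ Ω :=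
    { toFun := fun s => ⟨n₀ * s, by
        show (n₀ * (s : N)) • Q₁ = Q₂
        rw [mul_smul, s.2, hn₀]⟩
      invFun := fun n => ⟨n₀⁻¹ * n, by
        rw [MulAction.mem_stabilizer_iff, mul_smul]
        have : (n : N) • Q₁ = Q₂ := n.2
        rw [this, ← hn₀, inv_smul_smul]⟩
      left_inv := by
        intro s
        apply Subtype.ext
        simp
      right_inv := by
        intro n
        apply Subtype.ext
        simp }
  have hcard : Nat.card Ω = Nat.card (MulAction.stabilizer (↥N) Q₁) := (Nat.card_congr e).symm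
  have hnd : ¬ p ∣ Nat.card Ω := by
    rw [hcard]
    intro h
    exact hpN (h.trans (Subgroup.card_subgroup_dvd_card _))
  obtain ⟨⟨c, hc⟩, hcfix⟩ := hPc.nonempty_fixed_point_of_prime_not_dvd_card Ω hnd
  refine ⟨c, ?_, hc⟩
  rw [Subgroup.mem_centralizer_iff]
  intro a ha
  have h3 := hcfix ⟨ConjAct.toConjAct a, toConjAct_mem_conjCopy ha⟩
  have h4 : ((ConjAct.toConjAct a • c : N) : G) = (c : G) := by
    have := congrArg (fun w : Ω => ((w : N) : G)) h3
    exact this
  rw [val_smul_normal] at h4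
  simp only [ConjAct.ofConjAct_toConjAct] at h4
  calc a * (c : G) = (a * (c : G) * a⁻¹) * a := by group
    _ = (c : G) * a := by rw [h4]

theorem coe_mem_map_subtype_iff {N : Subgroup G} (Q : Subgroup ↥N) (y : ↥N) :
    (y : G) ∈ Q.map N.subtype ↔ y ∈ Q := by
  constructor
  · rintro ⟨z, hz, hzy⟩
    have : z = y := Subtype.ext hzy
    exact this ▸ hz
  · intro hy
    exact ⟨y, hy, rfl⟩

/-- A Sylow subgroup of the normal subgroup `N` is fixed by `g` iff `g` normalizes its image. -/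
theorem smul_sylow_eq_iff {N : Subgroup G} [N.Normal] {q : ℕ} (g : G) (Q : Sylow q ↥N) :
    ConjAct.toConjAct g • Q = Q ↔
      g ∈ Subgroup.normalizer (((Q : Subgroup ↥N).map N.subtype : Subgroup G) : Set G) := by
  constructor
  · intro h
    have hone : ∀ (g' : G), ConjAct.toConjAct g' • Q = Q →
        ∀ k ∈ (Q : Subgroup ↥N).map N.subtype, g' * k * g'⁻¹ ∈ (Q : Subgroup ↥N).map N.subtype := by
      rintro g' hg' _ ⟨y, hy, rfl⟩
      have h1 : ConjAct.toConjAct g' • y ∈ ConjAct.toConjAct g' • (Q : Subgroup ↥N) :=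
        Subgroup.smul_mem_pointwise_smul y _ _ hy
      rw [← Sylow.pointwise_smul_def, hg'] at h1
      exact ⟨_, h1, by simp [val_smul_normal]⟩
    rw [Subgroup.mem_normalizer_iff]
    intro k
    constructor
    · exact hone g h k
    · intro hk
      have hinv : ConjAct.toConjAct g⁻¹ • Q = Q := by
        rw [map_inv, inv_smul_eq_iff, h]
      have := hone g⁻¹ hinv _ hk
      simpa [mul_assoc] using this
  · intro h
    apply Sylow.ext
    rw [Sylow.pointwise_smul_def]
    ext x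
    rw [Subgroup.mem_pointwise_smul_iff_inv_smul_mem, ← coe_mem_map_subtype_iff,
      ← coe_mem_map_subtype_iff (Q : Subgroup ↥N) x, val_smul_normal]
    have := (Subgroup.mem_normalizer_iff''.mp h) (x : G)
    simp only [map_inv, ConjAct.ofConjAct_inv, ConjAct.ofConjAct_toConjAct, inv_inv]
    exact this.symm

/-- Product decomposition in a join when one subgroup normalizes the other. -/
theorem mem_sup_of_le_normalizer {H K : Subgroup G} (hHK : H ≤ Subgroup.normalizer (K : Set G))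
    {x : G} (hx : x ∈ H ⊔ K) : ∃ h ∈ H, ∃ k ∈ K, x = h * k := by
  have hconj : ∀ h ∈ H, ∀ k ∈ K, h⁻¹ * k * h ∈ K := by
    intro h hh k hk
    exact (Subgroup.mem_normalizer_iff''.mp (hHK hh) k).mp hk
  have hconj' : ∀ h ∈ H, ∀ k ∈ K, h * k * h⁻¹ ∈ K := by
    intro h hh k hk
    exact (Subgroup.mem_normalizer_iff.mp (hHK hh) k).mp hk
  let L : Subgroup G :=
    { carrier := {x | ∃ h ∈ H, ∃ k ∈ K, x = h * k}
      mul_mem' := by
        rintro _ _ ⟨h, hh, k, hk, rfl⟩ ⟨h', hh', k', hk', rfl⟩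
        refine ⟨h * h', H.mul_mem hh hh', (h'⁻¹ * k * h') * k',
          K.mul_mem (hconj h' hh' k hk) hk', ?_⟩
        group
      one_mem' := ⟨1, H.one_mem, 1, K.one_mem, (mul_one 1).symm⟩
      inv_mem' := by
        rintro _ ⟨h, hh, k, hk, rfl⟩
        refine ⟨h⁻¹, H.inv_mem hh, h * k⁻¹ * h⁻¹, hconj' h hh _ (K.inv_mem hk), ?_⟩
        group }
  have hle : H ⊔ K ≤ L :=
    sup_le (fun h hh => ⟨h, hh, 1, K.one_mem, (mul_one h).symm⟩)
      (fun k hk => ⟨1, H.one_mem, k, hk, (one_mul k).symm⟩)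
  exact hle hx

end Cfsg.Agent.Lib.Helper67
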