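import Cfsg.Agent.Lib.Helper67.PLen2

set_option autoImplicit false

namespace Cfsg.Agent.Lib.Helper67

open Cfsg

section steps

variable {G : Type*} [Group G] [Finite G] (p : ℕ)

/-- the index of consecutive terms at an even position is prime to `p` -/
theorem relIndex_upperPSeries_even (n : ℕ) (hn : Even n) :
    ((upperPSeries p G n).1.relIndex (upperPSeries p G (n + 1)).1).Coprime p := by
  have h := Helper32.relIndex_comap_mk' (upperPSeries p G n).1
    (pPrimeCore p (G ⧸ (upperPSeries p G n).1))
  rw [← Helper15.upperPSeries_succ_even p n hn] at h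
  rw [h]
  exact Cfsg.Agent.Lib.Helper81.card_pPrimeCore_coprime p

/-- the index of consecutive terms at an odd position is a power of `p` -/
theorem relIndex_upperPSeries_odd [Fact p.Prime] (n : ℕ) (hn : ¬ Even n) :
    ∃ b, (upperPSeries p G n).1.relIndex (upperPSeries p G (n + 1)).1 = p ^ b := by
  have h := Helper32.relIndex_comap_mk' (upperPSeries p G n).1
    (pCore p (G ⧸ (upperPSeries p G n).1))
  rw [← Helper15.upperPSeries_succ_odd p n hn] at h
  rw [h]
  exact IsPGroup.iff_card.mp (Cfsg.Agent.Lib.Helper81.isPGroup_pCore p)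

/-- relative index of images of a normal subgroup: monotone in the second argument -/
theorem relIndex_dvd_relIndex_of_le (V K L : Subgroup G) [V.Normal] (h : K ≤ L) :
    V.relIndex K ∣ V.relIndex L := by
  have h1 := Subgroup.relIndex_ker (K := K) (QuotientGroup.mk' V)
  have h2 := Subgroup.relIndex_ker (K := L) (QuotientGroup.mk' V)
  rw [QuotientGroup.ker_mk'] at h1 h2
  rw [h1, h2]
  exact Subgroup.card_dvd_of_le (Subgroup.map_mono h)

/-- for a normal subgroup `N`, `U_n(G) ∩ N ≤ U_n(N)` -/
theorem comap_subtype_upperPSeries_le [Fact p.Prime] (N : Subgroup G) [N.Normal] (n : ℕ) :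
    (upperPSeries p G n).1.comap N.subtype ≤ (upperPSeries p ↥N n).1 := by
  induction n with
  | zero =>
    rw [upperPSeries_zero', upperPSeries_zero']
    intro x hx
    rw [Subgroup.mem_comap, Subgroup.mem_bot] at hx
    rw [Subgroup.mem_bot]
    exact Subtype.ext hx
  | succ n ih =>
    have hAB : (upperPSeries p G n).1.comap N.subtype ≤ (upperPSeries p G (n + 1)).1.comap N.subtype :=
      Subgroup.comap_mono (Helper15.upperPSeries_le_succ p n)
    have hrel : ((upperPSeries p G n).1.comap N.subtype).relIndex
        ((upperPSeries p G (n + 1)).1.comap N.subtype) ∣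
        (upperPSeries p G n).1.relIndex (upperPSeries p G (n + 1)).1 := by
      rw [Subgroup.relIndex_comap]
      apply relIndex_dvd_relIndex_of_le
      exact Subgroup.map_comap_le _ _
    by_cases hn : Even n
    · exact le_upperPSeries_succ_of_even p n hn _ _ hAB ih
        (Nat.Coprime.coprime_dvd_left hrel (relIndex_upperPSeries_even (G := G) p n hn))
    · obtain ⟨b, hb⟩ := relIndex_upperPSeries_odd (G := G) p n hn
      rw [hb] at hrel
      obtain ⟨j, -, hj⟩ := (Nat.dvd_prime_pow (Fact.out : p.Prime)).mp hrel
      exact le_upperPSeries_succ_of_odd p n hn _ _ hAB ih ⟨j, hj⟩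

/-- `p`-length bounds pass to normal subgroups -/
theorem pLengthLE_of_normal [Fact p.Prime] (N : Subgroup G) [N.Normal] (k : ℕ)
    (h : PLengthLE p k G) : PLengthLE p k ↥N := by
  unfold PLengthLE at h ⊢
  have := comap_subtype_upperPSeries_le p N (2 * k + 1)
  rw [h, Subgroup.comap_top] at this
  exact top_le_iff.mp this

/-- a group of order prime to `p` has `p`-length zero -/
theorem pLengthLE_zero_of_coprime (h : (Nat.card G).Coprime p) : PLengthLE p 0 G := by
  unfold PLengthLE
  have h1 : (⊥ : Subgroup G) ≤ (upperPSeries p G 0).1 := bot_le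
  have := le_upperPSeries_succ_of_even p 0 (by simp) ⊥ ⊤ bot_le h1
    (by rw [Subgroup.relIndex_bot_left, Subgroup.card_top]; exact h)
  exact top_le_iff.mp this

/-- a `p`-group has `p`-length at most one -/
theorem pLengthLE_one_of_isPGroup [Fact p.Prime] (h : IsPGroup p G) : PLengthLE p 1 G := by
  unfold PLengthLE
  have h2 : ⊤ ≤ (upperPSeries p G 2).1 := by
    apply le_upperPSeries_succ_of_odd p 1 (by simp) (upperPSeries p G 1).1 ⊤ le_top le_rfl
    obtain ⟨a, ha⟩ := IsPGroup.iff_card.mp h
    have hdvd : (upperPSeries p G 1).1.relIndex ⊤ ∣ p ^ a := by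
      rw [← ha, Subgroup.relIndex_top_right]
      exact Subgroup.index_dvd_card _
    obtain ⟨j, -, hj⟩ := (Nat.dvd_prime_pow (Fact.out : p.Prime)).mp hdvd
    exact ⟨j, hj⟩
  exact top_le_iff.mp (h2.trans (Helper15.upperPSeries_mono p (by norm_num)))

/-- subadditivity of the `p`-length over a normal subgroup and its quotient -/
theorem pLengthLE_add [Fact p.Prime] (N : Subgroup G) [N.Normal] (a b : ℕ)
    (hN : PLengthLE p a ↥N) (hQ : PLengthLE p b (G ⧸ N)) : PLengthLE p (a + b) G := by
  -- step 1
  have h1 : N ≤ (upperPSeries p G (2 * a + 1)).1 := by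
    have := upperPSeries_subtype_le p N (2 * a + 1)
    unfold PLengthLE at hN
    rw [hN, ← MonoidHom.range_eq_map, Subgroup.range_subtype] at this
    exact this
  -- step 2
  have key : ∀ k, ((upperPSeries p (G ⧸ N) (k + 1)).1).comap (QuotientGroup.mk' N) ≤
      (upperPSeries p G (2 * a + (k + 1))).1 := by
    intro k
    induction k with
    | zero =>
      have hNle : N ≤ ((upperPSeries p (G ⧸ N) (0 + 1)).1).comap (QuotientGroup.mk' N) :=
        QuotientGroup.le_comap_mk' _ _
      apply le_upperPSeries_of_odd p (2 * a) (by simp) N _ hNle h1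
      rw [Helper32.relIndex_comap_mk']
      exact card_upperPSeries_one_coprime p
    | succ k ih =>
      have hAB : ((upperPSeries p (G ⧸ N) (k + 1)).1).comap (QuotientGroup.mk' N) ≤
          ((upperPSeries p (G ⧸ N) (k + 1 + 1)).1).comap (QuotientGroup.mk' N) :=
        Subgroup.comap_mono (Helper15.upperPSeries_le_succ p (k + 1))
      have hrel : (((upperPSeries p (G ⧸ N) (k + 1)).1).comap (QuotientGroup.mk' N)).relIndex
          (((upperPSeries p (G ⧸ N) (k + 1 + 1)).1).comap (QuotientGroup.mk' N)) =
          (upperPSeries p (G ⧸ N) (k + 1)).1.relIndex (upperPSeries p (G ⧸ N) (k + 1 + 1)).1 := by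
        rw [Subgroup.relIndex_comap,
          Subgroup.map_comap_eq_self_of_surjective (QuotientGroup.mk'_surjective N)]
      have e : 2 * a + (k + 1 + 1) = (2 * a + (k + 1)) + 1 := by ring
      rw [e]
      by_cases hk : Even (k + 1)
      · have hk' : Even (2 * a + (k + 1)) := (even_two_mul a).add hk
        apply le_upperPSeries_succ_of_even p _ hk' _ _ hAB ih
        rw [hrel]
        exact relIndex_upperPSeries_even p (k + 1) hk
      · have hk' : ¬ Even (2 * a + (k + 1)) := by
          intro h
          exact hk ((Nat.even_add.mp h).mp (even_two_mul a))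
        apply le_upperPSeries_succ_of_odd p _ hk' _ _ hAB ih
        rw [hrel]
        exact relIndex_upperPSeries_odd p (k + 1) hk
  -- step 3
  unfold PLengthLE at hQ ⊢
  have := key (2 * b)
  rw [hQ, Subgroup.comap_top] at this
  have e : 2 * a + (2 * b + 1) = 2 * (a + b) + 1 := by ring
  rw [e] at this
  exact top_le_iff.mp this

end steps

end Cfsg.Agent.Lib.Helper67
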