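import Mathlib.GroupTheory.Sylow
import Mathlib.GroupTheory.Nilpotent
import Mathlib.Tactic

set_option autoImplicit false

namespace Cfsg.Agent.Lib.Helper67

open Subgroup

variable {G : Type*} [Group G]

/-- conjugation by `g` as a monoid hom -/
abbrev cj (g : G) : G →* G := (MulAut.conj g).toMonoidHom

theorem cj_apply (g x : G) : cj g x = g * x * g⁻¹ := rfl

theorem map_cj_mul (K : Subgroup G) (a b : G) :
    K.map (cj (a * b)) = (K.map (cj b)).map (cj a) := by
  rw [Subgroup.map_map]
  congr 1
  ext x
  simp [mul_assoc]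

theorem map_cj_one (K : Subgroup G) : K.map (cj (1 : G)) = K := by
  ext x
  simp

theorem map_cj_inv_cj (K : Subgroup G) (g : G) : (K.map (cj g⁻¹)).map (cj g) = K := by
  rw [← map_cj_mul, mul_inv_cancel, map_cj_one]

theorem map_cj_cj_inv (K : Subgroup G) (g : G) : (K.map (cj g)).map (cj g⁻¹) = K := by
  rw [← map_cj_mul, inv_mul_cancel, map_cj_one]

theorem map_cj_eq_of_mem_normalizer {K : Subgroup G} {g : G}
    (h : g ∈ Subgroup.normalizer (K : Set G)) : K.map (cj g) = K :=
  Subgroup.mem_normalizer_iff_map_conj_eq.mp h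

theorem mem_normalizer_of_map_cj_eq {K : Subgroup G} {g : G}
    (h : K.map (cj g) = K) : g ∈ Subgroup.normalizer (K : Set G) :=
  Subgroup.mem_normalizer_iff_map_conj_eq.mpr h

theorem normalizer_map_cj (K : Subgroup G) (g : G) :
    (Subgroup.normalizer (K : Set G)).map (cj g) = Subgroup.normalizer ((K.map (cj g) : Subgroup G) : Set G) :=
  Subgroup.map_equiv_normalizer_eq K (MulAut.conj g)

theorem map_cj_ne_bot {K : Subgroup G} (hK : K ≠ ⊥) (g : G) : K.map (cj g) ≠ ⊥ := by
  intro h
  apply hK
  rwa [Subgroup.map_eq_bot_iff_of_injective _ (MulAut.conj g).injective] at h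

theorem card_map_cj [Finite G] (K : Subgroup G) (g : G) : Nat.card (K.map (cj g)) = Nat.card K :=
  Nat.card_congr (K.equivMapOfInjective _ (MulAut.conj g).injective).toEquiv.symm

/-- The normalizer of `A` normalizes the image of every characteristic subgroup of `A`. -/
theorem normalizer_le_normalizer_map_characteristic (A : Subgroup G) (C : Subgroup A)
    [hC : C.Characteristic] :
    Subgroup.normalizer (A : Set G) ≤ Subgroup.normalizer ((C.map A.subtype : Subgroup G) : Set G) := by
  rw [Subgroup.le_normalizer_iff]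
  rintro g hg _ ⟨c, hc, rfl⟩
  have hA : A.map (cj g) = A := map_cj_eq_of_mem_normalizer hg
  let φ : A ≃* A := (MulEquiv.subgroupMap (MulAut.conj g) A).trans (MulEquiv.subgroupCongr hA)
  have hφ : C.map φ.toMonoidHom = C := Subgroup.characteristic_iff_map_eq.mp hC φ
  have h1 : φ c ∈ C := by
    rw [← hφ]
    exact Subgroup.mem_map_of_mem _ hc
  exact ⟨φ c, h1, rfl⟩

/-- The image in `G` of a normal subgroup of `M` is normalized by `M`. -/
theorem le_normalizer_map_subtype (M : Subgroup G) (Q : Subgroup M) [hQ : Q.Normal] :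
    M ≤ Subgroup.normalizer ((Q.map M.subtype : Subgroup G) : Set G) := by
  have h1 : (Subgroup.normalizer (Q : Set M)).map M.subtype ≤
      Subgroup.normalizer ((Q.map M.subtype : Subgroup G) : Set G) := Subgroup.le_normalizer_map _
  rw [Subgroup.normalizer_eq_top_iff.mpr hQ, ← MonoidHom.range_eq_map, Subgroup.range_subtype] at h1
  exact h1

end Cfsg.Agent.Lib.Helper67
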