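import Cfsg.Agent.Lib.Helper15.UpperSeries
import Cfsg.Agent.Lib.Helper32.PLength
import Mathlib.Tactic

set_option autoImplicit false

namespace Cfsg.Agent.Lib.Helper67

open Cfsg

/-- the image of the `p'`-core under a surjection lies in the `p'`-core -/
theorem map_pPrimeCore_le_of_surjective {X Y : Type*} [Group X] [Group Y] [Finite X] (p : ℕ)
    (φ : X →* Y) (hφ : Function.Surjective φ) : (pPrimeCore p X).map φ ≤ pPrimeCore p Y := by
  have hn : ((pPrimeCore p X).map φ).Normal :=
    Subgroup.Normal.map (Cfsg.Agent.Lib.Helper81.pPrimeCore_normal p) φ hφ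
  apply Cfsg.Agent.Lib.Helper81.le_pPrimeCore hn
  have hdvd : Nat.card ((pPrimeCore p X).map φ) ∣ Nat.card (pPrimeCore p X) :=
    Subgroup.card_dvd_of_surjective (φ.subgroupMap (pPrimeCore p X))
      (φ.subgroupMap_surjective (pPrimeCore p X))
  exact Nat.Coprime.coprime_dvd_left hdvd (Cfsg.Agent.Lib.Helper81.card_pPrimeCore_coprime p)

/-- the image of the `p`-core under a surjection lies in the `p`-core -/
theorem map_pCore_le_of_surjective {X Y : Type*} [Group X] [Group Y] [Finite X] (p : ℕ)
    [Fact p.Prime] (φ : X →* Y) (hφ : Function.Surjective φ) :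
    (pCore p X).map φ ≤ pCore p Y := by
  have hn : ((pCore p X).map φ).Normal :=
    Subgroup.Normal.map (Cfsg.Agent.Lib.Helper81.pCore_normal p) φ hφ
  apply Cfsg.Agent.Lib.Helper81.le_pCore hn
  exact (Cfsg.Agent.Lib.Helper81.isPGroup_pCore p).map φ

/-- upper `p`-series terms map into upper `p`-series terms under a surjection -/
theorem upperPSeries_map_le {G H : Type*} [Group G] [Group H] [Finite G] (p : ℕ) [Fact p.Prime]
    (f : G →* H) (hf : Function.Surjective f) (n : ℕ) :
    (upperPSeries p G n).1.map f ≤ (upperPSeries p H n).1 := by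
  induction n with
  | zero =>
    have : (upperPSeries p G 0).1 = ⊥ := by rw [upperPSeries]
    rw [this, Subgroup.map_bot]
    exact bot_le
  | succ n ih =>
    have hle : (upperPSeries p G n).1 ≤ ((upperPSeries p H n).1).comap f :=
      Subgroup.map_le_iff_le_comap.mp ih
    let φ : G ⧸ (upperPSeries p G n).1 →* H ⧸ (upperPSeries p H n).1 :=
      QuotientGroup.map (upperPSeries p G n).1 (upperPSeries p H n).1 f hle
    have hφ : Function.Surjective φ := by
      intro y
      obtain ⟨h, rfl⟩ := QuotientGroup.mk'_surjective _ y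
      obtain ⟨g, rfl⟩ := hf h
      exact ⟨QuotientGroup.mk' _ g, rfl⟩
    have hcomp : (QuotientGroup.mk' (upperPSeries p H n).1).comp f =
        φ.comp (QuotientGroup.mk' (upperPSeries p G n).1) := by
      ext x
      rfl
    by_cases hn : Even n
    · rw [Helper15.upperPSeries_succ_even p n hn, Helper15.upperPSeries_succ_even p n hn,
        Subgroup.map_le_iff_le_comap, Subgroup.comap_comap, hcomp, ← Subgroup.comap_comap]
      apply Subgroup.comap_mono
      rw [← Subgroup.map_le_iff_le_comap]
      exact map_pPrimeCore_le_of_surjective p φ hφ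
    · rw [Helper15.upperPSeries_succ_odd p n hn, Helper15.upperPSeries_succ_odd p n hn,
        Subgroup.map_le_iff_le_comap, Subgroup.comap_comap, hcomp, ← Subgroup.comap_comap]
      apply Subgroup.comap_mono
      rw [← Subgroup.map_le_iff_le_comap]
      exact map_pCore_le_of_surjective p φ hφ

/-- `p`-length bounds pass to homomorphic images -/
theorem pLengthLE_of_surjective {G H : Type*} [Group G] [Group H] [Finite G] (p : ℕ)
    [Fact p.Prime] (f : G →* H) (hf : Function.Surjective f) (k : ℕ) (h : PLengthLE p k G) :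
    PLengthLE p k H := by
  unfold PLengthLE at h ⊢
  have := upperPSeries_map_le p f hf (2 * k + 1)
  rw [h, Subgroup.map_top_of_surjective f hf] at this
  exact top_le_iff.mp this

/-- factoring out `O_{p',p}` lowers the `p`-length by one -/
theorem pLengthLE_quotient_two {G : Type*} [Group G] (p l : ℕ) (hl : 1 ≤ l)
    (h : PLengthLE p l G) : PLengthLE p (l - 1) (G ⧸ (upperPSeries p G 2).1) := by
  unfold PLengthLE at h ⊢
  rw [Helper15.upperPSeries_quotient p 2 even_two]
  have e : 2 * (l - 1) + 1 + 2 = 2 * l + 1 := by omega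
  rw [e, h]
  exact Subgroup.map_top_of_surjective _ (QuotientGroup.mk'_surjective _)

theorem upperPSeries_zero' {G : Type*} [Group G] (p : ℕ) : (upperPSeries p G 0).1 = ⊥ := by
  rw [upperPSeries]

/-- the first term of the upper `p`-series has order prime to `p` -/
theorem card_upperPSeries_one_coprime {G : Type*} [Group G] [Finite G] (p : ℕ) :
    (Nat.card (upperPSeries p G 1).1).Coprime p := by
  have e1 := Helper15.upperPSeries_succ_even (G := G) p 0 (by simp)
  have h := Helper32.relIndex_comap_mk' (upperPSeries p G 0).1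
    (pPrimeCore p (G ⧸ (upperPSeries p G 0).1))
  rw [← e1] at h
  have h2 : (upperPSeries p G 0).1.relIndex (upperPSeries p G 1).1 =
      Nat.card (upperPSeries p G 1).1 := by
    rw [upperPSeries_zero', Subgroup.relIndex_bot_left]
  rw [← h2, h]
  exact Cfsg.Agent.Lib.Helper81.card_pPrimeCore_coprime p

/-- if `O_{p'}` is trivial, the second term of the upper `p`-series is a `p`-group -/
theorem isPGroup_upperPSeries_two {G : Type*} [Group G] [Finite G] (p : ℕ) [Fact p.Prime]
    (h1 : (upperPSeries p G 1).1 = ⊥) : IsPGroup p (upperPSeries p G 2).1 := by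
  have e2 := Helper15.upperPSeries_succ_odd (G := G) p 1 (by simp)
  have h := Helper32.relIndex_comap_mk' (upperPSeries p G 1).1
    (pCore p (G ⧸ (upperPSeries p G 1).1))
  rw [← e2] at h
  have h2 : (upperPSeries p G 1).1.relIndex (upperPSeries p G 2).1 =
      Nat.card (upperPSeries p G 2).1 := by
    rw [h1, Subgroup.relIndex_bot_left]
  rw [h2] at h
  obtain ⟨k, hk⟩ := IsPGroup.iff_card.mp
    (Cfsg.Agent.Lib.Helper81.isPGroup_pCore (G := G ⧸ (upperPSeries p G 1).1) p)
  exact IsPGroup.of_card (h.trans hk)

end Cfsg.Agent.Lib.Helper67
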