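import Cfsg.Agent.Lib.Helper67.Subnormal
import Cfsg.Agent.S0065

set_option autoImplicit false

namespace Cfsg.Agent.Lib.Helper67

open Subgroup
open scoped commutatorElement
open Cfsg.Agent.Lib.Helper30 Cfsg.Agent.Lib.Helper76

variable {G : Type*} [Group G]

/-- The Fitting subgroup is mapped into the Fitting subgroup by an isomorphism. -/
theorem fitting_map_equiv_le {G' : Type*} [Group G'] (e : G ≃* G') :
    (Cfsg.fittingSubgroup G).map e.toMonoidHom ≤ Cfsg.fittingSubgroup G' := by
  unfold Cfsg.fittingSubgroup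
  rw [sSup_eq_iSup', Subgroup.map_iSup]
  refine iSup_le ?_
  rintro ⟨K, hKn, hKnil⟩
  refine le_sSup ⟨hKn.map _ e.surjective, ?_⟩
  exact Group.nilpotent_of_mulEquiv (e.subgroupMap K)

theorem fitting_map_equiv {G' : Type*} [Group G'] (e : G ≃* G') :
    (Cfsg.fittingSubgroup G).map e.toMonoidHom = Cfsg.fittingSubgroup G' := by
  refine le_antisymm (fitting_map_equiv_le e) ?_
  have h := fitting_map_equiv_le e.symm
  intro x hx
  have h1 := h (Subgroup.mem_map_of_mem _ hx)
  refine ⟨e.symm x, h1, ?_⟩
  simp

theorem generalizedFitting_map_equiv {G' : Type*} [Group G'] (e : G ≃* G') :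
    (Cfsg.generalizedFittingSubgroup G).map e.toMonoidHom = Cfsg.generalizedFittingSubgroup G' := by
  unfold Cfsg.generalizedFittingSubgroup
  rw [Subgroup.map_sup, layer_map_equiv, fitting_map_equiv]

instance fitting_characteristic : (Cfsg.fittingSubgroup G).Characteristic :=
  Subgroup.characteristic_iff_map_eq.mpr fun ϕ => fitting_map_equiv ϕ

instance layer_characteristic : (Cfsg.layer G).Characteristic :=
  Subgroup.characteristic_iff_map_eq.mpr fun ϕ => layer_map_equiv ϕ

instance generalizedFitting_characteristic : (Cfsg.generalizedFittingSubgroup G).Characteristic :=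
  Subgroup.characteristic_iff_map_eq.mpr fun ϕ => generalizedFitting_map_equiv ϕ

/-- The Fitting subgroup of a normal subgroup lies in the Fitting subgroup. -/
theorem fitting_map_subtype_le [Finite G] (N : Subgroup G) [N.Normal] :
    (Cfsg.fittingSubgroup ↥N).map N.subtype ≤ Cfsg.fittingSubgroup G := by
  have hn : ((Cfsg.fittingSubgroup ↥N).map N.subtype).Normal :=
    ConjAct.normal_of_characteristic_of_normal
  have hnil0 : Group.IsNilpotent (Cfsg.fittingSubgroup ↥N) := fittingSubgroup_isNilpotent
  have hnil : Group.IsNilpotent ((Cfsg.fittingSubgroup ↥N).map N.subtype) :=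
    Group.nilpotent_of_mulEquiv
      ((Cfsg.fittingSubgroup ↥N).equivMapOfInjective N.subtype N.subtype_injective)
  exact le_fittingSubgroup hn hnil

/-- A nontrivial finite nilpotent subgroup has nontrivial centre (as a subgroup of the ambient
group). -/
theorem inf_centralizer_ne_bot_of_nilpotent [Finite G] (F : Subgroup G) (hnil : Group.IsNilpotent F)
    (hne : F ≠ ⊥) : F ⊓ centralizer (F : Set G) ≠ ⊥ := by
  have hnt : Nontrivial F := (Subgroup.nontrivial_iff_ne_bot F).mpr hne
  have h1 : (⊤ : Subgroup F) ⊓ Subgroup.center F ≠ ⊥ :=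
    Cfsg.Agent.S0065.result (⊤ : Subgroup F) top_ne_bot
  rw [top_inf_eq] at h1
  rw [← map_center_subtype]
  intro h
  apply h1
  rwa [Subgroup.map_eq_bot_iff_of_injective _ F.subtype_injective] at h

end Cfsg.Agent.Lib.Helper67
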