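import Mathlib
import Cfsg.Agent.Lib.Helper31.BG147Defs
import Cfsg.Agent.Lib.Helper55.Basic

/-!
# BG 14.7 pack (S1369, architect helper31): keystone 136903 K-1369-C `card_csupp`

PURE counting: `|N| * |class support of X| = |X| * |G|` for a set `X ⊆ N` normalized by `N` with
`g x g⁻¹ ∈ X → g ∈ N`.
-/

set_option autoImplicit false

namespace Cfsg.Agent.Lib.Helper67.BG147

open Cfsg Subgroup Cfsg.Agent.Lib.Helper55 Cfsg.Agent.Lib.Helper11.BG14D Cfsg.Agent.Lib.Helper11.BG144 Cfsg.Agent.Lib.Helper31.BG147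

variable {G : Type*} [Group G] [Finite G]

/-- KEYSTONE 136903  K-1369-C -/
theorem card_csupp {N : Subgroup G} {X : Set G} (hXN : X ⊆ (N : Set G))
    (hnorm : ∀ n ∈ N, ∀ x ∈ X, n * x * n⁻¹ ∈ X)
    (hTI : ∀ g : G, ∀ x ∈ X, g * x * g⁻¹ ∈ X → g ∈ N) :
    Nat.card N * Set.ncard (csupp X) = Set.ncard X * Nat.card G := by
  classical
  -- representatives
  choose gr xr hxr hgr using fun a : csupp X => a.2
  let f : G × X → csupp X := fun p => ⟨p.1 * p.2 * p.1⁻¹, p.1, p.2, p.2.2, rfl⟩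
  have hf : ∀ p : G × X, ((f p : csupp X) : G) = p.1 * p.2 * p.1⁻¹ := fun _ => rfl
  have hmem : ∀ p : G × X, (gr (f p))⁻¹ * p.1 ∈ N := by
    intro p
    apply hTI _ (p.2 : G) p.2.2
    have h1 := hgr (f p)
    rw [hf] at h1
    have h2 : (gr (f p))⁻¹ * p.1 * (p.2 : G) * ((gr (f p))⁻¹ * p.1)⁻¹ =
        (gr (f p))⁻¹ * (p.1 * p.2 * p.1⁻¹) * gr (f p) := by group
    rw [h2, h1]
    have h3 : (gr (f p))⁻¹ * (gr (f p) * xr (f p) * (gr (f p))⁻¹) * gr (f p) = xr (f p) := by group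
    rw [h3]
    exact hxr (f p)
  have hmemX : ∀ q : csupp X × N, ((q.2 : G))⁻¹ * xr q.1 * (q.2 : G) ∈ X := by
    intro q
    have := hnorm ((q.2 : G))⁻¹ (N.inv_mem q.2.2) (xr q.1) (hxr q.1)
    rwa [inv_inv] at this
  let e : G × X ≃ csupp X × N :=
    { toFun := fun p => (f p, ⟨(gr (f p))⁻¹ * p.1, hmem p⟩)
      invFun := fun q => (gr q.1 * (q.2 : G), ⟨((q.2 : G))⁻¹ * xr q.1 * (q.2 : G), hmemX q⟩)
      left_inv := by
        rintro ⟨g, x⟩
        apply Prod.ext
        · show gr (f (g, x)) * ((gr (f (g, x)))⁻¹ * g) = g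
          rw [mul_inv_cancel_left]
        · apply Subtype.ext
          show ((gr (f (g, x)))⁻¹ * g)⁻¹ * xr (f (g, x)) * ((gr (f (g, x)))⁻¹ * g) = (x : G)
          have h1 := hgr (f (g, x))
          rw [hf] at h1
          have h2 : ((gr (f (g, x)))⁻¹ * g)⁻¹ * xr (f (g, x)) * ((gr (f (g, x)))⁻¹ * g) =
              g⁻¹ * (gr (f (g, x)) * xr (f (g, x)) * (gr (f (g, x)))⁻¹) * g := by group
          rw [h2, ← h1]
          show g⁻¹ * (g * (x : G) * g⁻¹) * g = (x : G)
          group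
      right_inv := by
        rintro ⟨a, n⟩
        have hfp : f (gr a * (n : G), ⟨((n : G))⁻¹ * xr a * (n : G), hmemX (a, n)⟩) = a := by
          apply Subtype.ext
          rw [hf]
          show gr a * (n : G) * (((n : G))⁻¹ * xr a * (n : G)) * (gr a * (n : G))⁻¹ = (a : G)
          rw [hgr a]
          group
        apply Prod.ext
        · exact hfp
        · apply Subtype.ext
          show (gr (f (gr a * (n : G), ⟨((n : G))⁻¹ * xr a * (n : G), hmemX (a, n)⟩)))⁻¹ *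
            (gr a * (n : G)) = (n : G)
          rw [hfp, inv_mul_cancel_left] }
  have hcard := Nat.card_congr e
  rw [Nat.card_prod, Nat.card_prod, Nat.card_coe_set_eq, Nat.card_coe_set_eq] at hcard
  -- hcard : Nat.card G * X.ncard = (csupp X).ncard * Nat.card N
  rw [mul_comm (Nat.card N), ← hcard, mul_comm]

end Cfsg.Agent.Lib.Helper67.BG147
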