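import Cfsg.Agent.Lib.Helper30.Layer
import Cfsg.Agent.Lib.Helper76.Fitting
import Cfsg.Agent.S3743

set_option autoImplicit false

namespace Cfsg.Agent.Lib.Helper67

open Subgroup
open scoped commutatorElement

variable {G : Type*} [Group G]

/-- In a finite group every nontrivial subnormal subgroup contains a minimal nontrivial
subnormal subgroup. -/
theorem exists_minimal_subnormal [Finite G] {L : Subgroup G} (hL : L.IsSubnormal) (hne : L ≠ ⊥) :
    ∃ S : Subgroup G, S ≤ L ∧ S.IsSubnormal ∧ S ≠ ⊥ ∧
      ∀ T : Subgroup G, T.IsSubnormal → T ≤ S → T ≠ ⊥ → T = S := by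
  obtain ⟨S, hS, hmin⟩ := WellFounded.has_min
    (InvImage.wf (fun S : Subgroup G => Nat.card S) Nat.lt_wfRel.wf)
    {S : Subgroup G | S ≤ L ∧ S.IsSubnormal ∧ S ≠ ⊥} ⟨L, le_rfl, hL, hne⟩
  refine ⟨S, hS.1, hS.2.1, hS.2.2, ?_⟩
  intro T hT hTS hTne
  have h1 := hmin T ⟨hTS.trans hS.1, hT, hTne⟩
  have h2 : Nat.card S ≤ Nat.card T := Nat.le_of_not_lt h1
  exact Subgroup.eq_of_le_of_card_ge hTS h2

/-- A minimal nontrivial subnormal subgroup is a simple group. -/
theorem isSimpleGroup_of_minimal_subnormal {S : Subgroup G} (hS : S.IsSubnormal) (hne : S ≠ ⊥)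
    (hmin : ∀ T : Subgroup G, T.IsSubnormal → T ≤ S → T ≠ ⊥ → T = S) : IsSimpleGroup S := by
  have hnt : Nontrivial S := (Subgroup.nontrivial_iff_ne_bot S).mpr hne
  refine ⟨fun H hH => ?_⟩
  by_cases hb : H = ⊥
  · exact Or.inl hb
  · right
    have h1 : (H.map S.subtype).IsSubnormal := (Subgroup.Normal.isSubnormal hH).trans' hS
    have h2 : H.map S.subtype ≤ S := Subgroup.map_subtype_le H
    have h3 : H.map S.subtype ≠ ⊥ := by
      intro h
      apply hb
      rwa [Subgroup.map_eq_bot_iff_of_injective _ S.subtype_injective] at h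
    have h4 := hmin _ h1 h2 h3
    have : H.map S.subtype = (⊤ : Subgroup S).map S.subtype := by
      rw [h4, ← MonoidHom.range_eq_map, Subgroup.range_subtype]
    exact Subgroup.map_injective S.subtype_injective this

/-- A non-commutative simple group is quasisimple. -/
theorem isQuasisimple_of_simple {X : Type*} [Group X] [hX : IsSimpleGroup X]
    (hnc : ¬ IsMulCommutative X) : Cfsg.IsQuasisimple X := by
  have hperf : Group.IsPerfect X := by
    constructor
    rcases hX.eq_bot_or_eq_top_of_normal (commutator X) inferInstance with h | h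
    · exfalso
      apply hnc
      refine ⟨⟨fun a b => ?_⟩⟩
      have : ⁅a, b⁆ ∈ commutator X := by
        rw [commutator_def]
        exact Subgroup.commutator_mem_commutator (Subgroup.mem_top a) (Subgroup.mem_top b)
      rw [h, Subgroup.mem_bot, commutatorElement_eq_one_iff_mul_comm] at this
      exact this
    · exact h
  refine Cfsg.Agent.Lib.Helper30.isQuasisimple_of_normal hperf hX.toNontrivial ?_
  intro N hN
  rcases hX.eq_bot_or_eq_top_of_normal N hN with h | h
  · right
    rw [h]
    exact bot_le
  · exact Or.inl h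

/-- The centre of a non-commutative simple group is trivial. -/
theorem center_eq_bot_of_simple {X : Type*} [Group X] [hX : IsSimpleGroup X]
    (hnc : ¬ IsMulCommutative X) : Subgroup.center X = ⊥ := by
  rcases hX.eq_bot_or_eq_top_of_normal (Subgroup.center X) inferInstance with h | h
  · exact h
  · exact absurd (Subgroup.center_eq_top_iff.mp h) hnc

/-- Product decomposition in a join of two commuting subgroups. -/
theorem mem_sup_of_commute {H J : Subgroup G} (hc : J ≤ centralizer (H : Set G)) {x : G}
    (hx : x ∈ H ⊔ J) : ∃ h ∈ H, ∃ j ∈ J, x = h * j := by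
  have hcomm : ∀ h ∈ H, ∀ j ∈ J, h * j = j * h := fun h hh j hj =>
    (Subgroup.mem_centralizer_iff.mp (hc hj)) h hh
  let K : Subgroup G :=
    { carrier := {x | ∃ h ∈ H, ∃ j ∈ J, x = h * j}
      mul_mem' := by
        rintro _ _ ⟨h, hh, j, hj, rfl⟩ ⟨h', hh', j', hj', rfl⟩
        refine ⟨h * h', H.mul_mem hh hh', j * j', J.mul_mem hj hj', ?_⟩
        calc h * j * (h' * j') = h * (j * h') * j' := by group
          _ = h * (h' * j) * j' := by rw [hcomm h' hh' j hj]
          _ = h * h' * (j * j') := by group
      one_mem' := ⟨1, H.one_mem, 1, J.one_mem, (mul_one 1).symm⟩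
      inv_mem' := by
        rintro _ ⟨h, hh, j, hj, rfl⟩
        refine ⟨h⁻¹, H.inv_mem hh, j⁻¹, J.inv_mem hj, ?_⟩
        rw [mul_inv_rev, hcomm h⁻¹ (H.inv_mem hh) j⁻¹ (J.inv_mem hj)] }
  have hle : H ⊔ J ≤ K :=
    sup_le (fun h hh => ⟨h, hh, 1, J.one_mem, (mul_one h).symm⟩)
      (fun j hj => ⟨1, H.one_mem, j, hj, (one_mul j).symm⟩)
  exact hle hx

/-- A finite family of pairwise commuting subgroups with trivial centres has a join with trivial
centre. -/
theorem finset_sup_centerless (s : Finset (Subgroup G))
    (hcomm : ∀ H ∈ s, ∀ H' ∈ s, H ≠ H' → H' ≤ centralizer (H : Set G))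
    (hz : ∀ H ∈ s, H ⊓ centralizer (H : Set G) = ⊥) :
    (s.sup id) ⊓ centralizer ((s.sup id : Subgroup G) : Set G) = ⊥ := by
  classical
  induction s using Finset.induction_on with
  | empty => simp
  | insert H s hHs ih =>
    rw [Finset.sup_insert, id]
    set J := s.sup id with hJ
    have ih' : J ⊓ centralizer (J : Set G) = ⊥ := by
      apply ih
      · intro A hA B hB hne
        exact hcomm A (Finset.mem_insert_of_mem hA) B (Finset.mem_insert_of_mem hB) hne
      · intro A hA
        exact hz A (Finset.mem_insert_of_mem hA)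
    have hJH : J ≤ centralizer (H : Set G) := by
      apply Finset.sup_le
      intro A hA
      have hne : H ≠ A := fun h => hHs (h ▸ hA)
      exact hcomm H (Finset.mem_insert_self H s) A (Finset.mem_insert_of_mem hA) hne
    have hH0 := hz H (Finset.mem_insert_self H s)
    rw [eq_bot_iff]
    rintro z ⟨hz1, hz2⟩
    obtain ⟨h, hh, j, hj, rfl⟩ := mem_sup_of_commute hJH hz1
    have hzc : h * j ∈ centralizer ((H ⊔ J : Subgroup G) : Set G) := hz2
    have hzH : h * j ∈ centralizer (H : Set G) :=
      Subgroup.centralizer_le (le_sup_left : H ≤ H ⊔ J) hzc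
    have hzJ : h * j ∈ centralizer (J : Set G) :=
      Subgroup.centralizer_le (le_sup_right : J ≤ H ⊔ J) hzc
    have hhc : h ∈ centralizer (H : Set G) := by
      have : h = (h * j) * j⁻¹ := by group
      rw [this]
      exact mul_mem hzH (inv_mem (hJH hj))
    have hh1 : h = 1 := by
      have : h ∈ H ⊓ centralizer (H : Set G) := ⟨hh, hhc⟩
      rw [hH0] at this
      exact Subgroup.mem_bot.mp this
    subst hh1
    rw [one_mul] at hzJ ⊢
    have : j ∈ J ⊓ centralizer (J : Set G) := ⟨hj, hzJ⟩
    rw [ih'] at this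
    exact this

/-- Set version of `finset_sup_centerless` in a finite group. -/
theorem sSup_centerless [Finite G] (S : Set (Subgroup G))
    (hcomm : ∀ H ∈ S, ∀ H' ∈ S, H ≠ H' → H' ≤ centralizer (H : Set G))
    (hz : ∀ H ∈ S, H ⊓ centralizer (H : Set G) = ⊥) :
    (sSup S) ⊓ centralizer ((sSup S : Subgroup G) : Set G) = ⊥ := by
  classical
  have hfin : S.Finite := Set.toFinite S
  have h1 : hfin.toFinset.sup id = sSup S := by
    rw [Finset.sup_id_eq_sSup, Set.Finite.coe_toFinset]
  rw [← h1]
  apply finset_sup_centerless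
  · intro A hA B hB hne
    exact hcomm A (hfin.mem_toFinset.mp hA) B (hfin.mem_toFinset.mp hB) hne
  · intro A hA
    exact hz A (hfin.mem_toFinset.mp hA)

/-- The normal closure of a subgroup is the join of its conjugates. -/
theorem normalClosure_eq_iSup_conj (K : Subgroup G) :
    Subgroup.normalClosure (K : Set G) = ⨆ g : G, K.map (MulAut.conj g).toMonoidHom := by
  apply le_antisymm
  · have hn : (⨆ g : G, K.map (MulAut.conj g).toMonoidHom).Normal := by
      refine ⟨fun n hn g => ?_⟩
      have hmap : (⨆ g' : G, K.map (MulAut.conj g').toMonoidHom).map (MulAut.conj g).toMonoidHom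
          ≤ ⨆ g' : G, K.map (MulAut.conj g').toMonoidHom := by
        rw [Subgroup.map_iSup]
        apply iSup_le
        intro g'
        rw [Subgroup.map_map]
        have : (MulAut.conj g).toMonoidHom.comp (MulAut.conj g').toMonoidHom
            = (MulAut.conj (g * g')).toMonoidHom := by
          ext x; simp [mul_assoc]
        rw [this]
        exact le_iSup (fun g'' : G => K.map (MulAut.conj g'').toMonoidHom) (g * g')
      have := hmap (Subgroup.mem_map_of_mem _ hn)
      simpa using this
    apply Subgroup.normalClosure_le_normal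
    intro x hx
    have : x ∈ K.map (MulAut.conj (1 : G)).toMonoidHom := ⟨x, hx, by simp⟩
    exact (le_iSup (fun g : G => K.map (MulAut.conj g).toMonoidHom) 1) this
  · apply iSup_le
    intro g
    rintro _ ⟨x, hx, rfl⟩
    have hx' : x ∈ Subgroup.normalClosure (K : Set G) := Subgroup.subset_normalClosure hx
    exact Subgroup.normalClosure_normal.conj_mem x hx' g

end Cfsg.Agent.Lib.Helper67
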