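import Mathlib
import Cfsg.Prelude.Def_GeometricClasses
import Cfsg.Agent.Lib.Helper48.ODec.Main

/-!
# K-OOddMax-N2b: `Ω_{2m+1}(q)` is not inside the stabiliser of an orthogonal decomposition into blocks of dimension `≥ 3`

(the first half of `Cfsg.Agent.Lib.Helper48.ODec.maximal_dec`, which only uses `3 ≤ m`.)
-/

set_option autoImplicit false
set_option linter.unusedSectionVars false
set_option linter.unusedVariables false
set_option linter.unusedSimpArgs false

namespace Cfsg.Agent.Lib.Helper67.OOddMax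

open scoped Matrix commutatorElement
open Matrix Module Cfsg.Agent.Lib.Helper48.OSub Cfsg.Agent.Lib.Helper48.ODec
open Cfsg.Agent.Lib.Helper43 hiding Q_add Q_smul
open Cfsg Cfsg.Geo

variable {F : Type*} [Field F] [Fintype F] {m : ℕ}

local notation "Q" => Cfsg.quadFormOdd _ _

theorem omega_not_le_decompositionStabilizer_of_three_le (hodd : Odd (Fintype.card F)) (hm : 3 ≤ m)
    {t k : ℕ} (hk : 3 ≤ k) (D : Fin t → Submodule F (Unit ⊕ (Fin m ⊕ Fin m) → F))
    (hD : IsOrthogonalMDecomposition (quadFormOdd m F) k D) :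
    ¬ omegaGL (quadFormOdd m F) ≤ decompositionStabilizer D := by
  have h2 : (2 : F) ≠ 0 := Cfsg.Agent.Lib.Helper43.two_ne_zero_of_odd_card43 hodd
  have hdec : Dec D := dec_of hD
  have ht2 : 2 ≤ t := hD.decomp.decomp.two_le
  have hk3 : 3 ≤ k := hk
  have hfr : ∀ i, finrank F (D i) = k := hD.decomp.decomp.finrank_eq
  have hND : ∀ i, ND (D i) := hdec.nd
  intro hle
  set i0 : Fin t := ⟨0, by omega⟩ with hi0
  set i1 : Fin t := ⟨1, by omega⟩ with hi1
  have h01 : i0 ≠ i1 := by
    intro h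
    have := congrArg Fin.val h
    simp [hi0, hi1] at this
  obtain ⟨u, hu, hu0, hQu⟩ := exists_singular h2 (D i0) (by rw [hfr]; exact hk3)
  obtain ⟨z, hz, hz0, _⟩ := exists_singular h2 (D i1) (by rw [hfr]; exact hk3)
  have huz : bf u z = 0 := hdec.orth i0 i1 h01 u hu z hz
  have hgΩ : sg h2 u z ∈ Cfsg.Omega F ⇑(Qf m h2) := sg_mem_Omega h2 hm u z hQu huz
  have hmem : ((sg h2 u z : OG m h2) : GL (Idx m) F) ∈
      Cfsg.Geo.omegaGL (Cfsg.quadFormOdd m F) :=
    (mem_omegaGL_iff h2 _).mpr ⟨sg h2 u z, hgΩ, rfl⟩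
  obtain ⟨σ, hσ⟩ := (stabD_iff_mem h2 hdec _).mpr (hle hmem)
  obtain ⟨d, hd, hud⟩ := (hND i0).exists_one hu hu0
  have hdu : bf d u = 1 := by rw [bf_comm]; exact hud
  have h1 := hσ i0 d hd
  rw [sg_act h2 u z hQu huz, hdu, hdec.orth i0 i1 h01 d hd z hz] at h1
  -- the vector `d - Q z • u - z` has two nonzero components
  have hv : d + (0 - Q z * 1) • u - (1 : F) • z = (d - Q z • u) - z := by module
  rw [hv] at h1
  have hc0 : hdec.cmp ((d - Q z • u) - z) i0 = d - Q z • u := by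
    rw [hdec.cmp_sub_apply, hdec.cmp_self ((D i0).sub_mem hd ((D i0).smul_mem _ hu)),
      hdec.cmp_other hz h01, sub_zero]
  have hc1 : hdec.cmp ((d - Q z • u) - z) i1 = -z := by
    rw [hdec.cmp_sub_apply, hdec.cmp_other ((D i0).sub_mem hd ((D i0).smul_mem _ hu))
      (Ne.symm h01), hdec.cmp_self hz, zero_sub]
  have hne0 : d - Q z • u ≠ 0 := by
    intro h
    have : bf (d - Q z • u) u = 1 := by
      rw [bf_sub_left, bf_smul_left, hdu, bf_self, hQu]; ring
    rw [h, bf_zero_left] at this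
    exact zero_ne_one this
  by_cases hσ0 : σ i0 = i0
  · rw [hσ0] at h1
    have := hdec.cmp_other h1 (Ne.symm h01)
    rw [hc1] at this
    exact hz0 (neg_eq_zero.mp this)
  · have := hdec.cmp_other h1 (Ne.symm hσ0)
    rw [hc0] at this
    exact hne0 this

end Cfsg.Agent.Lib.Helper67.OOddMax
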