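import Mathlib
import Cfsg.Prelude.Def_GeometricClasses
import Cfsg.Agent.Lib.Helper61.AschDefs
import Cfsg.Agent.Lib.Helper61.AschBasic
import Cfsg.Agent.Lib.Helper46.AschOBasic

/-!
# K-OEven-B2b: a quadratic field with non-trivial adjoint acts by similarities of `Q`
-/

set_option autoImplicit false
set_option linter.style.haveILetI false
set_option linter.unusedSectionVars false
set_option linter.unusedVariables false

namespace Cfsg.Agent.Lib.Helper67.AschE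

open Cfsg Cfsg.Geo Cfsg.Agent.Lib.Helper61.Asch Cfsg.Agent.Lib.Helper46.AschO
open scoped Matrix Kronecker MatrixGroups

variable {F : Type*} [Field F] [Fintype F] {n : ℕ}

local notation "V" => (Fin n → F)
local notation "Mat" => Matrix (Fin n) (Fin n) F

theorem adjQ_mem_of_closed (Q : V → F) (hQ : IsNondegenerateQuadraticForm Q) (E : Subalgebra F Mat)
    (hac : IsAdjointClosedFor (QuadraticMap.polar Q) E) {k : Mat} (hk : k ∈ E) : adjQ Q k ∈ E := by
  obtain ⟨k', hk', h⟩ := hac k hk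
  rw [← adjQ_unique hQ k k' h]
  exact hk'

theorem exists_adjQ_ne (Q : V → F) (hQ : IsNondegenerateQuadraticForm Q) (E : Subalgebra F Mat)
    (hns : ¬ IsSelfAdjointFor (QuadraticMap.polar Q) E) : ∃ k₀ ∈ E, adjQ Q k₀ ≠ k₀ := by
  by_contra hcon
  push Not at hcon
  apply hns
  intro k hk u v
  rw [polar_adjQ hQ, hcon k hk]

theorem adjQ_zero (Q : V → F) : adjQ Q (0 : Mat) = 0 := by
  unfold adjQ
  rw [Matrix.transpose_zero, mul_zero, zero_mul]

/-- the elements of a quadratic field fixed by a non-trivial adjoint are the scalars -/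
theorem fixed_scalar (Q : V → F) (hQ : IsNondegenerateQuadraticForm Q) (E : Subalgebra F Mat)
    (hE : IsFieldSubalgebra 2 E) (k₀ : Mat) (hk₀ : k₀ ∈ E) (hne : adjQ Q k₀ ≠ k₀) {x : Mat}
    (hx : x ∈ E) (hfix : adjQ Q x = x) : ∃ c : F, x = c • (1 : Mat) := by
  let Fix : Submodule F Mat :=
    { carrier := {y | y ∈ E ∧ adjQ Q y = y}
      add_mem' := fun {a b} ha hb => ⟨E.add_mem ha.1 hb.1, by rw [adjQ_add, ha.2, hb.2]⟩
      zero_mem' := ⟨E.zero_mem, adjQ_zero Q⟩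
      smul_mem' := fun c a ha => ⟨E.smul_mem ha.1 c, by rw [adjQ_smul, ha.2]⟩ }
  have hle : Fix ≤ Subalgebra.toSubmodule E := fun y hy => hy.1
  have hlt : Fix < Subalgebra.toSubmodule E := by
    refine lt_of_le_of_ne hle (fun h => hne ?_)
    have h1 : k₀ ∈ Fix := by rw [h]; exact hk₀
    exact h1.2
  have h2 : Module.finrank F ↥(Subalgebra.toSubmodule E) = 2 :=
    (Subalgebra.finrank_toSubmodule E).trans hE.finrank_eq
  have h1 : Module.finrank F ↥Fix ≤ 1 := by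
    have := Submodule.finrank_lt_finrank_of_lt hlt
    omega
  obtain ⟨v, hv⟩ := finrank_le_one_iff.1 h1
  have hone : (1 : Mat) ∈ Fix := ⟨E.one_mem, adjQ_one hQ⟩
  obtain ⟨c₁, hc₁⟩ := hv ⟨1, hone⟩
  obtain ⟨c₂, hc₂⟩ := hv ⟨x, hx, hfix⟩
  have hc₁' : c₁ • (v : Mat) = 1 := congrArg Subtype.val hc₁
  have hc₂' : c₂ • (v : Mat) = x := congrArg Subtype.val hc₂
  have hc₁0 : c₁ ≠ 0 := by
    rintro rfl
    rw [zero_smul] at hc₁'
    apply hne
    have hall : ∀ y : Mat, y = 0 := fun y => by rw [← mul_one y, ← hc₁', mul_zero]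
    rw [hall k₀, adjQ_zero]
  refine ⟨c₂ * c₁⁻¹, ?_⟩
  rw [← hc₂', ← hc₁', smul_smul, mul_assoc, inv_mul_cancel₀ hc₁0, mul_one]

/-- the characteristic two case: the kernel argument -/
theorem char_two_case (h2 : (2 : F) = 0) (Q : V → F) (hQ : IsNondegenerateQuadraticForm Q)
    (N : Subgroup (GL (Fin n) F)) (hN : N ≤ quadSimilarityGroup Q)
    (E : Subalgebra F Mat) (hE : IsFieldSubalgebra 2 E)
    (hEc : ∀ x ∈ E, x ∈ spanAlg N ∧ ∀ y ∈ spanAlg N, x * y = y * x)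
    (k : Mat) (hk : k ∈ E) (c : F)
    (hB : ∀ u v : V, QuadraticMap.polar Q (k *ᵥ u) (k *ᵥ v) = c * QuadraticMap.polar Q u v)
    (k₀ : Mat) (hk₀ : k₀ ∈ E) (hne : adjQ Q k₀ ≠ k₀) : ∀ v : V, Q (k *ᵥ v) = c * Q v := by
  obtain ⟨ψ, hψ⟩ : ∃ ψ : V → F, ∀ v, ψ v = Q (k *ᵥ v) - c * Q v := ⟨fun v => _, fun v => rfl⟩
  have hψadd : ∀ u v, ψ (u + v) = ψ u + ψ v := by
    intro u v
    have h := hB u v
    unfold QuadraticMap.polar at h
    rw [hψ, hψ, hψ, Matrix.mulVec_add]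
    linear_combination h
  have hψsmul : ∀ (a : F) v, ψ (a • v) = a ^ 2 * ψ v := by
    intro a v
    rw [hψ, hψ, Matrix.mulVec_smul, hQ.smul, hQ.smul]
    ring
  have hψN : ∀ g ∈ N, ∃ μ : F, ∀ v, ψ ((g : Mat) *ᵥ v) = μ * ψ v := by
    intro g hg
    obtain ⟨μ, hμ⟩ := hN hg
    refine ⟨μ, fun v => ?_⟩
    have hcomm : k * (g : Mat) = (g : Mat) * k := (hEc k hk).2 _ (coe_mem_spanAlg hg)
    rw [hψ, hψ, Matrix.mulVec_mulVec, hcomm, ← Matrix.mulVec_mulVec, hμ, hμ]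
    ring
  by_contra hcon
  push Not at hcon
  obtain ⟨u₀, hu₀⟩ := hcon
  have hψu₀ : ψ u₀ ≠ 0 := by
    rw [hψ]
    exact sub_ne_zero.2 hu₀
  have hψ0 : ψ 0 = 0 := by
    have := hψsmul 0 0
    simpa using this
  let W : Submodule F V :=
    { carrier := {v | ψ v = 0}
      add_mem' := fun {a b} ha hb => by
        show ψ (a + b) = 0
        have ha' : ψ a = 0 := ha
        have hb' : ψ b = 0 := hb
        rw [hψadd, ha', hb', add_zero]
      zero_mem' := hψ0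
      smul_mem' := fun a v hv => by
        show ψ (a • v) = 0
        have hv' : ψ v = 0 := hv
        rw [hψsmul, hv', mul_zero] }
  have hWmem : ∀ v, v ∈ W ↔ ψ v = 0 := fun v => Iff.rfl
  have hinv : ∀ a ∈ spanAlg N, ∀ v ∈ W, a *ᵥ v ∈ W := by
    intro a ha
    induction ha using Algebra.adjoin_induction with
    | mem x hx =>
      obtain ⟨g, hg, rfl⟩ := hx
      obtain ⟨μ, hμ⟩ := hψN g hg
      intro v hv
      rw [hWmem] at hv ⊢
      rw [hμ, hv, mul_zero]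
    | algebraMap r =>
      intro v hv
      rw [Algebra.algebraMap_eq_smul_one, Matrix.smul_mulVec, Matrix.one_mulVec]
      exact W.smul_mem r hv
    | add x y _ _ hx hy =>
      intro v hv
      rw [Matrix.add_mulVec]
      exact W.add_mem (hx v hv) (hy v hv)
    | mul x y _ _ hx hy =>
      intro v hv
      rw [← Matrix.mulVec_mulVec]
      exact hx _ (hy v hv)
  have hchar : ringChar F = 2 :=
    CharP.ringChar_of_prime_eq_zero Nat.prime_two (by exact_mod_cast h2)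
  have hsq : ∀ a : F, ∃ r : F, a = r ^ 2 := by
    intro a
    obtain ⟨r, hr⟩ := FiniteField.isSquare_of_char_two hchar a
    exact ⟨r, by rw [hr, sq]⟩
  have hcodim : ∀ v : V, ∃ b : F, v + b • u₀ ∈ W := by
    intro v
    obtain ⟨b, hb⟩ := hsq (ψ v / ψ u₀)
    refine ⟨b, ?_⟩
    rw [hWmem, hψadd, hψsmul, ← hb, div_mul_cancel₀ _ hψu₀, ← two_mul, h2, zero_mul]
  obtain ⟨χ, hχ⟩ := hcodim (k₀ *ᵥ u₀)
  have hd : k₀ + χ • (1 : Mat) ∈ E := E.add_mem hk₀ (E.smul_mem E.one_mem χ)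
  have hdu₀ : (k₀ + χ • (1 : Mat)) *ᵥ u₀ ∈ W := by
    rw [Matrix.add_mulVec, Matrix.smul_mulVec, Matrix.one_mulVec]
    exact hχ
  have hdV : ∀ v : V, (k₀ + χ • (1 : Mat)) *ᵥ v ∈ W := by
    intro v
    obtain ⟨b, hb⟩ := hcodim v
    have h1 := hinv _ (hEc _ hd).1 _ hb
    rw [Matrix.mulVec_add, Matrix.mulVec_smul] at h1
    have h3 := W.sub_mem h1 (W.smul_mem b hdu₀)
    rwa [add_sub_cancel_right] at h3
  have hd0 : k₀ + χ • (1 : Mat) = 0 := by
    by_contra hdne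
    obtain ⟨y, hy, hdy⟩ := hE.inv _ hd hdne
    have h1 := hdV (y *ᵥ u₀)
    rw [Matrix.mulVec_mulVec, hdy, Matrix.one_mulVec] at h1
    exact hψu₀ h1
  apply hne
  have hk₀eq : k₀ = (-χ) • (1 : Mat) := by
    rw [neg_smul]
    exact eq_neg_of_add_eq_zero_left hd0
  rw [hk₀eq, adjQ_smul, adjQ_one hQ]

/-- **K-OEven-B2b** -/
theorem similarity_of_unitary_field (Q : V → F) (hQ : IsNondegenerateQuadraticForm Q)
    (N : Subgroup (GL (Fin n) F)) (hN : N ≤ quadSimilarityGroup Q)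
    (hsimple : IsSimpleRing (spanAlg N)) (hc : Subalgebra.center F (spanAlg N) ≠ ⊥)
    (E : Subalgebra F Mat) (hE : IsFieldSubalgebra 2 E)
    (hEc : ∀ x ∈ E, x ∈ spanAlg N ∧ ∀ y ∈ spanAlg N, x * y = y * x)
    (hac : IsAdjointClosedFor (QuadraticMap.polar Q) E)
    (hns : ¬ IsSelfAdjointFor (QuadraticMap.polar Q) E) :
    ∀ k ∈ E, ∃ c : F, ∀ v : V, Q (k *ᵥ v) = c * Q v := by
  intro k hk
  obtain ⟨k₀, hk₀, hne⟩ := exists_adjQ_ne Q hQ E hns
  have hak : adjQ Q k ∈ E := adjQ_mem_of_closed Q hQ E hac hk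
  obtain ⟨c, hc'⟩ := fixed_scalar Q hQ E hE k₀ hk₀ hne (E.mul_mem hak hk)
    (by rw [adjQ_mul hQ, adjQ_adjQ hQ])
  refine ⟨c, ?_⟩
  have hB : ∀ u v : V,
      QuadraticMap.polar Q (k *ᵥ u) (k *ᵥ v) = c * QuadraticMap.polar Q u v := by
    intro u v
    rw [polar_adjQ hQ, Matrix.mulVec_mulVec, hc', Matrix.smul_mulVec, Matrix.one_mulVec,
      hQ.polar_bilinear.smul_right]
  by_cases h2 : (2 : F) = 0
  · exact char_two_case h2 Q hQ N hN E hE hEc k hk c hB k₀ hk₀ hne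
  · intro v
    rw [Q_eq_half hQ h2, Q_eq_half hQ h2 v, hB]
    ring

end Cfsg.Agent.Lib.Helper67.AschE
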