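import Mathlib
import Cfsg.Agent.Lib.Helper11.Syl22Defs

/-!
# S4346 pack, keystone K-B6 (434615)

An element of `N_G(P)` (`P` a Sylow 3-subgroup of order 3 in the `Ctx` situation) which preserves
every `P`-orbit on `Sylow 3 G` lies in `P`.
-/

set_option autoImplicit false

namespace Cfsg.Agent.Lib.Helper67.Syl22

open Cfsg.Agent.Lib.Helper11.Syl22

variable {G : Type*} [Group G]

/-- `g` maps every Sylow 3-subgroup into its own `P`-orbit. -/
def OP (P : Sylow 3 G) (g : G) : Prop :=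
  ∀ Q : Sylow 3 G, ∃ y ∈ (P : Subgroup G), g • Q = y • Q

theorem smul_smul_conj (g y : G) (Q : Sylow 3 G) :
    g • (y • Q) = (g * y * g⁻¹) • (g • Q) := by
  rw [smul_smul, smul_smul, inv_mul_cancel_right]

theorem OP.mul {P : Sylow 3 G} {a b : G}
    (ha : a ∈ Subgroup.normalizer ((P : Subgroup G) : Set G)) (hOa : OP P a) (hOb : OP P b) :
    OP P (a * b) := by
  intro Q
  obtain ⟨y, hy, hyQ⟩ := hOb Q
  obtain ⟨y', hy', hy'Q⟩ := hOa Q
  refine ⟨a * y * a⁻¹ * y', (P : Subgroup G).mul_mem ?_ hy', ?_⟩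
  · exact (Subgroup.mem_normalizer_iff.1 ha y).1 hy
  · rw [mul_smul, hyQ, smul_smul_conj, hy'Q, smul_smul]

theorem pow_three_eq_one (c : Ctx G) (P : Sylow 3 G) {y : G} (hy : y ∈ (P : Subgroup G)) :
    y ^ 3 = 1 := by
  have _ := c.fin
  have h : (⟨y, hy⟩ : (P : Subgroup G)) ^ 3 = 1 := by
    have h0 := pow_card_eq_one' (G := ↥(P : Subgroup G)) (x := ⟨y, hy⟩)
    rwa [c.h3 P] at h0
  have h2 := congrArg (fun z : (P : Subgroup G) => (z : G)) h
  simpa using h2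

theorem eq_one_of_smul_eq (c : Ctx G) {P Q : Sylow 3 G} (hQP : Q ≠ P) {y : G}
    (hy : y ∈ (P : Subgroup G)) (hyQ : y • Q = Q) : y = 1 := by
  have _ := c.fin
  have hyN : y ∈ Subgroup.normalizer ((Q : Subgroup G) : Set G) :=
    Sylow.smul_eq_iff_mem_normalizer.1 hyQ
  have hinf : y ∈ (P : Subgroup G) ⊓ (Q : Subgroup G) := by
    have hI : (P : Subgroup G) ⊓ Subgroup.normalizer ((Q : Subgroup G) : Set G)
        = (P : Subgroup G) ⊓ (Q : Subgroup G) := IsPGroup.inf_normalizer_sylow P.isPGroup' Q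
    rw [← hI]
    exact Subgroup.mem_inf.2 ⟨hy, hyN⟩
  have hdvd : Nat.card ↥((P : Subgroup G) ⊓ (Q : Subgroup G)) ∣ 3 := by
    have h0 := Subgroup.card_dvd_of_le
      (inf_le_left : (P : Subgroup G) ⊓ (Q : Subgroup G) ≤ (P : Subgroup G))
    rwa [c.h3 P] at h0
  rcases (Nat.dvd_prime Nat.prime_three).1 hdvd with h1 | h3
  · have hbot := Subgroup.card_eq_one.1 h1
    rw [hbot] at hinf
    exact Subgroup.mem_bot.1 hinf
  · exfalso
    apply hQP
    have e1 : (P : Subgroup G) ⊓ (Q : Subgroup G) = (Q : Subgroup G) :=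
      Subgroup.eq_of_le_of_card_ge inf_le_right (by rw [h3, c.h3 Q])
    have e2 : (P : Subgroup G) ⊓ (Q : Subgroup G) = (P : Subgroup G) :=
      Subgroup.eq_of_le_of_card_ge inf_le_left (by rw [h3, c.h3 P])
    exact Sylow.ext (e1.symm.trans e2)

theorem mem_of_commute (c : Ctx G) (hf : Faithful G) (P : Sylow 3 G) (n : G)
    (hn : n ∈ Subgroup.normalizer ((P : Subgroup G) : Set G))
    (hcomm : ∀ y ∈ (P : Subgroup G), n * y = y * n) (h : OP P n) : n ∈ (P : Subgroup G) := by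
  have _ := c.fin
  have hn3 : n ^ 3 = 1 := by
    apply hf
    intro Q
    obtain ⟨y, hy, hyQ⟩ := h Q
    have key : ∀ k : ℕ, n ^ k • Q = y ^ k • Q := by
      intro k
      induction k with
      | zero => simp
      | succ k ih =>
        have hc : n ^ k * y = y * n ^ k :=
          (Commute.pow_left (show Commute n y from hcomm y hy) k).eq
        calc n ^ (k + 1) • Q = n ^ k • (n • Q) := by rw [pow_succ, mul_smul]
          _ = n ^ k • (y • Q) := by rw [hyQ]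
          _ = (n ^ k * y) • Q := by rw [mul_smul]
          _ = (y * n ^ k) • Q := by rw [hc]
          _ = y • (n ^ k • Q) := by rw [mul_smul]
          _ = y • (y ^ k • Q) := by rw [ih]
          _ = y ^ (k + 1) • Q := by rw [pow_succ', mul_smul]
    rw [key 3, pow_three_eq_one c P hy, one_smul]
  have hord : orderOf n ∣ 3 := orderOf_dvd_of_pow_eq_one hn3
  have hpg : IsPGroup 3 (Subgroup.zpowers n) := by
    rcases (Nat.dvd_prime Nat.prime_three).1 hord with h1 | h3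
    · exact IsPGroup.of_card (n := 0) (by rw [Nat.card_zpowers, h1, pow_zero])
    · exact IsPGroup.of_card (n := 1) (by rw [Nat.card_zpowers, h3, pow_one])
  have hmem : n ∈ Subgroup.zpowers n ⊓ Subgroup.normalizer ((P : Subgroup G) : Set G) :=
    Subgroup.mem_inf.2 ⟨Subgroup.mem_zpowers n, hn⟩
  have hI : Subgroup.zpowers n ⊓ Subgroup.normalizer ((P : Subgroup G) : Set G)
      = Subgroup.zpowers n ⊓ (P : Subgroup G) := IsPGroup.inf_normalizer_sylow hpg P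
  rw [hI] at hmem
  exact (Subgroup.mem_inf.1 hmem).2

theorem mem_cases (c : Ctx G) (P : Sylow 3 G) {y₀ y : G} (hy₀ : y₀ ∈ (P : Subgroup G))
    (h1 : y₀ ≠ 1) (hy : y ∈ (P : Subgroup G)) : y = 1 ∨ y = y₀ ∨ y = y₀⁻¹ := by
  have _ := c.fin
  have _ : Fact (Nat.Prime 3) := ⟨Nat.prime_three⟩
  have h3 : y₀ ^ 3 = 1 := pow_three_eq_one c P hy₀
  have horder : orderOf y₀ = 3 := orderOf_eq_prime h3 h1
  have hz : Subgroup.zpowers y₀ = (P : Subgroup G) :=
    Subgroup.eq_of_le_of_card_ge ((Subgroup.zpowers_le).2 hy₀)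
      (by rw [Nat.card_zpowers, horder, c.h3 P])
  rw [← hz, ← mem_powers_iff_mem_zpowers, Submonoid.mem_powers_iff] at hy
  obtain ⟨k, rfl⟩ := hy
  rw [← pow_mod_orderOf, horder]
  have hk : k % 3 < 3 := Nat.mod_lt _ (by norm_num)
  generalize k % 3 = m at hk
  interval_cases m
  · left; exact pow_zero _
  · right; left; exact pow_one _
  · right; right
    exact eq_inv_of_mul_eq_one_left ((pow_succ y₀ 2).symm.trans h3)

theorem conj_eq_inv (c : Ctx G) (P : Sylow 3 G) {n y₀ : G}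
    (hn : n ∈ Subgroup.normalizer ((P : Subgroup G) : Set G))
    (hy₀ : y₀ ∈ (P : Subgroup G)) (hne : n * y₀ ≠ y₀ * n) :
    ∀ y ∈ (P : Subgroup G), n * y * n⁻¹ = y⁻¹ := by
  have h1 : y₀ ≠ 1 := by
    intro h
    exact hne (by rw [h, mul_one, one_mul])
  have hw : n * y₀ * n⁻¹ ∈ (P : Subgroup G) := (Subgroup.mem_normalizer_iff.1 hn y₀).1 hy₀
  have hw' : n * y₀ * n⁻¹ = y₀⁻¹ := by
    rcases mem_cases c P hy₀ h1 hw with h | h | h
    · exact absurd (conj_eq_one_iff.1 h) h1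
    · exact absurd (mul_inv_eq_iff_eq_mul.1 h) hne
    · exact h
  intro y hy
  rcases mem_cases c P hy₀ h1 hy with h | h | h
  · rw [h]; simp
  · rw [h]; exact hw'
  · rw [h, ← conj_inv, hw']

theorem fixN_eq_eight (c : Ctx G) (P : Sylow 3 G) (t : G)
    (ht : t ∈ Subgroup.normalizer ((P : Subgroup G) : Set G)) (hO : OP P t)
    (hsw : ∀ y ∈ (P : Subgroup G), t * y = y⁻¹ * t) : fixN t = 8 := by
  have _ := c.fin
  have _ : Finite (Sylow 3 G) := Nat.finite_of_card_ne_zero (by rw [c.h22]; norm_num)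
  set F : Set (Sylow 3 G) := MulAction.fixedBy (Sylow 3 G) t with hF
  have hPF : P ∈ F := by
    show t • P = P
    exact Sylow.smul_eq_iff_mem_normalizer.2 ht
  have hPfix : ∀ y ∈ (P : Subgroup G), y • P = P := fun y hy =>
    Sylow.smul_eq_iff_mem_normalizer.2 (Subgroup.le_normalizer hy)
  have hsq : ∀ y ∈ (P : Subgroup G), y * y = y⁻¹ := fun y hy =>
    eq_inv_of_mul_eq_one_left (by
      rw [← pow_two]; exact (pow_succ y 2).symm.trans (pow_three_eq_one c P hy))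
  have htact : ∀ y ∈ (P : Subgroup G), ∀ Q : Sylow 3 G, t • (y • Q) = y⁻¹ • (t • Q) := by
    intro y hy Q
    rw [smul_smul, hsw y hy, mul_smul]
  let f : Sylow 3 G × G → Sylow 3 G := fun p => p.2 • p.1
  let s : Set (Sylow 3 G × G) := (F \ {P}) ×ˢ ((P : Subgroup G) : Set G)
  have hinj : Set.InjOn f s := by
    rintro ⟨Q₁, y₁⟩ ⟨⟨hQ₁F, hQ₁P⟩, hy₁⟩ ⟨Q₂, y₂⟩ ⟨⟨hQ₂F, hQ₂P⟩, hy₂⟩ heq
    change y₁ • Q₁ = y₂ • Q₂ at heq
    have hQ₁t : t • Q₁ = Q₁ := hQ₁F
    have hQ₂t : t • Q₂ = Q₂ := hQ₂F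
    have hy₁' : y₁ ∈ (P : Subgroup G) := hy₁
    have hy₂' : y₂ ∈ (P : Subgroup G) := hy₂
    have hQ₁ne : Q₁ ≠ P := fun h => hQ₁P (Set.mem_singleton_iff.2 h)
    have heq' : y₁⁻¹ • Q₁ = y₂⁻¹ • Q₂ := by
      have h0 : t • (y₁ • Q₁) = t • (y₂ • Q₂) := by rw [heq]
      rwa [htact y₁ hy₁', htact y₂ hy₂', hQ₁t, hQ₂t] at h0
    have e1 : Q₂ = (y₂⁻¹ * y₁) • Q₁ := by rw [mul_smul, heq, inv_smul_smul]
    have e2 : Q₂ = (y₂ * y₁⁻¹) • Q₁ := by rw [mul_smul, heq', smul_inv_smul]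
    have e3 : ((y₂ * y₁⁻¹)⁻¹ * (y₂⁻¹ * y₁)) • Q₁ = Q₁ := by
      rw [mul_smul, ← e1]
      conv_lhs => rw [e2]
      rw [inv_smul_smul]
    have hz : (y₂ * y₁⁻¹)⁻¹ * (y₂⁻¹ * y₁) = 1 :=
      eq_one_of_smul_eq c hQ₁ne
        (mul_mem (inv_mem (mul_mem hy₂' (inv_mem hy₁'))) (mul_mem (inv_mem hy₂') hy₁')) e3
    have hz' : y₂⁻¹ * y₁ = y₂ * y₁⁻¹ := (inv_mul_eq_one.1 hz).symm
    have hsq' : y₁ * y₁ = y₂ * y₂ := by
      calc y₁ * y₁ = y₂ * (y₂⁻¹ * y₁) * y₁ := by group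
        _ = y₂ * (y₂ * y₁⁻¹) * y₁ := by rw [hz']
        _ = y₂ * y₂ := by group
    have hy : y₁ = y₂ :=
      inv_injective (by rw [← hsq y₁ hy₁', ← hsq y₂ hy₂', hsq'])
    subst hy
    have hQ : Q₁ = Q₂ := smul_left_cancel y₁ heq
    rw [hQ]
  have himg : f '' s = ({P} : Set (Sylow 3 G))ᶜ := by
    ext Q
    simp only [Set.mem_image, Set.mem_compl_iff, Set.mem_singleton_iff]
    constructor
    · rintro ⟨⟨Q', y⟩, ⟨⟨hQ'F, hQ'P⟩, hy⟩, hfQ⟩
      intro hP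
      apply hQ'P
      have hy' : y ∈ (P : Subgroup G) := hy
      have hP' : y • Q' = P := by rw [← hP, ← hfQ]
      have : Q' = y⁻¹ • P := by rw [← hP', inv_smul_smul]
      rw [this, hPfix y⁻¹ (inv_mem hy')]
      exact Set.mem_singleton P
    · intro hQP
      obtain ⟨y', hy', hQ⟩ := hO Q
      refine ⟨(y'⁻¹ • Q, y'), ⟨⟨?_, ?_⟩, hy'⟩, ?_⟩
      · show t • (y'⁻¹ • Q) = y'⁻¹ • Q
        rw [htact y'⁻¹ (inv_mem hy'), inv_inv, hQ, smul_smul, hsq y' hy']
      · intro hmem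
        have hmem' : y'⁻¹ • Q = P := hmem
        apply hQP
        have : Q = y' • P := by rw [← hmem', smul_inv_smul]
        rw [this, hPfix y' hy']
      · show y' • (y'⁻¹ • Q) = Q
        exact smul_inv_smul y' Q
  have hcard : (f '' s).ncard = s.ncard := Set.InjOn.ncard_image hinj
  have hP3 : (((P : Subgroup G) : Set G)).ncard = 3 := by
    rw [← Nat.card_coe_set_eq]; exact c.h3 P
  have hs : s.ncard = (F.ncard - 1) * 3 := by
    show ((F \ {P}) ×ˢ ((P : Subgroup G) : Set G)).ncard = _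
    rw [Set.ncard_prod, Set.ncard_sdiff_singleton_of_mem hPF, hP3]
  have hcompl : (({P} : Set (Sylow 3 G))ᶜ).ncard = 21 := by
    rw [Set.ncard_compl, Set.ncard_singleton, c.h22]
  have hFn : fixN t = F.ncard := Nat.card_coe_set_eq F
  rw [himg, hcompl, hs] at hcard
  rw [hFn]; omega

theorem false_of_not_commute (c : Ctx G) (hf : Faithful G) (hinv : InvFix G) (P : Sylow 3 G)
    (n : G) (hn : n ∈ Subgroup.normalizer ((P : Subgroup G) : Set G)) (h : OP P n)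
    {y₀ : G} (hy₀ : y₀ ∈ (P : Subgroup G)) (hne : n * y₀ ≠ y₀ * n) : False := by
  have hinvt := conj_eq_inv c P hn hy₀ hne
  have hsw : ∀ y ∈ (P : Subgroup G), n * y = y⁻¹ * n :=
    fun y hy => mul_inv_eq_iff_eq_mul.1 (hinvt y hy)
  have hcomm2 : ∀ y ∈ (P : Subgroup G), n ^ 2 * y = y * n ^ 2 := by
    intro y hy
    calc n ^ 2 * y = n * (n * y) := by rw [pow_two, mul_assoc]
      _ = n * (y⁻¹ * n) := by rw [hsw y hy]
      _ = (n * y⁻¹) * n := by rw [mul_assoc]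
      _ = (y⁻¹⁻¹ * n) * n := by rw [hsw y⁻¹ (inv_mem hy)]
      _ = y * n ^ 2 := by rw [inv_inv, pow_two, mul_assoc]
  have hn2N : n ^ 2 ∈ Subgroup.normalizer ((P : Subgroup G) : Set G) := pow_mem hn 2
  have hO2 : OP P (n ^ 2) := by
    rw [pow_two]; exact OP.mul hn h h
  have hn2P : n ^ 2 ∈ (P : Subgroup G) := mem_of_commute c hf P (n ^ 2) hn2N hcomm2 hO2
  have e3 : n ^ 3 = n ^ 2 * n := pow_succ n 2
  have ht2 : (n ^ 3) ^ 2 = 1 := by
    rw [← pow_mul, show 3 * 2 = 2 * 3 from rfl, pow_mul]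
    exact pow_three_eq_one c P hn2P
  have htN : n ^ 3 ∈ Subgroup.normalizer ((P : Subgroup G) : Set G) := pow_mem hn 3
  have hOt : OP P (n ^ 3) := by
    rw [e3]; exact OP.mul hn2N hO2 h
  have hswt : ∀ y ∈ (P : Subgroup G), n ^ 3 * y = y⁻¹ * n ^ 3 := by
    intro y hy
    calc n ^ 3 * y = n ^ 2 * (n * y) := by rw [e3, mul_assoc]
      _ = n ^ 2 * (y⁻¹ * n) := by rw [hsw y hy]
      _ = (n ^ 2 * y⁻¹) * n := by rw [mul_assoc]
      _ = (y⁻¹ * n ^ 2) * n := by rw [hcomm2 y⁻¹ (inv_mem hy)]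
      _ = y⁻¹ * n ^ 3 := by rw [mul_assoc, ← e3]
  have h8 : fixN (n ^ 3) = 8 := fixN_eq_eight c P (n ^ 3) htN hOt hswt
  have hmod := hinv (n ^ 3) ht2
  rw [h8] at hmod
  exact absurd hmod (by decide)

/-- K-B6 (434615). -/
theorem mem_of_preserves_orbits {G : Type*} [Group G] (c : Ctx G) (hf : Faithful G)
    (hinv : InvFix G) (P : Sylow 3 G) (n : G)
    (hn : n ∈ Subgroup.normalizer ((P : Subgroup G) : Set G))
    (h : ∀ Q : Sylow 3 G, ∃ y ∈ (P : Subgroup G), n • Q = y • Q) : n ∈ (P : Subgroup G) := by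
  by_cases hcomm : ∀ y ∈ (P : Subgroup G), n * y = y * n
  · exact mem_of_commute c hf P n hn hcomm h
  · exfalso
    push Not at hcomm
    obtain ⟨y₀, hy₀, hne⟩ := hcomm
    exact false_of_not_commute c hf hinv P n hn h hy₀ hne

end Cfsg.Agent.Lib.Helper67.Syl22
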