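import Mathlib
import Cfsg.Agent.Lib.Helper11.ZassDefs

/-!
# K-S0690-2: a group generated by elements of order three preserving a two-dimensional frame in a
fixed-point-free representation embeds in `SL₂(K)`
-/

set_option autoImplicit false
set_option linter.style.haveILetI false
set_option linter.unusedSectionVars false

namespace Cfsg.Agent.Lib.Helper67.Zass

open Cfsg.Agent.Lib.Helper11.Zass

section Frame
variable {K : Type*} [Field K]
variable {V : Type*} [AddCommGroup V] [Module K V]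
variable {G : Type*} [Group G]

/-- the frame map `(a, b) ↦ a w₁ + b w₂` -/
def frame (w₁ w₂ : V) : (Fin 2 → K) →ₗ[K] V where
  toFun v := v 0 • w₁ + v 1 • w₂
  map_add' u v := by simp only [Pi.add_apply]; module
  map_smul' c v := by simp only [Pi.smul_apply, smul_eq_mul, RingHom.id_apply]; module

theorem frame_apply (w₁ w₂ : V) (v : Fin 2 → K) :
    frame (K := K) w₁ w₂ v = v 0 • w₁ + v 1 • w₂ := rfl

theorem frame_injective {w₁ w₂ : V} (hli : LinearIndependent K ![w₁, w₂]) :
    Function.Injective (frame (K := K) w₁ w₂) := by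
  rw [← LinearMap.ker_eq_bot, LinearMap.ker_eq_bot']
  intro v hv
  rw [frame_apply] at hv
  obtain ⟨h0, h1⟩ := LinearIndependent.pair_iff.1 hli _ _ hv
  funext i
  fin_cases i
  · exact h0
  · exact h1

/-- `g` acts on the frame through the matrix `M` -/
def Rel (ρ : G →* Module.End K V) (w₁ w₂ : V) (g : G)
    (M : Matrix.SpecialLinearGroup (Fin 2) K) : Prop :=
  (ρ g).comp (frame w₁ w₂) =
    (frame w₁ w₂).comp (Matrix.toLin' (M : Matrix (Fin 2) (Fin 2) K))

theorem rel_one (ρ : G →* Module.End K V) (w₁ w₂ : V) : Rel ρ w₁ w₂ 1 1 := by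
  unfold Rel
  rw [map_one, Matrix.SpecialLinearGroup.coe_one, Matrix.toLin'_one]
  rfl

theorem rel_mul (ρ : G →* Module.End K V) (w₁ w₂ : V) {g h : G}
    {M N : Matrix.SpecialLinearGroup (Fin 2) K} (hM : Rel ρ w₁ w₂ g M) (hN : Rel ρ w₁ w₂ h N) :
    Rel ρ w₁ w₂ (g * h) (M * N) := by
  unfold Rel at *
  rw [map_mul, Matrix.SpecialLinearGroup.coe_mul, Matrix.toLin'_mul, ← LinearMap.comp_assoc, ← hM,
    LinearMap.comp_assoc, ← hN]
  rfl

theorem rel_inv (ρ : G →* Module.End K V) (w₁ w₂ : V) {g : G}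
    {M : Matrix.SpecialLinearGroup (Fin 2) K} (hM : Rel ρ w₁ w₂ g M) :
    Rel ρ w₁ w₂ g⁻¹ M⁻¹ := by
  have h1 : Rel ρ w₁ w₂ (g⁻¹ * g) (1 : Matrix.SpecialLinearGroup (Fin 2) K) := by
    rw [inv_mul_cancel]; exact rel_one ρ w₁ w₂
  unfold Rel at *
  -- ρ g⁻¹ ∘ ι = ρ g⁻¹ ∘ ι ∘ (M * M⁻¹) = ρ g⁻¹ ∘ ρ g ∘ ι ∘ M⁻¹ = ι ∘ M⁻¹
  have h2 : (Matrix.toLin' (M : Matrix (Fin 2) (Fin 2) K)).comp
      (Matrix.toLin' ((M⁻¹ : Matrix.SpecialLinearGroup (Fin 2) K) : Matrix (Fin 2) (Fin 2) K)) =
      LinearMap.id := by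
    rw [← Matrix.toLin'_mul, ← Matrix.SpecialLinearGroup.coe_mul, mul_inv_cancel,
      Matrix.SpecialLinearGroup.coe_one, Matrix.toLin'_one]
  calc (ρ g⁻¹).comp (frame w₁ w₂)
      = ((ρ g⁻¹).comp (frame w₁ w₂)).comp ((Matrix.toLin' (M : Matrix (Fin 2) (Fin 2) K)).comp
          (Matrix.toLin' ((M⁻¹ : Matrix.SpecialLinearGroup (Fin 2) K) :
            Matrix (Fin 2) (Fin 2) K))) := by rw [h2, LinearMap.comp_id]
    _ = (ρ g⁻¹).comp ((((frame w₁ w₂).comp (Matrix.toLin' (M : Matrix (Fin 2) (Fin 2) K)))).comp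
          (Matrix.toLin' ((M⁻¹ : Matrix.SpecialLinearGroup (Fin 2) K) :
            Matrix (Fin 2) (Fin 2) K))) := by simp only [LinearMap.comp_assoc]
    _ = (ρ g⁻¹).comp (((ρ g).comp (frame w₁ w₂)).comp
          (Matrix.toLin' ((M⁻¹ : Matrix.SpecialLinearGroup (Fin 2) K) :
            Matrix (Fin 2) (Fin 2) K))) := by rw [hM]
    _ = ((ρ (g⁻¹ * g)).comp (frame w₁ w₂)).comp
          (Matrix.toLin' ((M⁻¹ : Matrix.SpecialLinearGroup (Fin 2) K) :
            Matrix (Fin 2) (Fin 2) K)) := by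
        rw [map_mul]; simp only [LinearMap.comp_assoc]; rfl
    _ = (frame w₁ w₂).comp (Matrix.toLin' ((M⁻¹ : Matrix.SpecialLinearGroup (Fin 2) K) :
            Matrix (Fin 2) (Fin 2) K)) := by
        rw [h1, Matrix.SpecialLinearGroup.coe_one, Matrix.toLin'_one, LinearMap.comp_id]

theorem rel_unique (ρ : G →* Module.End K V) {w₁ w₂ : V} (hli : LinearIndependent K ![w₁, w₂])
    {g : G} {M N : Matrix.SpecialLinearGroup (Fin 2) K} (hM : Rel ρ w₁ w₂ g M)
    (hN : Rel ρ w₁ w₂ g N) : M = N := by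
  unfold Rel at *
  rw [hM] at hN
  have h1 := (LinearMap.cancel_left (frame_injective hli)).1 hN
  apply Subtype.ext
  exact Matrix.toLin'.injective h1

/-- elements of order three in a fixed-point-free representation satisfy `X² + X + 1 = 0` -/
theorem sq_add_self_add_one (ρ : G →* Module.End K V) (hρ : IsFpf ρ) {s : G}
    (hs : orderOf s = 3) (v : V) : ρ s (ρ s v) + ρ s v + v = 0 := by
  have hs1 : s ≠ 1 := by
    intro h
    rw [h, orderOf_one] at hs
    norm_num at hs
  apply hρ s hs1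
  have h3 : ρ s (ρ s (ρ s v)) = v := by
    have hpow : s ^ 3 = 1 := by rw [← hs]; exact pow_orderOf_eq_one s
    have h := congrArg (fun f : Module.End K V => f v) (congrArg ρ hpow)
    simp only [map_pow, map_one, Module.End.one_apply] at h
    rw [pow_succ, pow_succ, pow_one, Module.End.mul_apply, Module.End.mul_apply] at h
    exact h
  rw [map_add, map_add, h3]
  abel

theorem planar_of_frame (ρ : G →* Module.End K V) (hρ : IsFpf ρ) (S : Set G)
    (hS3 : ∀ s ∈ S, orderOf s = 3) (hSnc : ∀ s ∈ S, ∃ t ∈ S, s * t ≠ t * s)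
    (w₁ w₂ : V) (hli : LinearIndependent K ![w₁, w₂])
    (hinv : ∀ s ∈ S, (∃ a c : K, ρ s w₁ = a • w₁ + c • w₂) ∧ (∃ b d : K, ρ s w₂ = b • w₁ + d • w₂)) :
    Planar K (Subgroup.closure S) := by
  classical
  have hw₁ : w₁ ≠ 0 := by
    have := hli.ne_zero 0
    simpa using this
  have hpair := LinearIndependent.pair_iff.1 hli
  -- the generators act through matrices of determinant one
  have hgen : ∀ s ∈ S, ∃ M : Matrix.SpecialLinearGroup (Fin 2) K, Rel ρ w₁ w₂ s M := by
    intro s hs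
    obtain ⟨⟨a, c, hac⟩, ⟨b, d, hbd⟩⟩ := hinv s hs
    have hq := sq_add_self_add_one ρ hρ (hS3 s hs)
    have e1 := hq w₁
    rw [hac, map_add, map_smul, map_smul, hac, hbd] at e1
    have e1' : (a * a + b * c + a + 1) • w₁ + (a * c + c * d + c) • w₂ = 0 := by
      rw [← e1]; module
    obtain ⟨E1, E2⟩ := hpair _ _ e1'
    have e2 := hq w₂
    rw [hbd, map_add, map_smul, map_smul, hac, hbd] at e2
    have e2' : (a * b + b * d + b) • w₁ + (b * c + d * d + d + 1) • w₂ = 0 := by
      rw [← e2]; module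
    obtain ⟨E3, E4⟩ := hpair _ _ e2'
    have hns : ¬ (b = 0 ∧ c = 0 ∧ a = d) := by
      rintro ⟨hb, hc, had⟩
      obtain ⟨t, ht, hst⟩ := hSnc s hs
      obtain ⟨⟨a', c', hac'⟩, -⟩ := hinv t ht
      apply hst
      have hs₁ : ρ s w₁ = a • w₁ := by rw [hac, hc, zero_smul, add_zero]
      have hs₂ : ρ s w₂ = a • w₂ := by rw [hbd, hb, ← had, zero_smul, zero_add]
      have h1 : ρ (s * t) w₁ = ρ (t * s) w₁ := by
        rw [map_mul, map_mul, Module.End.mul_apply, Module.End.mul_apply, hac', map_add, map_smul,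
          map_smul, hs₁, hs₂, map_smul, hac']
        module
      by_contra hne
      have hne' : (t * s)⁻¹ * (s * t) ≠ 1 := by
        intro h
        exact hne (inv_mul_eq_one.1 h).symm
      apply hw₁
      apply hρ _ hne'
      rw [map_mul, Module.End.mul_apply, h1, ← Module.End.mul_apply, ← map_mul, inv_mul_cancel,
        map_one, Module.End.one_apply]
    have htr : a + d + 1 = 0 := by
      by_cases hb : b = 0
      · by_cases hc : c = 0
        · have had : a ≠ d := fun h => hns ⟨hb, hc, h⟩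
          have h0 : (a - d) * (a + d + 1) = 0 := by linear_combination E1 - E4
          rcases mul_eq_zero.1 h0 with h | h
          · exact absurd (sub_eq_zero.1 h) had
          · exact h
        · have h0 : c * (a + d + 1) = 0 := by linear_combination E2
          exact (mul_eq_zero.1 h0).resolve_left hc
      · have h0 : b * (a + d + 1) = 0 := by linear_combination E3
        exact (mul_eq_zero.1 h0).resolve_left hb
    have hdet : (Matrix.of ![![a, b], ![c, d]]).det = 1 := by
      rw [Matrix.det_fin_two_of]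
      linear_combination (-1 : K) * E1 + a * htr
    refine ⟨⟨Matrix.of ![![a, b], ![c, d]], hdet⟩, ?_⟩
    unfold Rel
    apply LinearMap.ext
    intro v
    simp only [LinearMap.comp_apply, frame_apply, Matrix.toLin'_apply, map_add, map_smul, hac, hbd]
    simp only [Matrix.mulVec, dotProduct, Fin.sum_univ_two, Matrix.of_apply, Matrix.cons_val_zero,
      Matrix.cons_val_one]
    module
  -- the subgroup of elements acting through matrices
  let T : Subgroup G :=
    { carrier := {g | ∃ M : Matrix.SpecialLinearGroup (Fin 2) K, Rel ρ w₁ w₂ g M}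
      one_mem' := ⟨1, rel_one ρ w₁ w₂⟩
      mul_mem' := by
        rintro g h ⟨M, hM⟩ ⟨N, hN⟩
        exact ⟨M * N, rel_mul ρ w₁ w₂ hM hN⟩
      inv_mem' := by
        rintro g ⟨M, hM⟩
        exact ⟨M⁻¹, rel_inv ρ w₁ w₂ hM⟩ }
  have hle : Subgroup.closure S ≤ T := (Subgroup.closure_le T).2 hgen
  have hex : ∀ g : Subgroup.closure S,
      ∃ M : Matrix.SpecialLinearGroup (Fin 2) K, Rel ρ w₁ w₂ (g : G) M := fun g => hle g.2
  choose ψ hψ using hex
  have hmul : ∀ g h : Subgroup.closure S, ψ (g * h) = ψ g * ψ h := by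
    intro g h
    exact rel_unique ρ hli (hψ (g * h)) (rel_mul ρ w₁ w₂ (hψ g) (hψ h))
  refine ⟨MonoidHom.mk' ψ hmul, ?_⟩
  rw [injective_iff_map_eq_one]
  intro g hg
  have hg' : ψ g = 1 := hg
  have h1 := hψ g
  rw [hg'] at h1
  unfold Rel at h1
  have h2 := congrArg (fun f : (Fin 2 → K) →ₗ[K] V => f ![1, 0]) h1
  simp only [LinearMap.comp_apply, frame_apply, Matrix.SpecialLinearGroup.coe_one,
    Matrix.toLin'_one, LinearMap.id_apply, Matrix.cons_val_zero, Matrix.cons_val_one, one_smul,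
    zero_smul, add_zero] at h2
  by_contra hne
  have hne' : (g : G) ≠ 1 := fun h => hne (Subtype.ext h)
  exact hw₁ (hρ _ hne' w₁ h2)

end Frame

end Cfsg.Agent.Lib.Helper67.Zass
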