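import Mathlib
import Cfsg.Agent.Lib.Helper17.Aut3Defs

/-!
# K-S3117-A3: isometries of order 3 and 5 of an anisotropic quadratic map `16 → 4` cannot coexist
-/

set_option autoImplicit false
set_option linter.style.haveILetI false
set_option linter.unusedSectionVars false
set_option linter.unusedDecidableInType false
set_option linter.unusedFintypeInType false

namespace Cfsg.Agent.Lib.Helper67.Aut3

open Cfsg.Agent.Lib.Helper17.Aut3

/-- counting modulo `p` on an invariant finset of a map with `g^[p] = id` -/
theorem card_modEq_card_filter_fixed {W : Type*} [DecidableEq W] (g : W → W) (p : ℕ)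
    [hp : Fact p.Prime] (hg : ∀ w, g^[p] w = w) (S : Finset W) (hS : ∀ w ∈ S, g w ∈ S) :
    S.card ≡ (S.filter (fun w => g w = w)).card [MOD p] := by
  classical
  let f : Function.End S := fun w => ⟨g w.1, hS w.1 w.2⟩
  have hiter : ∀ (n : ℕ) (w : S), (((f ^ n) w : S) : W) = g^[n] w.1 := by
    intro n
    induction n with
    | zero => intro w; rfl
    | succ n ih =>
      intro w
      rw [pow_succ', Function.iterate_succ']
      show g ((f ^ n) w : S).1 = _
      rw [ih w]
      rfl
  have hf : f ^ p ^ 1 = 1 := by
    rw [pow_one]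
    funext w
    apply Subtype.ext
    rw [hiter]
    exact hg _
  have key := Equiv.Perm.card_fixedPoints_modEq (f := f) (p := p) (n := 1) hf
  rw [Fintype.card_coe] at key
  refine key.trans ?_
  have : Fintype.card (Function.fixedPoints f) = (S.filter (fun w => g w = w)).card := by
    rw [← Fintype.card_coe]
    refine Fintype.card_congr ⟨fun w => ⟨w.1.1, ?_⟩, fun w => ⟨⟨w.1, (Finset.mem_filter.1 w.2).1⟩, ?_⟩,
      fun w => rfl, fun w => rfl⟩
    · have := w.2
      rw [Function.mem_fixedPoints, Function.IsFixedPt] at this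
      exact Finset.mem_filter.2 ⟨w.1.2, congrArg Subtype.val this⟩
    · rw [Function.mem_fixedPoints, Function.IsFixedPt]
      exact Subtype.ext (Finset.mem_filter.1 w.2).2
  rw [this]

/-- the fixed points of an additive automorphism of a group of order 16 number `2^k`. -/
theorem card_fixed_eq_two_pow {W : Type*} [AddCommGroup W] [Fintype W] [DecidableEq W]
    (hW : Fintype.card W = 16) (g : W ≃+ W) :
    ∃ k ≤ 4, (Finset.univ.filter (fun w => g w = w)).card = 2 ^ k := by
  let C : AddSubgroup W :=
    { carrier := {w | g w = w}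
      zero_mem' := map_zero g
      add_mem' := fun {a b} ha hb => by
        change g (a + b) = a + b
        rw [map_add, show g a = a from ha, show g b = b from hb]
      neg_mem' := fun {a} ha => by
        change g (-a) = -a
        rw [map_neg, show g a = a from ha] }
  have hcard : (Finset.univ.filter (fun w => g w = w)).card = Nat.card C := by
    rw [← Fintype.card_subtype, ← Nat.card_eq_fintype_card]
    rfl
  have hdvd : Nat.card C ∣ 2 ^ 4 := by
    have := AddSubgroup.card_addSubgroup_dvd_card C
    rw [Nat.card_eq_fintype_card (α := W), hW] at this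
    exact this
  obtain ⟨k, hk, hk2⟩ := (Nat.dvd_prime_pow Nat.prime_two).1 hdvd
  exact ⟨k, hk, hcard.trans hk2⟩

theorem no_three_and_five {W U : Type*} [AddCommGroup W] [AddCommGroup U] [Finite W] [Finite U]
    {q : W → U} {β : W → W → U} (h : AnisoQuad q β) (hW : Nat.card W = 16) (hU : Nat.card U = 4)
    (hodd : ∀ u : U, u ≠ 0 → Odd (Nat.card {w : W // q w = u}))
    (g₃ g₅ : W ≃+ W) (h3 : ∀ w, (⇑g₃)^[3] w = w) (h5 : ∀ w, (⇑g₅)^[5] w = w)
    (hq3 : ∀ w, q (g₃ w) = q w) (hq5 : ∀ w, q (g₅ w) = q w) :
    (∀ w, g₃ w = w) ∨ (∀ w, g₅ w = w) := by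
  classical
  haveI : Fintype W := Fintype.ofFinite W
  haveI : Fintype U := Fintype.ofFinite U
  haveI : Fact (Nat.Prime 3) := ⟨Nat.prime_three⟩
  haveI : Fact (Nat.Prime 5) := ⟨Nat.prime_five⟩
  rw [Nat.card_eq_fintype_card] at hW hU
  by_cases h5id : ∀ w, g₅ w = w
  · exact Or.inr h5id
  left
  -- the level sets
  set L : U → Finset W := fun u => Finset.univ.filter (fun w => q w = u) with hL
  -- fixed points of g₅
  have hF5 : Finset.univ.filter (fun w => g₅ w = w) = {0} := by
    obtain ⟨k, hk, hk2⟩ := card_fixed_eq_two_pow hW g₅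
    have hmod := card_modEq_card_filter_fixed (⇑g₅) 5 h5 Finset.univ (fun w _ => Finset.mem_univ _)
    rw [Finset.card_univ, hW, hk2] at hmod
    have hk1 : k = 0 ∨ k = 4 := by
      unfold Nat.ModEq at hmod
      interval_cases k <;> simp_all
    rcases hk1 with rfl | rfl
    · rw [pow_zero] at hk2
      obtain ⟨a, ha⟩ := Finset.card_eq_one.1 hk2
      have h0 : (0 : W) ∈ Finset.univ.filter (fun w => g₅ w = w) := by simp
      rw [ha, Finset.mem_singleton] at h0
      rw [ha, h0]
    · exfalso
      apply h5id
      have : Finset.univ.filter (fun w => g₅ w = w) = Finset.univ := by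
        apply Finset.eq_univ_of_card
        rw [hk2, hW]; norm_num
      intro w
      have hw : w ∈ Finset.univ.filter (fun w => g₅ w = w) := by rw [this]; exact Finset.mem_univ _
      exact (Finset.mem_filter.1 hw).2
  -- each nonzero level set has 5 | card and odd card
  have hL5 : ∀ u : U, u ≠ 0 → 5 ∣ (L u).card := by
    intro u hu
    have hmod := card_modEq_card_filter_fixed (⇑g₅) 5 h5 (L u) (fun w hw => by
      simp only [hL, Finset.mem_filter, Finset.mem_univ, true_and] at hw ⊢
      rw [hq5, hw])
    have hempty : (L u).filter (fun w => g₅ w = w) = ∅ := by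
      apply Finset.eq_empty_of_forall_notMem
      intro w hw
      rw [Finset.mem_filter] at hw
      have hw0 : w ∈ Finset.univ.filter (fun w => g₅ w = w) := by simp [hw.2]
      rw [hF5, Finset.mem_singleton] at hw0
      have : q w = u := by simpa [hL] using hw.1
      rw [hw0, h.q_zero] at this
      exact hu this.symm
    rw [hempty, Finset.card_empty] at hmod
    exact (Nat.modEq_zero_iff_dvd).1 hmod
  have hLodd : ∀ u : U, u ≠ 0 → Odd (L u).card := by
    intro u hu
    have := hodd u hu
    rwa [Nat.card_eq_fintype_card, Fintype.card_subtype] at this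
  have hL0 : L 0 = {0} := by
    ext w
    simp only [hL, Finset.mem_filter, Finset.mem_univ, true_and, Finset.mem_singleton]
    exact ⟨h.aniso w, fun hw => by rw [hw, h.q_zero]⟩
  -- the sum of the level sets
  have hsum : ∑ u ∈ Finset.univ.erase (0 : U), (L u).card = 15 := by
    have h1 : (Finset.univ : Finset W).card = ∑ u ∈ (Finset.univ : Finset U), (L u).card :=
      Finset.card_eq_sum_card_fiberwise (fun w _ => Finset.mem_univ (q w))
    rw [Finset.card_univ, hW, ← Finset.add_sum_erase _ _ (Finset.mem_univ (0 : U)), hL0,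
      Finset.card_singleton] at h1
    omega
  have hcardE : (Finset.univ.erase (0 : U)).card = 3 := by
    rw [Finset.card_erase_of_mem (Finset.mem_univ _), Finset.card_univ, hU]
  have hL5' : ∀ u ∈ Finset.univ.erase (0 : U), (L u).card = 5 := by
    have hle : ∀ u ∈ Finset.univ.erase (0 : U), 5 ≤ (L u).card := by
      intro u hu
      have hu0 : u ≠ 0 := Finset.ne_of_mem_erase hu
      obtain ⟨c, hc⟩ := hL5 u hu0
      obtain ⟨d, hd⟩ := hLodd u hu0
      omega
    have hsum' : ∑ u ∈ Finset.univ.erase (0 : U), 5 = ∑ u ∈ Finset.univ.erase (0 : U), (L u).card := by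
      rw [hsum, Finset.sum_const, hcardE]; rfl
    intro u hu
    exact ((Finset.sum_eq_sum_iff_of_le hle).1 hsum' u hu).symm
  -- fixed points of g₃ in each level set
  have hfix3 : ∀ u ∈ Finset.univ.erase (0 : U),
      2 ≤ ((Finset.univ.filter (fun w => g₃ w = w)).filter (fun w => q w = u)).card := by
    intro u hu
    have hmod := card_modEq_card_filter_fixed (⇑g₃) 3 h3 (L u) (fun w hw => by
      simp only [hL, Finset.mem_filter, Finset.mem_univ, true_and] at hw ⊢
      rw [hq3, hw])
    rw [hL5' u hu] at hmod
    have hcomm : (L u).filter (fun w => g₃ w = w) =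
        (Finset.univ.filter (fun w => g₃ w = w)).filter (fun w => q w = u) := by
      simp only [hL]
      exact Finset.filter_comm _ _ _
    rw [hcomm] at hmod
    unfold Nat.ModEq at hmod
    omega
  have hF3card : 7 ≤ (Finset.univ.filter (fun w => g₃ w = w)).card := by
    have h1 : (Finset.univ.filter (fun w => g₃ w = w)).card =
        ∑ u ∈ (Finset.univ : Finset U),
          ((Finset.univ.filter (fun w => g₃ w = w)).filter (fun w => q w = u)).card :=
      Finset.card_eq_sum_card_fiberwise (fun w _ => Finset.mem_univ (q w))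
    rw [← Finset.add_sum_erase _ _ (Finset.mem_univ (0 : U))] at h1
    have h0 : 1 ≤ ((Finset.univ.filter (fun w => g₃ w = w)).filter (fun w => q w = 0)).card := by
      apply Finset.card_pos.2
      exact ⟨0, by simp [h.q_zero]⟩
    have h2 : ∑ u ∈ Finset.univ.erase (0 : U), 2 ≤ ∑ u ∈ Finset.univ.erase (0 : U),
        ((Finset.univ.filter (fun w => g₃ w = w)).filter (fun w => q w = u)).card :=
      Finset.sum_le_sum hfix3
    rw [Finset.sum_const, hcardE] at h2
    simp only [smul_eq_mul] at h2
    omega
  obtain ⟨k, hk, hk2⟩ := card_fixed_eq_two_pow hW g₃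
  have hmod := card_modEq_card_filter_fixed (⇑g₃) 3 h3 Finset.univ (fun w _ => Finset.mem_univ _)
  rw [Finset.card_univ, hW, hk2] at hmod
  rw [hk2] at hF3card
  have hk4 : k = 4 := by
    unfold Nat.ModEq at hmod
    interval_cases k <;> simp_all
  subst hk4
  have : Finset.univ.filter (fun w => g₃ w = w) = Finset.univ := by
    apply Finset.eq_univ_of_card
    rw [hk2, hW]; norm_num
  intro w
  have hw : w ∈ Finset.univ.filter (fun w => g₃ w = w) := by rw [this]; exact Finset.mem_univ _
  exact (Finset.mem_filter.1 hw).2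

end Cfsg.Agent.Lib.Helper67.Aut3
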