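import Mathlib
import Cfsg.Agent.Lib.Helper60.ThompsonTransfer

/-!
# K-PG-TT: the Thompson-transfer core of the order 1980 / 3960 cases
-/

set_option autoImplicit false

namespace Cfsg.Agent.Lib.Helper67.PG7920

theorem false_of_unique_fixed_of_relIndex_two {G : Type*} [Group G] [Finite G] [IsSimpleGroup G]
    (p : ℕ) [Fact p.Prime] (P : Sylow p G) (S : Sylow 2 G)
    (hSN : (S : Subgroup G) ≤ Subgroup.normalizer ((P : Subgroup G) : Set G))
    (hrel : ((S : Subgroup G) ⊓ Subgroup.centralizer ((P : Subgroup G) : Set G)).relIndex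
      (S : Subgroup G) = 2)
    (hfix : ∀ m ∈ (S : Subgroup G) ⊓ Subgroup.centralizer ((P : Subgroup G) : Set G), m ≠ 1 →
      ∀ Q : Sylow p G, m • Q = Q → Q = P) : False := by
  classical
  set M : Subgroup G := (S : Subgroup G) ⊓ Subgroup.centralizer ((P : Subgroup G) : Set G) with hM
  -- an element of `S` outside `M`
  have hnle : ¬ (S : Subgroup G) ≤ M := by
    intro hle
    have := Subgroup.relIndex_eq_one.2 hle
    rw [hrel] at this
    omega
  obtain ⟨x₀, hx₀S, hx₀M⟩ := SetLike.not_le_iff_exists.1 hnle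
  -- of minimal order
  have hex : ∃ k, ∃ y, y ∈ (S : Subgroup G) ∧ y ∉ M ∧ orderOf y = k := ⟨_, x₀, hx₀S, hx₀M, rfl⟩
  obtain ⟨x, hxS, hxM, hxord⟩ := Nat.find_spec hex
  have hmin : ∀ y, y ∈ (S : Subgroup G) → y ∉ M → orderOf x ≤ orderOf y := by
    intro y hyS hyM
    rw [hxord]
    exact Nat.find_min' hex ⟨y, hyS, hyM, rfl⟩
  obtain ⟨n, hn⟩ : ∃ n, orderOf x = 2 ^ n := by
    obtain ⟨k, hk⟩ := (IsPGroup.iff_orderOf.1 S.isPGroup') ⟨x, hxS⟩
    exact ⟨k, by rw [← hk, Subgroup.orderOf_mk]⟩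
  have hx1 : x ≠ 1 := by
    rintro rfl
    exact hxM M.one_mem
  have hn1 : 1 ≤ n := by
    rcases Nat.eq_zero_or_pos n with h | h
    · rw [h, pow_zero, orderOf_eq_one_iff] at hn
      exact absurd hn hx1
    · exact h
  have hord : ∀ y ∈ (S : Subgroup G), y ∉ M → 2 ^ (n - 1) < orderOf y := by
    intro y hyS hyM
    have h1 := hmin y hyS hyM
    rw [hn] at h1
    have h2 : 2 ^ (n - 1) < 2 ^ n := Nat.pow_lt_pow_right (by norm_num) (by omega)
    omega
  have hxP : x • P = P := Sylow.smul_eq_iff_mem_normalizer.2 (hSN hxS)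
  have hnc : ∀ g : G, g * x * g⁻¹ ∉ M := by
    intro g hgM
    have hm1 : g * x * g⁻¹ ≠ 1 := by
      intro h
      apply hx1
      have : x = g⁻¹ * (g * x * g⁻¹) * g := by group
      rw [this, h]
      group
    have hfixed : (g * x * g⁻¹) • (g • P) = g • P := by
      rw [← mul_smul, inv_mul_cancel_right, mul_smul, hxP]
    have hgP : g • P = P := hfix _ hgM hm1 (g • P) hfixed
    have hgN : g ∈ Subgroup.normalizer ((P : Subgroup G) : Set G) :=
      Sylow.smul_eq_iff_mem_normalizer.1 hgP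
    apply hxM
    rw [hM]
    refine Subgroup.mem_inf.2 ⟨hxS, ?_⟩
    rw [Subgroup.mem_centralizer_iff]
    intro y hy
    have hy' : g * y * g⁻¹ ∈ (P : Subgroup G) := (Subgroup.mem_normalizer_iff.1 hgN y).1 hy
    have hcomm := (Subgroup.mem_centralizer_iff.1 hgM.2) (g * y * g⁻¹) hy'
    -- hcomm : g * y * g⁻¹ * (g * x * g⁻¹) = g * x * g⁻¹ * (g * y * g⁻¹)
    have h1 : g * (y * x) * g⁻¹ = g * (x * y) * g⁻¹ := by
      have e1 : g * (y * x) * g⁻¹ = g * y * g⁻¹ * (g * x * g⁻¹) := by group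
      have e2 : g * (x * y) * g⁻¹ = g * x * g⁻¹ * (g * y * g⁻¹) := by group
      rw [e1, e2, hcomm]
    exact mul_left_cancel (mul_right_cancel h1)
  obtain ⟨N, hNn, hNi, hxN⟩ :=
    Cfsg.Agent.Lib.Helper60.thompson_transfer_general S M hrel n hn1 hord x hn hnc
  rcases hNn.eq_bot_or_eq_top with rfl | rfl
  · -- `|G| = 2`: `G` is commutative
    rw [Subgroup.index_bot] at hNi
    have : Fact (Nat.Prime 2) := ⟨Nat.prime_two⟩
    have hcyc : IsCyclic G := isCyclic_of_prime_card hNi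
    obtain ⟨g, hg⟩ := hcyc.exists_generator
    have hcomm : ∀ a b : G, a * b = b * a := by
      intro a b
      obtain ⟨i, rfl⟩ := Subgroup.mem_zpowers_iff.1 (hg a)
      obtain ⟨j, rfl⟩ := Subgroup.mem_zpowers_iff.1 (hg b)
      rw [← zpow_add, ← zpow_add, add_comm]
    apply hxM
    rw [hM]
    refine Subgroup.mem_inf.2 ⟨hxS, ?_⟩
    rw [Subgroup.mem_centralizer_iff]
    intro y _
    exact hcomm y x
  · rw [Subgroup.index_top] at hNi
    omega

end Cfsg.Agent.Lib.Helper67.PG7920
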