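import Mathlib
import Cfsg.Agent.Lib.Helper45.AutAltPQ

/-!
# K-S4291-S5: a group of order 120 with a self-centralizing normal `A₅` is `S₅`
-/

set_option autoImplicit false
set_option linter.style.haveILetI false
set_option linter.unusedSectionVars false

namespace Cfsg.Agent.Lib.Helper67.FC91

open Cfsg.Agent.Lib.Helper45.AutAlt

universe u

theorem equiv_perm_five {X : Type u} [Group X] [Finite X] (A : Subgroup X) [A.Normal]
    (e : A ≃* alternatingGroup (Fin 5)) (h120 : Nat.card X = 120)
    (hC : Subgroup.centralizer (A : Set X) = ⊥) : Nonempty (X ≃* Equiv.Perm (Fin 5)) := by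
  classical
  let ψ : X →* MulAut A := MulAut.conjNormal
  have hψ : Function.Injective ψ := by
    rw [injective_iff_map_eq_one]
    intro g hg
    have hmem : g ∈ Subgroup.centralizer (A : Set X) := by
      rw [Subgroup.mem_centralizer_iff]
      intro a ha
      have h1 := congrArg (fun θ : MulAut A => ((θ ⟨a, ha⟩ : A) : X)) hg
      simp only [ψ, MulAut.conjNormal_apply, MulAut.one_apply] at h1
      calc a * g = (g * a * g⁻¹) * g := by rw [h1]
        _ = g * a := by group
    rw [hC] at hmem
    exact Subgroup.mem_bot.1 hmem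
  let Φ : Equiv.Perm (Fin 5) ≃* MulAut (alternatingGroup (Fin 5)) :=
    MulEquiv.ofBijective (Phi 5)
      ⟨Phi_injective 5 (by norm_num), fun θ => mem_range_Phi 5 (by norm_num) (by norm_num) θ⟩
  let f : X →* Equiv.Perm (Fin 5) :=
    (Φ.symm.toMonoidHom.comp (MulAut.congr e).toMonoidHom).comp ψ
  have hf : Function.Injective f :=
    Φ.symm.injective.comp ((MulAut.congr e).injective.comp hψ)
  have hcard : Nat.card X = Nat.card (Equiv.Perm (Fin 5)) := by
    rw [h120, Nat.card_perm, Nat.card_eq_fintype_card, Fintype.card_fin]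
    rfl
  have hbij : Function.Bijective f := (Nat.bijective_iff_injective_and_card f).2 ⟨hf, hcard⟩
  exact ⟨MulEquiv.ofBijective f hbij⟩

end Cfsg.Agent.Lib.Helper67.FC91
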