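import Cfsg.Agent.Lib.Helper67.CycNormal2
import Cfsg.Agent.Lib.Helper90.Involves

set_option autoImplicit false

namespace Cfsg.Agent.Lib.Helper67

open Cfsg
open Cfsg.Agent.Lib.Helper81 (le_pCore le_pPrimeCore isPGroup_pCore card_pPrimeCore_coprime)

/-- a normal `p`-subgroup lies in every Sylow `p`-subgroup -/
theorem normal_le_sylow {G : Type*} [Group G] [Finite G] {p : ℕ} [Fact p.Prime]
    (R : Subgroup G) [hRn : R.Normal] (hRp : IsPGroup p R) (P : Sylow p G) :
    R ≤ (P : Subgroup G) := by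
  obtain ⟨P', hP'⟩ := hRp.exists_le_sylow
  obtain ⟨g, rfl⟩ := MulAction.exists_smul_eq G P' P
  intro r hr
  rw [Sylow.coe_subgroup_smul, Subgroup.mem_pointwise_smul_iff_inv_smul_mem]
  apply hP'
  have : (MulAut.conj g)⁻¹ • r = g⁻¹ * r * g⁻¹⁻¹ := by
    simp [MulAut.smul_def]
  rw [this]
  exact hRn.conj_mem _ hr _

/-- cyclic normal subgroups of a Sylow `p`-subgroup lie in `O_p(G)` when `O_{p'}(G) = 1`
(`p` odd or `G` is `S₄`-free) -/
theorem cyclic_normal_le_pCore {G : Type*} [Group G] [Finite G] {p : ℕ} [hp : Fact p.Prime]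
    (hG : IsPSolvable p G) (hO : pPrimeCore p G = ⊥) (P : Sylow p G) (A : Subgroup G)
    (hAP : A ≤ (P : Subgroup G)) (hAn : (P : Subgroup G) ≤ Subgroup.normalizer (A : Set G))
    (hA : IsCyclic A) (h : p ≠ 2 ∨ ¬ Involves (Equiv.Perm (Fin 4)) G) : A ≤ pCore p G := by
  have hRp : IsPGroup p (pCore p G) := isPGroup_pCore p
  have hcent : Subgroup.centralizer (pCore p G : Set G) ≤ pCore p G :=
    Helper81.centralizer_pCore_le hG hO
  letI : CommGroup (↥(pCore p G) ⧸ frattini ↥(pCore p G)) :=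
    { (inferInstance : Group (↥(pCore p G) ⧸ frattini ↥(pCore p G))) with
      mul_comm := Helper75.frattini_quotient_comm hRp }
  let S : ActSetup (↥(pCore p G) ⧸ frattini ↥(pCore p G)) (pCore p G) :=
    { π := QuotientGroup.mk' (frattini ↥(pCore p G))
      hπ := QuotientGroup.mk'_surjective _
      a₀ := (frattAct ↥(pCore p G)).comp MulAut.conjNormal
      compat := fun g u => rfl
      ker := by
        intro g hg
        apply Helper75.mem_pCore_of_trivial_on_frattini_quotient (pCore p G) hRp hcent g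
        intro y hy
        have h1 := hg (QuotientGroup.mk ⟨y, hy⟩)
        have h2 : (QuotientGroup.mk (MulAut.conjNormal g ⟨y, hy⟩) :
            ↥(pCore p G) ⧸ frattini ↥(pCore p G)) = QuotientGroup.mk ⟨y, hy⟩ := h1
        rw [QuotientGroup.eq_iff_div_mem] at h2
        refine ⟨_, h2, ?_⟩
        simp [div_eq_mul_inv, MulAut.conjNormal_apply] }
  have hV : ∀ v : ↥(pCore p G) ⧸ frattini ↥(pCore p G), v ^ p = 1 :=
    Helper75.frattini_quotient_pow hRp
  have hΓsol : IsPSolvable p (G ⧸ pCore p G) :=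
    Helper81.IsPSolvable.quotient hp.out hG (pCore p G)
  have hΓOp : pCore p (G ⧸ pCore p G) = ⊥ := by
    rw [Helper54.pCore_quotient_of_isPGroup (pCore p G) hRp]
    exact QuotientGroup.map_mk'_self _
  have hRP : pCore p G ≤ (P : Subgroup G) := normal_le_sylow _ hRp P
  by_contra hAR
  obtain ⟨⟨a₀, ha₀A⟩, hgen⟩ := hA.exists_generator
  have hgen' : ∀ x ∈ A, ∃ m : ℤ, a₀ ^ m = x := by
    intro x hx
    obtain ⟨m, hm⟩ := Subgroup.mem_zpowers_iff.mp (hgen ⟨x, hx⟩)
    exact ⟨m, by simpa using congrArg Subtype.val hm⟩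
  have ha₀R : a₀ ∉ pCore p G := by
    intro hmem
    apply hAR
    intro x hx
    obtain ⟨m, rfl⟩ := hgen' x hx
    exact Subgroup.zpow_mem _ hmem m
  -- order of the image of `a₀`
  obtain ⟨m₀, hm₀⟩ := P.isPGroup' ⟨a₀, hAP ha₀A⟩
  have hm₀' : a₀ ^ p ^ m₀ = 1 := by simpa using congrArg Subtype.val hm₀
  have hbar : (a₀ : G ⧸ pCore p G) ^ p ^ m₀ = 1 := by
    rw [← QuotientGroup.mk_pow, hm₀']; rfl
  obtain ⟨j, -, hj⟩ := (Nat.dvd_prime_pow hp.out).mp (orderOf_dvd_of_pow_eq_one hbar)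
  have hj0 : j ≠ 0 := by
    rintro rfl
    rw [pow_zero, orderOf_eq_one_iff, QuotientGroup.eq_one_iff] at hj
    exact ha₀R hj
  obtain ⟨j', rfl⟩ : ∃ j', j = j' + 1 := ⟨j - 1, by omega⟩
  obtain ⟨a, ha⟩ : ∃ a : G, a = a₀ ^ p ^ j' := ⟨_, rfl⟩
  have hap : a ^ p = a₀ ^ p ^ (j' + 1) := by rw [ha, ← pow_mul, ← pow_succ]
  have haA : a ∈ A := by rw [ha]; exact A.pow_mem ha₀A _
  have haR : a ∉ pCore p G := by
    intro hmem
    have h1 : (a₀ : G ⧸ pCore p G) ^ p ^ j' = 1 := by
      rw [← QuotientGroup.mk_pow, ← ha]; exact (QuotientGroup.eq_one_iff a).mpr hmem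
    have h2 := orderOf_dvd_of_pow_eq_one h1
    rw [hj] at h2
    have := Nat.pow_dvd_pow_iff_le_right hp.out.one_lt |>.mp h2
    omega
  have hapR : a ^ p ∈ pCore p G := by
    rw [hap, ← QuotientGroup.eq_one_iff, QuotientGroup.mk_pow, ← hj, pow_orderOf_eq_one]
  have hcomm : ∀ r ∈ pCore p G, r * a * r⁻¹ * a⁻¹ ∈ Subgroup.zpowers (a ^ p) := by
    intro r hr
    have hrn : r ∈ Subgroup.normalizer (A : Set G) := hAn (hRP hr)
    have h1 : r * a * r⁻¹ ∈ A := (Subgroup.mem_normalizer_iff.mp hrn a).mp haA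
    have h2 : r * a * r⁻¹ * a⁻¹ ∈ A := A.mul_mem h1 (A.inv_mem haA)
    have h3 : r * a * r⁻¹ * a⁻¹ ∈ pCore p G := by
      have e : r * a * r⁻¹ * a⁻¹ = r * (a * r⁻¹ * a⁻¹) := by group
      rw [e]
      exact Subgroup.mul_mem _ hr
        ((pCore_normal p G).conj_mem _ (Subgroup.inv_mem _ hr) a)
    obtain ⟨m, hm⟩ := hgen' _ h2
    rw [← hm] at h3 ⊢
    have h4 : (a₀ : G ⧸ pCore p G) ^ m = 1 := by
      rw [← QuotientGroup.mk_zpow]; exact (QuotientGroup.eq_one_iff _).mpr h3
    have h5 := orderOf_dvd_iff_zpow_eq_one.mpr h4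
    rw [hj] at h5
    obtain ⟨m', hm'⟩ := h5
    rw [Subgroup.mem_zpowers_iff]
    refine ⟨m', ?_⟩
    rw [hap, hm', zpow_mul, zpow_natCast]
  rcases eq_or_ne p 2 with rfl | hp2
  · rcases h with h | h
    · exact h rfl
    · exact h (cyc_core_two S hV hΓsol hΓOp a haR hapR hcomm)
  · exact cyc_core_odd S hp2 hV hΓsol hΓOp a haR hapR hcomm

/-- sections of quotients are sections -/
theorem involves_of_quotient {H : Type*} [Group H] {G : Type*} [Group G] (N : Subgroup G)
    [N.Normal] (h : Involves H (G ⧸ N)) : Involves H G := by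
  obtain ⟨K, φ, hφ⟩ := Helper90.exists_hom_of_involves h
  exact Helper90.involves_of_hom (K.comap (QuotientGroup.mk' N)).subtype
    (φ.comp ((QuotientGroup.mk' N).subgroupComap K)) (Subgroup.subtype_injective _)
    (hφ.comp (MonoidHom.subgroupComap_surjective_of_surjective _ _
      (QuotientGroup.mk'_surjective N)))

/-- cyclic normal subgroups of a Sylow `p`-subgroup of a `p`-soluble group lie in `O_{p',p}(G)`
(`p` odd or `G` is `S₄`-free) -/
theorem cyclic_normal_le_pPrimePCore {G : Type*} [Group G] [Finite G] {p : ℕ}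
    [hp : Fact p.Prime] (hG : IsPSolvable p G) (P : Sylow p G) (A : Subgroup G)
    (hAP : A ≤ (P : Subgroup G)) (hAn : (P : Subgroup G) ≤ Subgroup.normalizer (A : Set G))
    (hA : IsCyclic A) (h : p ≠ 2 ∨ ¬ Involves (Equiv.Perm (Fin 4)) G) :
    A ≤ pPrimePCore p G := by
  have hN₀ : (pPrimeCore p G).Normal := pPrimeCore_normal p G
  have hsurj := QuotientGroup.mk'_surjective (pPrimeCore p G)
  have hcyc : IsCyclic ↥(A.map (QuotientGroup.mk' (pPrimeCore p G))) :=
    isCyclic_of_surjective _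
      (MonoidHom.subgroupMap_surjective (QuotientGroup.mk' (pPrimeCore p G)) A)
  have key := cyclic_normal_le_pCore (p := p)
    (Helper81.IsPSolvable.quotient hp.out hG (pPrimeCore p G))
    (Helper81.pPrimeCore_quotient_eq_bot p) (P.mapSurjective hsurj)
    (A.map (QuotientGroup.mk' (pPrimeCore p G)))
    (by rw [Sylow.coe_mapSurjective]; exact Subgroup.map_mono hAP)
    (by
      rw [Sylow.coe_mapSurjective]
      exact (Subgroup.map_mono hAn).trans (Subgroup.le_normalizer_map _))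
    hcyc
    (by
      rcases h with h | h
      · exact Or.inl h
      · exact Or.inr (fun h' => h (involves_of_quotient _ h')))
  intro x hx
  show QuotientGroup.mk' (pPrimeCore p G) x ∈ pCore p (G ⧸ pPrimeCore p G)
  exact key (Subgroup.mem_map_of_mem _ hx)

end Cfsg.Agent.Lib.Helper67
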