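import Cfsg.Agent.Lib.Helper67.ExpPLen2
import Cfsg.Agent.Lib.Helper67.PLen3
import Cfsg.Agent.Lib.Helper04.ThompsonNorm
import Cfsg.Agent.Lib.Helper75.FrattiniFaithful
import Cfsg.Agent.Lib.Helper54.Quot

set_option autoImplicit false

namespace Cfsg.Agent.Lib.Helper67

open Cfsg
open Cfsg.Agent.Lib.Helper81 (le_pCore le_pPrimeCore isPGroup_pCore card_pPrimeCore_coprime)

/-- a lift of a `p`-element modulo a normal `p`-subgroup is a `p`-element -/
theorem exists_pow_eq_one_of_mk {G : Type*} [Group G] {p : ℕ} (R : Subgroup G) [R.Normal]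
    (hRp : IsPGroup p R) (g : G) (k : ℕ) (h : (g : G ⧸ R) ^ p ^ k = 1) :
    ∃ j : ℕ, g ^ p ^ j = 1 := by
  have h1 : g ^ p ^ k ∈ R := by
    rw [← QuotientGroup.eq_one_iff, QuotientGroup.mk_pow]; exact h
  obtain ⟨j, hj⟩ := hRp ⟨g ^ p ^ k, h1⟩
  refine ⟨k + j, ?_⟩
  have := congrArg Subtype.val hj
  simp only [Subgroup.coe_pow, Subgroup.coe_one] at this
  rw [pow_add, pow_mul]; exact this

section core

variable {G V : Type*} [Group G] [Finite G] [CommGroup V] [Finite V] {p : ℕ} [hp : Fact p.Prime]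

/-- the exponent of the Sylow `p`-subgroups drops in `G / R`, abstract form -/
theorem exp_quotient_abstract (R : Subgroup G) [hRn : R.Normal] (hRp : IsPGroup p R)
    (hVp : IsPGroup p V) (π : ↥R →* V) (hπ : Function.Surjective π) (a₀ : G →* MulAut V)
    (hcompat : ∀ (g : G) (u : ↥R), a₀ g (π u) = π ⟨g * u * g⁻¹, hRn.conj_mem _ u.2 g⟩)
    (hker : ∀ g : G, (∀ v, a₀ g v = v) → g ∈ R)
    (hΓsol : IsPSolvable p (G ⧸ R)) (hΓOp : pCore p (G ⧸ R) = ⊥) (hΓab : AbQ p (G ⧸ R))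
    (n : ℕ) (hexp : ExpLE p (n + 1) G) : ExpLE p n (G ⧸ R) := by
  intro xb hxb
  by_contra hne
  obtain ⟨x, rfl⟩ := QuotientGroup.mk_surjective xb
  obtain ⟨k, hk⟩ := hxb
  have hxp : ∃ j : ℕ, x ^ p ^ j = 1 := exists_pow_eq_one_of_mk R hRp x k hk
  have hx1 : x ^ p ^ (n + 1) = 1 := hexp x hxp
  have hxb1 : (x : G ⧸ R) ^ p ^ (n + 1) = 1 := by
    rw [← QuotientGroup.mk_pow, hx1]; rfl
  have hord : orderOf (x : G ⧸ R) = p ^ (n + 1) := orderOf_eq_prime_pow hne hxb1
  have hxbp : IsPGroup p (Subgroup.zpowers (x : G ⧸ R)) :=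
    isPGroup_zpowers_of_pow_eq_one _ _ hxb1
  obtain ⟨q, hq, hqp, Q, hQ, hxQ, t₀, ht₀, hne'⟩ :=
    exists_q_sub hΓsol hΓOp (x : G ⧸ R) ((x : G ⧸ R) ^ p ^ n) hxbp
      (Subgroup.pow_mem _ (Subgroup.mem_zpowers _) _) hne
  obtain ⟨N, hNbot, hNQ, hNinv, hNfpf⟩ :=
    exists_fpf_sub hqp (x : G ⧸ R) n hord Q hQ (hΓab q hqp Q hQ) hxQ t₀ ht₀ hne'
  have hRker : R ≤ a₀.ker := by
    intro g hg
    rw [MonoidHom.mem_ker]
    ext v
    obtain ⟨u, rfl⟩ := hπ v
    rw [hcompat]
    have : (⟨g * u * g⁻¹, hRn.conj_mem _ u.2 g⟩ : ↥R) = ⟨g, hg⟩ * u * ⟨g, hg⟩⁻¹ := rfl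
    rw [this, map_mul, map_mul, map_inv, mul_inv_cancel_comm]
    rfl
  let ab : G ⧸ R →* MulAut V := QuotientGroup.lift R a₀ hRker
  have hab_mk : ∀ g : G, ab (g : G ⧸ R) = a₀ g := fun g => rfl
  letI : Fintype (Subgroup.zpowers (x : G ⧸ R)) := Fintype.ofFinite _
  letI : Fintype N := Fintype.ofFinite _
  have hnorm : ∀ v : V, ∏ h : Subgroup.zpowers (x : G ⧸ R), ab h v = 1 := by
    intro v
    obtain ⟨u, rfl⟩ := hπ v
    rw [prod_zpowers_eq (x : G ⧸ R) (isOfFinOrder_of_finite _) (fun h => ab h (π u)), hord]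
    have h1 : ∀ i : ℕ, ab ((x : G ⧸ R) ^ i) (π u) = a₀ (x ^ i) (π u) := by
      intro i; rw [← QuotientGroup.mk_pow, hab_mk]
    simp only [h1]
    apply prod_conj_eq_one R π a₀ hcompat x (p ^ (n + 1)) hx1 u
    apply hexp
    apply exists_pow_eq_one_of_mk R hRp _ (n + 1)
    have : (((u : G) * x : G) : G ⧸ R) = (x : G ⧸ R) := by
      rw [QuotientGroup.mk_mul, (QuotientGroup.eq_one_iff (u : G)).mpr u.2, one_mul]
    rw [this]; exact hxb1
  have hprod := Helper04.prod_eq_pow_card ab N (Subgroup.zpowers (x : G ⧸ R)) hNinv hNfpf hnorm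
  have hcop : (Nat.card V).Coprime (Fintype.card N) := by
    obtain ⟨a, ha⟩ := IsPGroup.iff_card.mp hVp
    have hNq : IsPGroup q N := hQ.to_le hNQ
    obtain ⟨b, hb⟩ := IsPGroup.iff_card.mp hNq
    rw [ha, ← Nat.card_eq_fintype_card, hb]
    exact Nat.Coprime.pow _ _ ((Nat.coprime_primes hp.out hq.out).mpr (Ne.symm hqp))
  have htriv := trivial_of_norm_eq_pow ab N hcop hprod
  apply hNbot
  rw [eq_bot_iff]
  intro kb hkb
  obtain ⟨g, rfl⟩ := QuotientGroup.mk_surjective kb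
  rw [Subgroup.mem_bot, QuotientGroup.eq_one_iff]
  apply hker
  intro v
  rw [← hab_mk]; exact htriv _ hkb v

end core

/-- the action of automorphisms on the Frattini quotient -/
noncomputable def frattAct (P : Type*) [Group P] : MulAut P →* MulAut (P ⧸ frattini P) where
  toFun α := QuotientGroup.congr (frattini P) (frattini P) α
    (Subgroup.characteristic_iff_map_eq.1 inferInstance α)
  map_one' := by
    ext x
    obtain ⟨y, rfl⟩ := QuotientGroup.mk_surjective x
    rfl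
  map_mul' α β := by
    ext x
    obtain ⟨y, rfl⟩ := QuotientGroup.mk_surjective x
    rfl

theorem frattAct_apply_mk (P : Type*) [Group P] (α : MulAut P) (x : P) :
    frattAct P α (QuotientGroup.mk x) = QuotientGroup.mk (α x) := rfl

/-- in a `p`-solvable group with `O_{p'} = 1` and abelian Sylow `q`-subgroups (`q ≠ p`), the
exponent of the Sylow `p`-subgroups drops when factoring out `O_p` -/
theorem exp_quotient_pCore {G : Type*} [Group G] [Finite G] {p : ℕ} [hp : Fact p.Prime]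
    (hG : IsPSolvable p G) (hO : pPrimeCore p G = ⊥) (hab : AbQ p G) (n : ℕ)
    (hexp : ExpLE p (n + 1) G) : ExpLE p n (G ⧸ pCore p G) := by
  have hRp : IsPGroup p (pCore p G) := isPGroup_pCore p
  have hcent : Subgroup.centralizer (pCore p G : Set G) ≤ pCore p G :=
    Helper81.centralizer_pCore_le hG hO
  letI : CommGroup (↥(pCore p G) ⧸ frattini ↥(pCore p G)) :=
    { (inferInstance : Group (↥(pCore p G) ⧸ frattini ↥(pCore p G))) with
      mul_comm := Helper75.frattini_quotient_comm hRp }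
  refine exp_quotient_abstract (V := ↥(pCore p G) ⧸ frattini ↥(pCore p G)) (pCore p G) hRp ?_
    (QuotientGroup.mk' (frattini ↥(pCore p G))) (QuotientGroup.mk'_surjective _)
    ((frattAct ↥(pCore p G)).comp MulAut.conjNormal) ?_ ?_
    (Helper81.IsPSolvable.quotient hp.out hG (pCore p G)) ?_
    (AbQ.of_surjective (QuotientGroup.mk' (pCore p G)) (QuotientGroup.mk'_surjective _) hab)
    n hexp
  · exact hRp.to_quotient (frattini ↥(pCore p G))
  · intro g u; rfl
  · intro g hg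
    apply Helper75.mem_pCore_of_trivial_on_frattini_quotient (pCore p G) hRp hcent g
    intro y hy
    have h1 := hg (QuotientGroup.mk ⟨y, hy⟩)
    have h2 : (QuotientGroup.mk (MulAut.conjNormal g ⟨y, hy⟩) :
        ↥(pCore p G) ⧸ frattini ↥(pCore p G)) = QuotientGroup.mk ⟨y, hy⟩ := h1
    rw [QuotientGroup.eq_iff_div_mem] at h2
    refine ⟨_, h2, ?_⟩
    simp [div_eq_mul_inv, MulAut.conjNormal_apply]
  · rw [Helper54.pCore_quotient_of_isPGroup (pCore p G) hRp]
    exact QuotientGroup.map_mk'_self _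

universe u

/-- Hall--Higman for abelian Sylow `q`-subgroups: the `p`-length is at most the exponent of the
Sylow `p`-subgroups -/
theorem pLengthLE_of_exp {p : ℕ} [hp : Fact p.Prime] (n : ℕ) :
    ∀ {G : Type u} [Group G] [Finite G], IsPSolvable p G → AbQ p G → ExpLE p n G →
      PLengthLE p n G := by
  induction n with
  | zero =>
    intro G _ _ hG hab hexp
    apply pLengthLE_zero_of_coprime
    rw [Nat.coprime_comm, Nat.Prime.coprime_iff_not_dvd hp.out]
    intro hdvd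
    obtain ⟨x, hx⟩ := exists_prime_orderOf_dvd_card' p hdvd
    have h1 : x ^ p ^ 0 = 1 := hexp x ⟨1, by rw [pow_one, ← hx, pow_orderOf_eq_one]⟩
    rw [pow_zero, pow_one] at h1
    rw [h1, orderOf_one] at hx
    exact hp.out.one_lt.ne hx
  | succ n ih =>
    intro G _ _ hG hab hexp
    have hN₀ : (pPrimeCore p G).Normal := pPrimeCore_normal p G
    have hG₁ : IsPSolvable p (G ⧸ pPrimeCore p G) :=
      Helper81.IsPSolvable.quotient hp.out hG _
    have hO₁ : pPrimeCore p (G ⧸ pPrimeCore p G) = ⊥ := Helper81.pPrimeCore_quotient_eq_bot p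
    have hab₁ : AbQ p (G ⧸ pPrimeCore p G) :=
      AbQ.of_surjective (QuotientGroup.mk' _) (QuotientGroup.mk'_surjective _) hab
    have hexp₁ : ExpLE p (n + 1) (G ⧸ pPrimeCore p G) :=
      ExpLE.of_surjective (QuotientGroup.mk' _) (QuotientGroup.mk'_surjective _) _ hexp
    have h2 := exp_quotient_pCore hG₁ hO₁ hab₁ n hexp₁
    have h3 : PLengthLE p n ((G ⧸ pPrimeCore p G) ⧸ pCore p (G ⧸ pPrimeCore p G)) :=
      ih (Helper81.IsPSolvable.quotient hp.out hG₁ _)
        (AbQ.of_surjective (QuotientGroup.mk' _) (QuotientGroup.mk'_surjective _) hab₁) h2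
    have h4 : PLengthLE p 1 ↥(pCore p (G ⧸ pPrimeCore p G)) :=
      pLengthLE_one_of_isPGroup p (isPGroup_pCore p)
    have h5 : PLengthLE p (1 + n) (G ⧸ pPrimeCore p G) := pLengthLE_add p _ 1 n h4 h3
    have h0 : PLengthLE p 0 ↥(pPrimeCore p G) :=
      pLengthLE_zero_of_coprime p (card_pPrimeCore_coprime p)
    have h6 := pLengthLE_add p (pPrimeCore p G) 0 (1 + n) h0 h5
    rw [zero_add, add_comm] at h6
    exact h6

end Cfsg.Agent.Lib.Helper67
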