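import Mathlib
import Cfsg.Prelude.Def_Characters
import Cfsg.Prelude.Def_Blocks
import Cfsg.Agent.Lib.Helper34.PSLDefs
import Cfsg.Agent.Lib.Helper34.PFaithAux

/-!
# K-S4472-5: the core of `cenQuot_M(H, ker ψ ∩ H)` acts trivially on `H` modulo `ker (ind ψ) ∩ H`
-/

set_option autoImplicit false
set_option linter.style.haveILetI false
set_option linter.unusedSectionVars false

namespace Cfsg.Agent.Lib.Helper67.PSL

open Cfsg Cfsg.Agent.Lib.Helper34.PSL Cfsg.Agent.Lib.Helper83 Cfsg.Agent.Lib.Helper84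

universe u

theorem normalCore_le_cenQuot {X : Type u} [Group X] [Fintype X] (H : Subgroup X) [H.Normal]
    (M : Subgroup X) [M.Normal] (hHM : H ≤ M) {ψ : M → ℂ} (hψ : IsCharacter M ψ)
    (hΦ : IsCharacter X (indFun M ψ)) :
    ((cenQuot (H.subgroupOf M) (charKer hψ ⊓ H.subgroupOf M)).map M.subtype).normalCore ≤
      cenQuot H (charKer hΦ ⊓ H) := by
  intro x hx
  rw [mem_cenQuot]
  intro h hh
  have hH : H.Normal := inferInstance
  have hcomm : h⁻¹ * x⁻¹ * h * x ∈ H := by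
    have h1 := hH.conj_mem h hh x⁻¹
    rw [inv_inv] at h1
    have h2 : h⁻¹ * x⁻¹ * h * x = h⁻¹ * (x⁻¹ * h * x) := by group
    rw [h2]
    exact H.mul_mem (H.inv_mem hh) h1
  refine Subgroup.mem_inf.2 ⟨?_, hcomm⟩
  rw [mem_charKer]
  have key := Cfsg.Agent.Lib.Helper34.PFaith.indFun_eq_of_conj_ker M ψ ⟨h⁻¹ * x⁻¹ * h * x, hHM hcomm⟩ ?_
  · exact key
  intro y
  rw [conjFun_apply]
  -- the conjugate of x by y lies in the image of the centralizer
  have hy : y * x * y⁻¹ ∈ (cenQuot (H.subgroupOf M) (charKer hψ ⊓ H.subgroupOf M)).map M.subtype :=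
    hx y
  obtain ⟨c, hc, hcx⟩ := hy
  rw [SetLike.mem_coe, mem_cenQuot] at hc
  have hh' : y * h * y⁻¹ ∈ H := hH.conj_mem h hh y
  have h1 := (Subgroup.mem_inf.1 (hc ⟨y * h * y⁻¹, hHM hh'⟩ (Subgroup.mem_subgroupOf.2 hh'))).1
  rw [mem_charKer] at h1
  rw [← h1]
  congr 1
  apply Subtype.ext
  have hcx' : (c : X) = y * x * y⁻¹ := hcx
  simp only [Subgroup.coe_mul, Subgroup.coe_inv, hcx']
  group

end Cfsg.Agent.Lib.Helper67.PSL
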