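import Mathlib
import Cfsg.Prelude.Def_HallClasses
import Cfsg.Agent.Lib.Helper06.HallSym.Defs
import Cfsg.Agent.Lib.Helper38.HallAlt.Defs
import Cfsg.Agent.Lib.Helper62.HallSymG6a

/-!
K-HA-G6 (keystone 253804): block step for Hall subgroups of alternating groups
(adaptation of helper62's `block_step`).
-/

set_option autoImplicit false
open Cfsg
open scoped Pointwise

namespace Cfsg.Agent.Lib.Helper67.HallAlt
open Cfsg.Agent.Lib.Helper06.HallSym Cfsg.Agent.Lib.Helper38.HallAlt Cfsg.Agent.Lib.Helper62.HallSym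

/-- **K-HA-G6.** Block step, alternating version. -/
theorem alt_block_step
    (hG1 : ∀ {α : Type} [Finite α] (Δ : Set α), Nat.card (MulAction.stabilizer (Equiv.Perm α) Δ) =
      (Δ.ncard).factorial * (Nat.card α - Δ.ncard).factorial)
    (hY : ∀ (π : Set ℕ), 2 ∈ π → ∀ {α : Type} [Finite α] (K : Subgroup (Equiv.Perm α)) (Δ : Set α),
      K ≤ MulAction.stabilizer (Equiv.Perm α) Δ → K ≤ altSub α →
      (∀ p : ℕ, p.Prime → p ∣ Nat.card K → p ∈ π) →
      (∀ p : ℕ, p.Prime → p ∈ π →
        padicValNat p ((Δ.ncard).factorial * (Nat.card α - Δ.ncard).factorial) ≤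
          padicValNat p (Nat.card K) + (if p = 2 then 1 else 0)) →
      (2 ≤ Nat.card α - Δ.ncard → IsEPiGroup π (Equiv.Perm ↥Δ)) ∧
      (2 ≤ Δ.ncard → IsEPiGroup π (Equiv.Perm ↥(Δᶜ : Set α))) ∧
      (Nat.card α - Δ.ncard ≤ 1 → AltE π ↥Δ) ∧
      (Δ.ncard ≤ 1 → AltE π ↥(Δᶜ : Set α)))
    (π : Set ℕ) (h2 : 2 ∈ π) {α : Type} [Finite α] (H : Subgroup (Equiv.Perm α))
    (hH : AltHall π H) (htr : MulAction.IsPretransitive ↥H α) (B : Set α)
    (hB : MulAction.IsBlock ↥H B) (h1 : 1 < B.ncard) (h2' : B.ncard < Nat.card α) :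
    ∃ b : ℕ, 2 ≤ b ∧ B.ncard * b = Nat.card α ∧
      IsEPiGroup π (Equiv.Perm ↥(Bᶜ : Set α)) ∧
      (∀ p : ℕ, p.Prime → p ∣ Nat.card α → p ∈ π) ∧
      (∀ p : ℕ, p.Prime → p ∈ π → ¬ p ∣ Nat.choose (Nat.card α - 1) (B.ncard - 1)) := by
  classical
  have hBne : B.Nonempty := by
    rw [← Set.ncard_pos]; omega
  -- a swap of two points of `B`
  obtain ⟨x, y, hxB, hyB, hxy⟩ := (Set.one_lt_ncard_iff).1 h1
  set a := B.ncard with ha
  set n := Nat.card α with hn
  set b := (MulAction.orbit ↥H B).ncard with hb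
  have hab : a * b = n := hB.ncard_block_mul_ncard_orbit_eq hBne
  have hb2 : 2 ≤ b := by
    by_contra hlt
    push Not at hlt
    interval_cases b
    · omega
    · omega
  have hn0 : 0 < n := by omega
  -- the block stabilizer
  set S : Subgroup ↥H := MulAction.stabilizer ↥H B with hS
  have hSidx : S.index = b := MulAction.index_stabilizer ↥H B
  have hScard : Nat.card S * b = Nat.card H := by
    rw [← hSidx]; exact S.card_mul_index
  set K : Subgroup (Equiv.Perm α) := S.map H.subtype with hK
  have hKcard : Nat.card K = Nat.card S :=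
    Subgroup.card_map_of_injective H.subtype_injective
  have hKH : K ≤ H := Subgroup.map_subtype_le S
  have hKB : K ≤ MulAction.stabilizer (Equiv.Perm α) B := by
    rintro _ ⟨h, hh, rfl⟩
    have : h • B = B := hh
    rw [MulAction.mem_stabilizer_iff]
    exact this
  have hKA : K ≤ altSub α := hKH.trans hH.1
  -- n ∣ |H|
  have hndvd : n ∣ Nat.card H := by
    obtain ⟨x, _⟩ := hBne
    have h3 : (MulAction.stabilizer ↥H x).index = n := MulAction.index_stabilizer_of_transitive ↥H x
    rw [← h3]
    exact (MulAction.stabilizer ↥H x).index_dvd_card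
  -- orders
  have hperm : Nat.card (Equiv.Perm α) = n.factorial := Nat.card_perm
  have hHidx : Nat.card H * H.index = n.factorial := by
    rw [← hperm]; exact H.card_mul_index
  -- the alternating group has index two
  have hnt : Nontrivial α := Finite.one_lt_card_iff_nontrivial.1 (by omega)
  have hAidx : (altSub α).index = 2 := by
    letI := Fintype.ofFinite α
    rw [altSub_eq]
    exact alternatingGroup.index_eq_two
  set r := H.relIndex (altSub α) with hr
  have hHr : H.index = r * 2 := by
    rw [← hAidx]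
    exact (Subgroup.relIndex_mul_index hH.1).symm
  -- the stabiliser of `B` and its even part
  have hstab : Nat.card (MulAction.stabilizer (Equiv.Perm α) B) = a.factorial * (n - a).factorial :=
    hG1 B
  have hswY : Equiv.swap x y ∈ MulAction.stabilizer (Equiv.Perm α) B :=
    Equiv.swap_mem_stabilizer.2 ⟨fun _ => hyB, fun _ => hxB⟩
  have hswA : Equiv.swap x y ∉ altSub α := by
    letI := Fintype.ofFinite α
    rw [mem_altSub_iff, Equiv.Perm.sign_swap hxy]
    decide
  have hrel : (altSub α).relIndex (MulAction.stabilizer (Equiv.Perm α) B) = 2 := by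
    have h1' : (altSub α).relIndex (MulAction.stabilizer (Equiv.Perm α) B) ∣ 2 := by
      have h := Subgroup.relIndex_dvd_index_of_normal (H := altSub α)
        (K := MulAction.stabilizer (Equiv.Perm α) B)
      rwa [hAidx] at h
    have h2'' : (altSub α).relIndex (MulAction.stabilizer (Equiv.Perm α) B) ≠ 1 := by
      intro h
      have hle : MulAction.stabilizer (Equiv.Perm α) B ≤ altSub α := Subgroup.relIndex_eq_one.1 h
      exact hswA (hle hswY)
    rcases (Nat.dvd_prime Nat.prime_two).1 h1' with h | h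
    · exact absurd h h2''
    · exact h
  set T : Subgroup (Equiv.Perm α) := altSub α ⊓ MulAction.stabilizer (Equiv.Perm α) B with hT
  have hTidx : T.index = 2 * (MulAction.stabilizer (Equiv.Perm α) B).index := by
    rw [← Subgroup.relIndex_mul_index
      (inf_le_right : T ≤ MulAction.stabilizer (Equiv.Perm α) B), Subgroup.inf_relIndex_right,
      hrel]
  have hTcard : Nat.card T * 2 = Nat.card (MulAction.stabilizer (Equiv.Perm α) B) := by
    have e1 : Nat.card T * T.index = n.factorial := by
      rw [← hperm]; exact T.card_mul_index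
    have e2 : Nat.card (MulAction.stabilizer (Equiv.Perm α) B) *
        (MulAction.stabilizer (Equiv.Perm α) B).index = n.factorial := by
      rw [← hperm]; exact (MulAction.stabilizer (Equiv.Perm α) B).card_mul_index
    have hYi : 0 < (MulAction.stabilizer (Equiv.Perm α) B).index :=
      Nat.pos_of_ne_zero Subgroup.index_ne_zero_of_finite
    rw [hTidx] at e1
    have e3 : Nat.card T * 2 * (MulAction.stabilizer (Equiv.Perm α) B).index =
        Nat.card (MulAction.stabilizer (Equiv.Perm α) B) *
          (MulAction.stabilizer (Equiv.Perm α) B).index := by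
      rw [e2, ← e1]; ring
    exact Nat.eq_of_mul_eq_mul_right hYi e3
  have hKT : K ≤ T := le_inf hKA hKB
  obtain ⟨j, hj⟩ : Nat.card K ∣ Nat.card T := Subgroup.card_dvd_of_le hKT
  have hKpos : 0 < Nat.card K := Nat.card_pos
  -- n! = C(n,a) a! (n-a)!
  have hale : a ≤ n := by omega
  have hfact : n.choose a * a.factorial * (n - a).factorial = n.factorial :=
    Nat.choose_mul_factorial_mul_factorial hale
  have hch : n.choose a = b * Nat.choose (n - 1) (a - 1) := by
    rw [← hab]; exact choose_mul_eq a b (by omega)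
  set C' := Nat.choose (n - 1) (a - 1) with hC'
  -- key identity: relative index = C' * j
  have hkey : r = C' * j := by
    have e1 : Nat.card K * b * (r * 2) = n.factorial := by
      rw [hKcard, hScard, ← hHr]; exact hHidx
    have e2 : n.factorial = Nat.card K * b * (C' * j * 2) := by
      rw [← hfact, hch, mul_assoc, ← hstab, ← hTcard, hj]; ring
    have e3 : Nat.card K * b * (r * 2) = Nat.card K * b * (C' * j * 2) := by rw [e1, e2]
    have e4 := Nat.eq_of_mul_eq_mul_left (Nat.mul_pos hKpos (by omega)) e3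
    exact Nat.eq_of_mul_eq_mul_right (by norm_num : 0 < 2) e4
  refine ⟨b, hb2, hab, ?_, ?_, ?_⟩
  · -- Hall subgroup of Perm Bᶜ
    refine (hY π h2 K B hKB hKA ?_ ?_).2.1 (by omega)
    · intro p hp hpK
      exact hH.2.1 p hp (hpK.trans (Subgroup.card_dvd_of_le hKH))
    · intro p hp hpπ
      have hpr : ¬ p ∣ r := hH.2.2 p hp hpπ
      have hpj : ¬ p ∣ j := fun h => hpr (hkey ▸ Dvd.dvd.mul_left h C')
      have : Fact p.Prime := ⟨hp⟩
      have hj0 : j ≠ 0 := fun h => hpj (h ▸ dvd_zero p)
      change padicValNat p (a.factorial * (n - a).factorial) ≤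
        padicValNat p (Nat.card K) + (if p = 2 then 1 else 0)
      rw [← hstab, ← hTcard, hj, padicValNat.mul (Nat.mul_ne_zero hKpos.ne' hj0) two_ne_zero,
        padicValNat.mul hKpos.ne' hj0, padicValNat.eq_zero_of_not_dvd hpj]
      split_ifs with hp2
      · subst hp2
        simp
      · have h2p : ¬ p ∣ 2 := fun h => hp2 ((Nat.prime_dvd_prime_iff_eq hp Nat.prime_two).1 h)
        rw [padicValNat.eq_zero_of_not_dvd h2p]
  · intro p hp hpn
    exact hH.2.1 p hp (hpn.trans hndvd)
  · intro p hp hpπ hpC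
    have hpr : ¬ p ∣ r := hH.2.2 p hp hpπ
    exact hpr (hkey ▸ Dvd.dvd.mul_right hpC j)

end Cfsg.Agent.Lib.Helper67.HallAlt
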