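import Mathlib
import Cfsg.Prelude.Def_HallClasses
import Cfsg.Agent.Lib.Helper38.HallAlt.Defs

/-!
K-HB-L2 (keystone 253813): Hall subgroups of the group `alternatingGroup α` versus `AltHall` subgroups of `Perm α`.
-/

set_option autoImplicit false
open Cfsg

namespace Cfsg.Agent.Lib.Helper67.HallAlt
open Cfsg.Agent.Lib.Helper38.HallAlt

/-- **K-HB-L2** (253813). -/
theorem isPiHall_alt_iff (π : Set ℕ) {α : Type} [Fintype α] [DecidableEq α]
    (M : Subgroup ↥(alternatingGroup α)) :
    IsPiHall π M ↔ AltHall π (M.map (alternatingGroup α).subtype) := by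
  have hA : altSub α = alternatingGroup α := altSub_eq α
  have hcard : Nat.card (M.map (alternatingGroup α).subtype) = Nat.card M :=
    Subgroup.card_map_of_injective (alternatingGroup α).subtype_injective
  have hrel : (M.map (alternatingGroup α).subtype).relIndex (altSub α) = M.index := by
    rw [hA]
    unfold Subgroup.relIndex Subgroup.subgroupOf
    rw [Subgroup.comap_map_eq_self_of_injective (alternatingGroup α).subtype_injective]
  unfold IsPiHall AltHall
  rw [hcard, hrel, hA]
  constructor
  · rintro ⟨h1, h2⟩
    exact ⟨Subgroup.map_subtype_le M, h1, h2⟩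
  · rintro ⟨-, h1, h2⟩
    exact ⟨h1, h2⟩

end Cfsg.Agent.Lib.Helper67.HallAlt
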