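import Mathlib
import Cfsg.Prelude.Def_HallClasses
import Cfsg.Agent.Lib.Helper06.HallSym.Keys
import Cfsg.Agent.Lib.Helper38.HallAlt.Main

/-!
K-HB-U2 (keystone 253822): degree 7, `π ∩ {primes ≤ 7} = {2, 3}`: the Hall `π`-subgroups of `Sym(7)` are the stabilisers of
the 3-sets, those of `Alt(7)` their even parts.
-/

set_option autoImplicit false
open Cfsg
open scoped Pointwise

namespace Cfsg.Agent.Lib.Helper67.HallAlt
open Cfsg.Agent.Lib.Helper06.HallSym Cfsg.Agent.Lib.Helper38.HallAlt

/-- arithmetic: a factorisation `N * i = A * B` with `N` prime to `B` and `i` prime to `A` -/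
theorem eq_of_mul_eq_of_coprime {N i A B : ℕ} (h : N * i = A * B) (hA : 0 < A) (hB : 0 < B)
    (hN : Nat.Coprime N B) (hi : Nat.Coprime i A) : N = A := by
  have h1 : N ∣ A := hN.dvd_of_dvd_mul_right (Dvd.intro i h)
  have h2 : i ∣ B := hi.dvd_of_dvd_mul_left (Dvd.intro_left N h)
  obtain ⟨c, hc⟩ := h1
  obtain ⟨d, hd⟩ := h2
  have h3 : A * B * (c * d) = A * B * 1 := by
    rw [mul_one]
    calc A * B * (c * d) = N * i * (c * d) := by rw [h]
      _ = (N * c) * (i * d) := by ring
      _ = A * B := by rw [← hc, ← hd]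
  have h4 : c * d = 1 := Nat.eq_of_mul_eq_mul_left (Nat.mul_pos hA hB) h3
  have h5 : c = 1 := Nat.dvd_one.1 (Dvd.intro d h4)
  rw [hc, h5, mul_one]

theorem not_cls_six (π : Set ℕ) (hB : TypeB π 7) : ¬ Cls π 6 := by
  have h2 : (2 : ℕ) ∈ π := (hB.2 2 Nat.prime_two (by norm_num)).2 (Or.inl rfl)
  have h3 : (3 : ℕ) ∈ π := (hB.2 3 Nat.prime_three (by norm_num)).2 (Or.inr rfl)
  have h5 : (5 : ℕ) ∉ π := fun h => by
    rcases (hB.2 5 Nat.prime_five (by norm_num)).1 h with h | h <;> omega
  rintro ((hT | hT) | hA | hB')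
  · have := hT 2 3 Nat.prime_two Nat.prime_three (by norm_num) (by norm_num) h2 h3
    omega
  · exact h5 (hT 5 Nat.prime_five (by norm_num))
  · exact absurd hA.1 (by norm_num)
  · rcases hB'.1 with h | h <;> omega

theorem choose_seven_cases (a : ℕ) (h1 : 1 ≤ a) (h6 : a ≤ 6) (h : ¬ 3 ∣ Nat.choose 7 a) :
    a = 1 ∨ a = 3 ∨ a = 4 ∨ a = 6 := by
  interval_cases a
  · omega
  · exfalso; apply h; decide
  · omega
  · omega
  · exfalso; apply h; decide
  · omega

/-- a subgroup stabilises its orbits -/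
theorem le_stabilizer_orbit {α : Type} (H : Subgroup (Equiv.Perm α)) (x : α) :
    H ≤ MulAction.stabilizer (Equiv.Perm α) (MulAction.orbit ↥H x) := by
  intro h hh
  rw [MulAction.mem_stabilizer_iff]
  ext y
  constructor
  · rintro ⟨z, hz, rfl⟩
    obtain ⟨k, rfl⟩ := hz
    exact ⟨⟨h, hh⟩ * k, by simp [mul_smul]⟩
  · rintro ⟨k, rfl⟩
    refine ⟨(⟨h, hh⟩ : ↥H)⁻¹ • (k • x), ⟨(⟨h, hh⟩ : ↥H)⁻¹ * k, by simp [mul_smul]⟩, ?_⟩
    change h • ((⟨h, hh⟩ : ↥H)⁻¹ • (k • x)) = k • x
    have : h • ((⟨h, hh⟩ : ↥H)⁻¹ • (k • x)) =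
        (⟨h, hh⟩ : ↥H) • ((⟨h, hh⟩ : ↥H)⁻¹ • (k • x)) := rfl
    rw [this, smul_inv_smul]

/-- the size of an orbit divides the order of the group -/
theorem ncard_orbit_dvd_card {α : Type} [Finite α] (H : Subgroup (Equiv.Perm α)) (x : α) :
    (MulAction.orbit ↥H x).ncard ∣ Nat.card H := by
  rw [← MulAction.index_stabilizer ↥H x]
  exact (MulAction.stabilizer ↥H x).index_dvd_card

/-- the even part of the stabiliser of a set with at least two elements has index two in it -/
theorem card_stabilizer_inf_altSub {α : Type} [Finite α] (Δ : Set α) (h1 : 1 < Δ.ncard) :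
    Nat.card ↥(MulAction.stabilizer (Equiv.Perm α) Δ ⊓ altSub α) * 2 =
      Nat.card (MulAction.stabilizer (Equiv.Perm α) Δ) := by
  classical
  obtain ⟨x, y, hxB, hyB, hxy⟩ := (Set.one_lt_ncard_iff).1 h1
  have hnt : Nontrivial α := ⟨⟨x, y, hxy⟩⟩
  have hperm : Nat.card (Equiv.Perm α) = (Nat.card α).factorial := Nat.card_perm
  have hAidx : (altSub α).index = 2 := by
    let _ := Fintype.ofFinite α
    rw [altSub_eq]
    exact alternatingGroup.index_eq_two
  have hswY : Equiv.swap x y ∈ MulAction.stabilizer (Equiv.Perm α) Δ :=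
    Equiv.swap_mem_stabilizer.2 ⟨fun _ => hyB, fun _ => hxB⟩
  have hswA : Equiv.swap x y ∉ altSub α := by
    let _ := Fintype.ofFinite α
    rw [mem_altSub_iff, Equiv.Perm.sign_swap hxy]
    decide
  have hrel : (altSub α).relIndex (MulAction.stabilizer (Equiv.Perm α) Δ) = 2 := by
    have h1' : (altSub α).relIndex (MulAction.stabilizer (Equiv.Perm α) Δ) ∣ 2 := by
      have h := Subgroup.relIndex_dvd_index_of_normal (H := altSub α)
        (K := MulAction.stabilizer (Equiv.Perm α) Δ)
      rwa [hAidx] at h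
    have h2'' : (altSub α).relIndex (MulAction.stabilizer (Equiv.Perm α) Δ) ≠ 1 := by
      intro h
      have hle : MulAction.stabilizer (Equiv.Perm α) Δ ≤ altSub α := Subgroup.relIndex_eq_one.1 h
      exact hswA (hle hswY)
    rcases (Nat.dvd_prime Nat.prime_two).1 h1' with h | h
    · exact absurd h h2''
    · exact h
  have hTidx : (MulAction.stabilizer (Equiv.Perm α) Δ ⊓ altSub α).index =
      2 * (MulAction.stabilizer (Equiv.Perm α) Δ).index := by
    rw [← Subgroup.relIndex_mul_index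
      (inf_le_left : MulAction.stabilizer (Equiv.Perm α) Δ ⊓ altSub α ≤
        MulAction.stabilizer (Equiv.Perm α) Δ), inf_comm, Subgroup.inf_relIndex_right, hrel]
  have e1 : Nat.card ↥(MulAction.stabilizer (Equiv.Perm α) Δ ⊓ altSub α) *
      (MulAction.stabilizer (Equiv.Perm α) Δ ⊓ altSub α).index = (Nat.card α).factorial := by
    rw [← hperm]; exact Subgroup.card_mul_index _
  have e2 : Nat.card (MulAction.stabilizer (Equiv.Perm α) Δ) *
      (MulAction.stabilizer (Equiv.Perm α) Δ).index = (Nat.card α).factorial := by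
    rw [← hperm]; exact (MulAction.stabilizer (Equiv.Perm α) Δ).card_mul_index
  have hYi : 0 < (MulAction.stabilizer (Equiv.Perm α) Δ).index :=
    Nat.pos_of_ne_zero Subgroup.index_ne_zero_of_finite
  rw [hTidx] at e1
  have e3 : Nat.card ↥(MulAction.stabilizer (Equiv.Perm α) Δ ⊓ altSub α) * 2 *
      (MulAction.stabilizer (Equiv.Perm α) Δ).index =
      Nat.card (MulAction.stabilizer (Equiv.Perm α) Δ) *
        (MulAction.stabilizer (Equiv.Perm α) Δ).index := by
    rw [e2, ← e1]; ring
  exact Nat.eq_of_mul_eq_mul_right hYi e3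


/-- **K-HB-U2** (253822). -/
theorem typeB7_unique (A : AKeys) (π : Set ℕ) {α : Type} [Finite α] (h7 : Nat.card α = 7)
    (hB : TypeB π 7) (H : Subgroup (Equiv.Perm α)) :
    (IsPiHall π H → ∃ Δ : Set α, Δ.ncard = 3 ∧ H = MulAction.stabilizer (Equiv.Perm α) Δ) ∧
    (AltHall π H → ∃ Δ : Set α, Δ.ncard = 3 ∧
      H = MulAction.stabilizer (Equiv.Perm α) Δ ⊓ altSub α) := by
  classical
  have h2π : (2 : ℕ) ∈ π := (hB.2 2 Nat.prime_two (by norm_num)).2 (Or.inl rfl)
  have h3π : (3 : ℕ) ∈ π := (hB.2 3 Nat.prime_three (by norm_num)).2 (Or.inr rfl)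
  have h5π : (5 : ℕ) ∉ π := fun h => by
    rcases (hB.2 5 Nat.prime_five (by norm_num)).1 h with h | h <;> omega
  have hp7 : Nat.Prime 7 := by norm_num
  have h7π : (7 : ℕ) ∉ π := fun h => by
    rcases (hB.2 7 hp7 (by norm_num)).1 h with h | h <;> omega
  have hne : Nonempty α := (Nat.card_pos_iff.1 (by omega)).1
  obtain ⟨x⟩ := hne
  have hperm : Nat.card (Equiv.Perm α) = 5040 := by
    rw [Nat.card_perm, h7]
    rfl
  have hG1 : ∀ Δ : Set α, Nat.card (MulAction.stabilizer (Equiv.Perm α) Δ) =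
      (Δ.ncard).factorial * (7 - Δ.ncard).factorial := by
    intro Δ
    rw [Cfsg.Agent.Lib.Helper20.HallSym.card_stabilizer_set Δ, h7]
  have hcop35 : ∀ N : ℕ, ¬ 5 ∣ N → ¬ 7 ∣ N → Nat.Coprime N 35 := by
    intro N h5 h7'
    have : (35 : ℕ) = 5 * 7 := by norm_num
    rw [this]
    exact Nat.Coprime.mul_right ((Nat.Prime.coprime_iff_not_dvd Nat.prime_five).2 h5).symm
      ((Nat.Prime.coprime_iff_not_dvd hp7).2 h7').symm
  have hcop6 : ∀ (i a b : ℕ), ¬ 2 ∣ i → ¬ 3 ∣ i → Nat.Coprime i (2 ^ a * 3 ^ b) := by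
    intro i a b h2 h3
    exact Nat.Coprime.mul_right
      (Nat.Coprime.pow_right a ((Nat.Prime.coprime_iff_not_dvd Nat.prime_two).2 h2).symm)
      (Nat.Coprime.pow_right b ((Nat.Prime.coprime_iff_not_dvd Nat.prime_three).2 h3).symm)
  constructor
  · intro hH
    -- the order of `H`
    have hidx : Nat.card H * H.index = 5040 := by
      rw [← hperm]; exact H.card_mul_index
    have hc5 : ¬ 5 ∣ Nat.card H := fun h => h5π (hH.1 5 Nat.prime_five h)
    have hc7 : ¬ 7 ∣ Nat.card H := fun h => h7π (hH.1 7 hp7 h)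
    have hi2 : ¬ 2 ∣ H.index := hH.2 2 Nat.prime_two h2π
    have hi3 : ¬ 3 ∣ H.index := hH.2 3 Nat.prime_three h3π
    have hcard : Nat.card H = 144 := by
      refine eq_of_mul_eq_of_coprime (B := 35) (i := H.index) (hidx.trans (by norm_num))
        (by norm_num) (by norm_num) (hcop35 _ hc5 hc7) ?_
      have := hcop6 H.index 4 2 hi2 hi3
      norm_num at this
      exact this
    -- the orbit of `x`
    have hΔne : MulAction.orbit ↥H x ≠ Set.univ := by
      intro h
      have h1 := ncard_orbit_dvd_card H x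
      rw [h, Set.ncard_univ, h7, hcard] at h1
      omega
    obtain ⟨E1, E2, hch, -⟩ := keys.intrans π H hH x
    have ha1 : 1 ≤ (MulAction.orbit ↥H x).ncard :=
      (Set.ncard_pos (Set.toFinite _)).2 (MulAction.nonempty_orbit x)
    have ha6 : (MulAction.orbit ↥H x).ncard ≤ 6 := by
      have := Set.ncard_lt_card hΔne
      omega
    have h3c := hch 3 Nat.prime_three h3π
    rw [h7] at h3c
    have hHS := le_stabilizer_orbit H x
    have hE1 := cls_of_hall π E1
    have hE2 := cls_of_hall π E2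
    rw [Nat.card_coe_set_eq] at hE1 hE2
    rw [Set.ncard_compl, h7] at hE2
    generalize MulAction.orbit ↥H x = Δ at *
    rcases choose_seven_cases _ ha1 ha6 h3c with ha | ha | ha | ha
    · exfalso
      rw [ha] at hE2
      exact not_cls_six π hB hE2
    · refine ⟨Δ, ha, ?_⟩
      apply Subgroup.eq_of_le_of_card_ge hHS
      rw [hG1 Δ, ha, hcard]
      decide
    · refine ⟨Δᶜ, by rw [Set.ncard_compl, h7, ha], ?_⟩
      rw [stabilizer_compl]
      apply Subgroup.eq_of_le_of_card_ge hHS
      rw [hG1 Δ, ha, hcard]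
      decide
    · exfalso
      rw [ha] at hE1
      exact not_cls_six π hB hE1
  · intro hH
    -- the order of `H`
    have hnt : Nontrivial α := Finite.one_lt_card_iff_nontrivial.1 (by omega)
    have hAidx : (altSub α).index = 2 := by
      let _ := Fintype.ofFinite α
      rw [altSub_eq]
      exact alternatingGroup.index_eq_two
    have hHr : H.index = H.relIndex (altSub α) * 2 := by
      rw [← hAidx]
      exact (Subgroup.relIndex_mul_index hH.1).symm
    have hidx : Nat.card H * H.relIndex (altSub α) = 2520 := by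
      have h1 : Nat.card H * H.index = 5040 := by
        rw [← hperm]; exact H.card_mul_index
      rw [hHr] at h1
      have h2 : Nat.card H * H.relIndex (altSub α) * 2 = 2520 * 2 := by
        rw [mul_assoc]; exact h1
      exact Nat.eq_of_mul_eq_mul_right (by norm_num) h2
    have hc5 : ¬ 5 ∣ Nat.card H := fun h => h5π (hH.2.1 5 Nat.prime_five h)
    have hc7 : ¬ 7 ∣ Nat.card H := fun h => h7π (hH.2.1 7 hp7 h)
    have hi2 : ¬ 2 ∣ H.relIndex (altSub α) := hH.2.2 2 Nat.prime_two h2π
    have hi3 : ¬ 3 ∣ H.relIndex (altSub α) := hH.2.2 3 Nat.prime_three h3π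
    have hcard : Nat.card H = 72 := by
      refine eq_of_mul_eq_of_coprime (B := 35) (i := H.relIndex (altSub α))
        (hidx.trans (by norm_num)) (by norm_num) (by norm_num) (hcop35 _ hc5 hc7) ?_
      have := hcop6 (H.relIndex (altSub α)) 3 2 hi2 hi3
      norm_num at this
      exact this
    -- the orbit of `x`
    have hΔne : MulAction.orbit ↥H x ≠ Set.univ := by
      intro h
      have h1 := ncard_orbit_dvd_card H x
      rw [h, Set.ncard_univ, h7, hcard] at h1
      omega
    obtain ⟨-, -, o3, o4, hch, -⟩ := A.intrans π h2π H hH x hΔne (by omega)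
    have ha1 : 1 ≤ (MulAction.orbit ↥H x).ncard :=
      (Set.ncard_pos (Set.toFinite _)).2 (MulAction.nonempty_orbit x)
    have ha6 : (MulAction.orbit ↥H x).ncard ≤ 6 := by
      have := Set.ncard_lt_card hΔne
      omega
    have h3c := hch 3 Nat.prime_three h3π
    rw [h7] at h3c o3
    have hHS : H ≤ MulAction.stabilizer (Equiv.Perm α) (MulAction.orbit ↥H x) ⊓ altSub α :=
      le_inf (le_stabilizer_orbit H x) hH.1
    have hE1 : AltE π ↥(MulAction.orbit ↥H x) → Cls π (MulAction.orbit ↥H x).ncard := fun h =>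
      cls_of_altE_aux keys A _ _ (Nat.card_coe_set_eq _) π h2π h
    have hE2 : AltE π ↥((MulAction.orbit ↥H x)ᶜ : Set α) →
        Cls π (7 - (MulAction.orbit ↥H x).ncard) := fun h =>
      cls_of_altE_aux keys A _ _ (by rw [Nat.card_coe_set_eq, Set.ncard_compl, h7]) π h2π h
    generalize MulAction.orbit ↥H x = Δ at *
    rcases choose_seven_cases _ ha1 ha6 h3c with ha | ha | ha | ha
    · exfalso
      have := hE2 (o4 (by omega))
      rw [ha] at this
      exact not_cls_six π hB this
    · refine ⟨Δ, ha, ?_⟩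
      apply Subgroup.eq_of_le_of_card_ge hHS
      have h1 := card_stabilizer_inf_altSub Δ (by omega)
      rw [hG1 Δ, ha] at h1
      have h2 : (Nat.factorial 3) * (Nat.factorial (7 - 3)) = 144 := by decide
      rw [h2] at h1
      omega
    · refine ⟨Δᶜ, by rw [Set.ncard_compl, h7, ha], ?_⟩
      rw [stabilizer_compl]
      apply Subgroup.eq_of_le_of_card_ge hHS
      have h1 := card_stabilizer_inf_altSub Δ (by omega)
      rw [hG1 Δ, ha] at h1
      have h2 : (Nat.factorial 4) * (Nat.factorial (7 - 4)) = 144 := by decide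
      rw [h2] at h1
      omega
    · exfalso
      have := hE1 (o3 (by omega))
      rw [ha] at this
      exact not_cls_six π hB this

end Cfsg.Agent.Lib.Helper67.HallAlt
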