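import Mathlib
import Cfsg.Prelude.Def_GeometricClasses
import Cfsg.Prelude.Def_ClassicalGeometry
import Cfsg.Agent.Lib.Helper13.SpUE

/-!
# K-SpF-E (keystone 597509, S5975 pack, architect helper38)

`derange_unip`: a symplectic transvection of `Sp_{2d}(q)`, `d ≥ 2` (any characteristic), has no conjugate in
the normaliser of a field subalgebra of degree `k ≥ 2`.
-/

set_option autoImplicit false

namespace Cfsg.Agent.Lib.Helper67.SpF

open Cfsg Cfsg.Geo
open scoped Matrix MatrixGroups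

section gen

variable {F : Type*} [Field F] {ι : Type} [Fintype ι] [DecidableEq ι]

/-- a subalgebra of dimension at least two contains a non-scalar element -/
theorem exists_nonscalar [Nonempty ι] (K : Subalgebra F (Matrix ι ι F))
    (hfr : 2 ≤ Module.finrank F K) : ∃ θ ∈ K, ∀ a : F, θ ≠ a • (1 : Matrix ι ι F) := by
  by_contra hcon
  push Not at hcon
  have hbot : K = ⊥ := by
    rw [eq_bot_iff]
    intro x hx
    obtain ⟨a, ha⟩ := hcon x hx
    rw [Algebra.mem_bot]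
    exact ⟨a, by rw [Algebra.algebraMap_eq_smul_one, ha]⟩
  rw [hbot, Subalgebra.finrank_bot] at hfr
  omega

/-- The elements of a field subalgebra of degree `≥ 2` have no common eigenvector. -/
theorem no_common_eigenvector' [Nonempty ι] (k : ℕ) (hk : 2 ≤ k) (K : Subalgebra F (Matrix ι ι F))
    (hK : IsFieldSubalgebra k K) (w : ι → F) (hw : w ≠ 0)
    (h : ∀ a ∈ K, ∃ c : F, a *ᵥ w = c • w) : False := by
  obtain ⟨θ, hθ, hns⟩ := exists_nonscalar K (by rw [hK.finrank_eq]; exact hk)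
  obtain ⟨c, hc⟩ := h θ hθ
  have hmem : θ - c • (1 : Matrix ι ι F) ∈ K := K.sub_mem hθ (K.smul_mem K.one_mem c)
  have hne : θ - c • (1 : Matrix ι ι F) ≠ 0 := fun h0 => hns c (sub_eq_zero.mp h0)
  obtain ⟨b, hb, hbb⟩ := hK.inv _ hmem hne
  have hbb' : b * (θ - c • (1 : Matrix ι ι F)) = 1 := by
    rw [← hK.comm _ hmem b hb]; exact hbb
  have h0 : (θ - c • (1 : Matrix ι ι F)) *ᵥ w = 0 := by
    rw [Matrix.sub_mulVec, hc, Matrix.smul_mulVec, Matrix.one_mulVec, sub_self]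
  apply hw
  calc w = (b * (θ - c • (1 : Matrix ι ι F))) *ᵥ w := by rw [hbb', Matrix.one_mulVec]
    _ = b *ᵥ ((θ - c • (1 : Matrix ι ι F)) *ᵥ w) := by rw [Matrix.mulVec_mulVec]
    _ = 0 := by rw [h0, Matrix.mulVec_zero]

end gen

section main

variable {F : Type*} [Field F]

open Cfsg.Agent.Lib.Helper11.SpMax Cfsg.Agent.Lib.Helper18 Cfsg.Agent.Lib.Helper13.SpU

/-- a transvection normalising a field subalgebra `K` (in dimension `2d ≥ 4`) centralises it:
`a - y a y⁻¹ ∈ K` has rank at most `2`. -/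
theorem tg_commute_of_mem_normalizer (d : ℕ) (hd : 2 ≤ d) (k : ℕ)
    (K : Subalgebra F (Matrix (Fin d ⊕ Fin d) (Fin d ⊕ Fin d) F)) (hK : IsFieldSubalgebra k K)
    (w : Fin d ⊕ Fin d → F) (hmem : tg d w 1 ∈ subalgebraNormalizer K) :
    ∀ a ∈ K, (tg d w 1).1 * a = a * (tg d w 1).1 := by
  intro a ha
  set Y : Matrix (Fin d ⊕ Fin d) (Fin d ⊕ Fin d) F := (tg d w 1).1 with hY
  set Y' : Matrix (Fin d ⊕ Fin d) (Fin d ⊕ Fin d) F :=
    ((tg d w 1)⁻¹ : GL (Fin d ⊕ Fin d) F).1 with hY'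
  have hY'Y : Y' * Y = 1 := by rw [hY, hY', ← Units.val_mul, inv_mul_cancel, Units.val_one]
  have ha' : Y * a * Y' ∈ K := (hmem a).mp ha
  have hYa : Y * a = (Y * a * Y') * Y := by
    rw [mul_assoc (Y * a), hY'Y, mul_one]
  by_contra hne
  have hδ : a - Y * a * Y' ≠ 0 := by
    intro h0
    apply hne
    rw [sub_eq_zero] at h0
    calc Y * a = (Y * a * Y') * Y := hYa
      _ = a * Y := by rw [← h0]
  obtain ⟨δ', hδ', hδδ'⟩ := hK.inv _ (K.sub_mem ha ha') hδ
  have hδ'δ : δ' * (a - Y * a * Y') = 1 := by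
    rw [← hK.comm _ (K.sub_mem ha ha') δ' hδ']; exact hδδ'
  let φ₁ : (Fin d ⊕ Fin d → F) →ₗ[F] F :=
    { toFun := fun x => Cfsg.sympForm d F x w
      map_add' := fun x y => sf_add_left d x y w
      map_smul' := fun c x => by simp [sf_smul_left] }
  let φ : (Fin d ⊕ Fin d → F) →ₗ[F] F × F := φ₁.prod (φ₁ ∘ₗ Matrix.mulVecLin a)
  have hlt : Module.finrank F (F × F) < Module.finrank F (Fin d ⊕ Fin d → F) := by
    rw [Module.finrank_prod, Module.finrank_self, Module.finrank_fintype_fun_eq_card,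
      Fintype.card_sum, Fintype.card_fin]
    omega
  obtain ⟨x, hxker, hx0⟩ :=
    (Submodule.ne_bot_iff _).mp (LinearMap.ker_ne_bot_of_finrank_lt (f := φ) hlt)
  have hx : φ x = 0 := LinearMap.mem_ker.mp hxker
  have hx1 : Cfsg.sympForm d F x w = 0 := congrArg Prod.fst hx
  have hx2 : Cfsg.sympForm d F (a *ᵥ x) w = 0 := congrArg Prod.snd hx
  have hYx : Y *ᵥ x = x := by rw [hY, tg_act, hx1, mul_zero, zero_smul, add_zero]
  have hYax : Y *ᵥ (a *ᵥ x) = a *ᵥ x := by rw [hY, tg_act, hx2, mul_zero, zero_smul, add_zero]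
  have h1 : (Y * a) *ᵥ x = ((Y * a * Y') * Y) *ᵥ x := by rw [← hYa]
  rw [← Matrix.mulVec_mulVec, ← Matrix.mulVec_mulVec, hYax, hYx] at h1
  have h2 : (a - Y * a * Y') *ᵥ x = 0 := by rw [Matrix.sub_mulVec, ← h1, sub_self]
  apply hx0
  calc x = (δ' * (a - Y * a * Y')) *ᵥ x := by rw [hδ'δ, Matrix.one_mulVec]
    _ = δ' *ᵥ ((a - Y * a * Y') *ᵥ x) := by rw [Matrix.mulVec_mulVec]
    _ = 0 := by rw [h2, Matrix.mulVec_zero]

/-- a transvection along `w ≠ 0` with parameter `1` is not in the normaliser of a field subalgebra of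
degree `≥ 2` (dimension `2d ≥ 4`, any characteristic) -/
theorem tg_not_mem_normalizer' (d : ℕ) (hd : 2 ≤ d) (k : ℕ) (hk : 2 ≤ k)
    (K : Subalgebra F (Matrix (Fin d ⊕ Fin d) (Fin d ⊕ Fin d) F)) (hK : IsFieldSubalgebra k K)
    (w : Fin d ⊕ Fin d → F) (hw : w ≠ 0) : tg d w 1 ∉ subalgebraNormalizer K := by
  intro hmem
  have : Nonempty (Fin d ⊕ Fin d) := ⟨Sum.inl ⟨0, by omega⟩⟩
  have hcomm := tg_commute_of_mem_normalizer d hd k K hK w hmem
  obtain ⟨u, hu⟩ := sf_nondeg_top d w hw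
  have hu' : Cfsg.sympForm d F u w ≠ 0 := by
    rw [sf_swap]; exact neg_ne_zero.mpr hu
  apply no_common_eigenvector' k hk K hK w hw
  intro a ha
  have h1 : ((tg d w 1).1 * a) *ᵥ u = (a * (tg d w 1).1) *ᵥ u := by rw [hcomm a ha]
  rw [← Matrix.mulVec_mulVec, ← Matrix.mulVec_mulVec, tg_act, tg_act, Matrix.mulVec_add,
    Matrix.mulVec_smul, one_mul, one_mul] at h1
  have h3 : Cfsg.sympForm d F (a *ᵥ u) w • w = Cfsg.sympForm d F u w • (a *ᵥ w) :=
    add_left_cancel h1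
  refine ⟨Cfsg.sympForm d F (a *ᵥ u) w / Cfsg.sympForm d F u w, ?_⟩
  calc a *ᵥ w = (Cfsg.sympForm d F u w)⁻¹ • (Cfsg.sympForm d F u w • (a *ᵥ w)) := by
        rw [smul_smul, inv_mul_cancel₀ hu', one_smul]
    _ = (Cfsg.sympForm d F (a *ᵥ u) w / Cfsg.sympForm d F u w) • w := by
        rw [← h3, smul_smul, div_eq_inv_mul]

/-- **K-SpF-E** (597509) -/
theorem derange_unip [Fintype F] {p : ℕ} [Fact p.Prime] [CharP F p] (d : ℕ) (hd : 2 ≤ d) (k : ℕ)
    (hk : 2 ≤ k)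
    (K : Subalgebra F (Matrix (Fin d ⊕ Fin d) (Fin d ⊕ Fin d) F)) (hK : IsFieldSubalgebra k K) :
    ∃ x ∈ spGL d F, (x ^ p : GL (Fin d ⊕ Fin d) F) = 1 ∧
      (∀ z : F, (x : Matrix (Fin d ⊕ Fin d) (Fin d ⊕ Fin d) F) ≠
        z • (1 : Matrix (Fin d ⊕ Fin d) (Fin d ⊕ Fin d) F)) ∧
      ∀ g ∈ spGL d F, g⁻¹ * x * g ∉ subalgebraNormalizer K := by
  classical
  have hd1 : 1 ≤ d := by omega
  set v₀ : Fin d ⊕ Fin d → F := Pi.single (Sum.inl ⟨0, hd1⟩) 1 with hv₀
  have hv₀0 : v₀ ≠ 0 := by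
    intro h
    have := congrFun h (Sum.inl ⟨0, hd1⟩)
    rw [hv₀, Pi.single_eq_same, Pi.zero_apply] at this
    exact one_ne_zero this
  refine ⟨tg d v₀ 1, tg_mem d v₀ 1, ?_, ?_, ?_⟩
  · rw [tg_pow, CharP.cast_eq_zero F p, zero_mul]
    apply gl_ext
    intro x
    rw [tg_act, zero_mul, zero_smul, add_zero, Units.val_one, Matrix.one_mulVec]
  · intro z hz
    obtain ⟨u, hu⟩ := sf_nondeg_top d v₀ hv₀0
    have hu' : Cfsg.sympForm d F u v₀ ≠ 0 := by
      rw [sf_swap]; exact neg_ne_zero.mpr hu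
    have e1 : ∀ x : Fin d ⊕ Fin d → F, x + (Cfsg.sympForm d F x v₀) • v₀ = z • x := by
      intro x
      have := tg_act d v₀ (1 : F) x
      rw [one_mul] at this
      rw [← this]
      show ((tg d v₀ 1 : GL (Fin d ⊕ Fin d) F) : Matrix (Fin d ⊕ Fin d) (Fin d ⊕ Fin d) F) *ᵥ x
        = z • x
      rw [hz, Matrix.smul_mulVec, Matrix.one_mulVec]
    have hz1 : z = 1 := by
      have h1 := e1 v₀
      rw [sf_self, zero_smul, add_zero] at h1
      by_contra hne
      apply hv₀0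
      have h2 : (z - 1) • v₀ = 0 := by rw [sub_smul, one_smul, ← h1, sub_self]
      rcases smul_eq_zero.mp h2 with h3 | h3
      · exact absurd (sub_eq_zero.mp h3) hne
      · exact h3
    have h4 := e1 u
    rw [hz1, one_smul] at h4
    have h5 : (Cfsg.sympForm d F u v₀) • v₀ = 0 := by
      have := add_left_cancel (a := u) (b := (Cfsg.sympForm d F u v₀) • v₀) (c := 0)
        (by rw [add_zero]; exact h4)
      exact this
    rcases smul_eq_zero.mp h5 with h6 | h6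
    · exact hu' h6
    · exact hv₀0 h6
  · intro g hg
    have hg' : g⁻¹ ∈ spGL d F := (spGL d F).inv_mem hg
    have hconj : g⁻¹ * tg d v₀ 1 * g =
        tg d ((g⁻¹ : GL (Fin d ⊕ Fin d) F).1 *ᵥ v₀) 1 := by
      have := conj_tg d g⁻¹ hg' v₀ (1 : F)
      rw [inv_inv] at this
      exact this
    rw [hconj]
    apply tg_not_mem_normalizer' d hd k hk K hK
    intro h0
    apply hv₀0
    have := gl_act_inv d g v₀
    rw [h0, Matrix.mulVec_zero] at this
    exact this.symm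

end main

end Cfsg.Agent.Lib.Helper67.SpF
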