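import Cfsg.Agent.Lib.Helper69.OPbDefs
import Cfsg.Agent.Lib.Helper50.PlusForm
import Cfsg.Agent.Lib.Helper27.OPb10Core
import Cfsg.Agent.Lib.Helper61.OPb1
import Cfsg.Agent.Lib.Helper84.OPb9
import Cfsg.Agent.Lib.Helper13.OPb15

/-!
# K-OPb-17 (keystone 598917, S5989 / S5991 pack, architect helper69)

`case_fix`: the CONCRETE semisimple fixing statement, glue of LEAF 10 (`Helper27.OPb.exists_fixed_semisimple_of_leaves`
with LEAF 1 `Helper61.OPb.exists_sub_isoCls` and LEAF 9 `Helper84.OPb.piece_chain` plugged in) and LEAF 15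
(`Helper13.OPb`, bridge).
-/

set_option autoImplicit false

namespace Cfsg.Agent.Lib.Helper67.OPb

open Module Cfsg.Agent.Lib.Helper98.Elus Cfsg.Agent.Lib.Helper98.Sy Cfsg.Agent.Lib.Helper98.Oh
  Cfsg.Agent.Lib.Helper69.OPb

universe u
variable {F : Type u} [Field F]

/-- LEAF 10 (hypothesis-free): `Helper27.OPb.exists_fixed_semisimple_of_leaves` with LEAF 1 and LEAF 9 plugged in. -/
theorem exists_fixed_semisimple' {V : Type u} [AddCommGroup V] [Module F V] [Fintype F] (h2 : (2 : F) ≠ 0)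
    [FiniteDimensional F V]
    (B : LinearMap.BilinForm F V) (hS : ∀ a b, B a b = B b a) (hV : NonDeg B ⊤)
    (p f : ℕ) [Fact p.Prime] (hF : Fintype.card F = p ^ f)
    (r : ℕ) [Fact r.Prime] (hpr : p ≠ r) (hr2 : r ≠ 2) (hrF : (r : F) ≠ 0) (y : V →ₗ[F] V)
    (hy : y ^ r = 1) (hiso : Iso B y)
    (m : ℕ) (hm : Odd m) (hmn : m < finrank F V)
    (W₀ : Submodule F V) (hW₀ : NonDeg B W₀) (hW₀d : finrank F W₀ = m)
    (hcond : m % cOf (orderOf ((Fintype.card F : ℕ) : ZMod r)) <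
        finrank F V % cOf (orderOf ((Fintype.card F : ℕ) : ZMod r)) ∨
      (finrank F V % cOf (orderOf ((Fintype.card F : ℕ) : ZMod r)) = 0 ∧
        ¬ (Plus B ⊤ ↔ (Odd (orderOf ((Fintype.card F : ℕ) : ZMod r)) ∨
          Even (finrank F V / cOf (orderOf ((Fintype.card F : ℕ) : ZMod r))))))) :
    ∃ W : Submodule F V, Inv y W ∧ NonDeg B W ∧ IsoCls B W W₀ :=
  Cfsg.Agent.Lib.Helper27.OPb.exists_fixed_semisimple_of_leaves
    (fun h2 B hS U hU W₀ hW₀ hlt => Cfsg.Agent.Lib.Helper61.OPb.exists_sub_isoCls h2 B hS U hU W₀ hW₀ hlt)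
    (fun h2 B hS hV p f _ hF r _ hpr hr2 hrF y hy hiso U hUV1 hU hUnd =>
      Cfsg.Agent.Lib.Helper84.OPb.piece_chain h2 B hS hV p f hF r hpr hr2 hrF y hy hiso U hUV1 hU hUnd)
    h2 B hS hV p f hF r hpr hr2 hrF y hy hiso m hm hmn W₀ hW₀ hW₀d hcond

/-- `2 ≠ 0` in a finite field of odd cardinality -/
theorem two_ne_zero_of_odd [Fintype F] (hodd : Odd (Fintype.card F)) : (2 : F) ≠ 0 := by
  have hch : ringChar F ≠ 2 := by
    intro h
    have h0 := (FiniteField.even_card_iff_char_two).1 h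
    rcases hodd with ⟨t, ht⟩
    omega
  exact Ring.two_ne_zero hch

/-- the plus form takes a nonzero value -/
theorem exists_QPlus_ne_zero (d : ℕ) (hd : 0 < d) :
    ∃ v, Cfsg.Agent.Lib.Helper50.QPlus d F v ≠ 0 := by
  refine ⟨Sum.elim (Pi.single ⟨0, hd⟩ 1) (Pi.single ⟨0, hd⟩ 1), ?_⟩
  show (Pi.single (⟨0, hd⟩ : Fin d) (1 : F)) ⬝ᵥ (Pi.single (⟨0, hd⟩ : Fin d) (1 : F)) ≠ 0
  simp

/-- LEAF 17 -/
theorem case_fix [Fintype F] {p : ℕ} [Fact p.Prime] [CharP F p] (hodd : Odd (Fintype.card F))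
    (d m : ℕ) (hm : Odd m) (hmd : m < d)
    (W₀ : Submodule F (Fin d ⊕ Fin d → F))
    (hW₀ : Module.finrank F ↥W₀ = m ∧
      Cfsg.Geo.IsNondegenerateOn (QuadraticMap.polar (Cfsg.quadFormPlus d F)) W₀)
    (r : ℕ) [Fact r.Prime] (hrp : r ≠ p) (hr2 : 2 < r)
    (hcond : m % cOf (orderOf ((Fintype.card F : ℕ) : ZMod r)) <
        (2 * d) % cOf (orderOf ((Fintype.card F : ℕ) : ZMod r)) ∨
      ((2 * d) % cOf (orderOf ((Fintype.card F : ℕ) : ZMod r)) = 0 ∧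
        Even (orderOf ((Fintype.card F : ℕ) : ZMod r)) ∧
        Odd ((2 * d) / cOf (orderOf ((Fintype.card F : ℕ) : ZMod r)))))
    (x : GL (Fin d ⊕ Fin d) F) (hxΩ : x ∈ Cfsg.Geo.omegaGL (Cfsg.quadFormPlus d F))
    (hxr : ∃ z : F, ((x ^ r : GL (Fin d ⊕ Fin d) F) : Matrix (Fin d ⊕ Fin d) (Fin d ⊕ Fin d) F) = z • (1 : Matrix (Fin d ⊕ Fin d) (Fin d ⊕ Fin d) F))
    (hxns : ∀ z : F, (x : Matrix (Fin d ⊕ Fin d) (Fin d ⊕ Fin d) F) ≠ z • (1 : Matrix (Fin d ⊕ Fin d) (Fin d ⊕ Fin d) F)) :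
    ∃ W : Submodule F (Fin d ⊕ Fin d → F), (Module.finrank F ↥W = m ∧ Cfsg.Geo.IsNondegenerateOn (QuadraticMap.polar (Cfsg.quadFormPlus d F)) W ∧ Cfsg.Geo.AreIsometricFor (Cfsg.quadFormPlus d F) W W₀) ∧ W.map (Matrix.toLin' (x : Matrix (Fin d ⊕ Fin d) (Fin d ⊕ Fin d) F)) ≤ W := by
  classical
  obtain ⟨T, hT⟩ : ∃ T : Module.End F (Fin d ⊕ Fin d → F),
      T = Matrix.toLin' (x : Matrix (Fin d ⊕ Fin d) (Fin d ⊕ Fin d) F) := ⟨_, rfl⟩
  rw [← hT]
  have h2 : (2 : F) ≠ 0 := two_ne_zero_of_odd hodd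
  have hd0 : 0 < d := by omega
  -- the quadratic form and its polar form
  let Q : QuadraticForm F (Fin d ⊕ Fin d → F) := Cfsg.Agent.Lib.Helper50.QPlus d F
  let B : LinearMap.BilinForm F (Fin d ⊕ Fin d → F) := QuadraticMap.polarBilin Q
  have hS : ∀ a b, B a b = B b a := Cfsg.Agent.Lib.Helper13.OPb.polarBilin_symm Q
  have hV : NonDeg B ⊤ :=
    Cfsg.Agent.Lib.Helper13.OPb.nonDeg_top_of_nondegenerate Q Cfsg.Agent.Lib.Helper50.QPlus_nondegenerate
  have hfr : finrank F (Fin d ⊕ Fin d → F) = 2 * d := by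
    rw [Module.finrank_fintype_fun_eq_card, Fintype.card_sum, Fintype.card_fin]; ring
  -- `x` is an isometry
  have hxI : x ∈ Cfsg.isometryGroup F ⇑Q := by
    obtain ⟨g, _, hg⟩ := hxΩ
    rw [← hg]
    exact g.2
  -- the scalar is `± 1`
  obtain ⟨z, hz⟩ := hxr
  have hz1 : z = 1 ∨ z = -1 :=
    Cfsg.Agent.Lib.Helper13.OPb.scalar_eq_of_mem Q (exists_QPlus_ne_zero d hd0) (x ^ r)
      (Subgroup.pow_mem _ hxI r) z hz
  -- arithmetic facts
  obtain ⟨f, _, hF⟩ := FiniteField.card F p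
  have hr2' : r ≠ 2 := by omega
  have hrodd : Odd r := (Fact.out : r.Prime).odd_of_ne_two hr2'
  have hrF : (r : F) ≠ 0 := by
    intro h
    rw [CharP.cast_eq_zero_iff F p] at h
    exact hrp ((Nat.prime_dvd_prime_iff_eq (Fact.out : p.Prime) (Fact.out : r.Prime)).mp h).symm
  have hW₀N : NonDeg B W₀ := (Cfsg.Agent.Lib.Helper13.OPb.nonDeg_polarBilin_iff Q W₀).2 hW₀.2
  have hPlus : Plus B ⊤ := by
    obtain ⟨X, hX, hXd⟩ := Cfsg.Agent.Lib.Helper13.OPb.exists_ts_QPlus (F := F) d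
    exact ⟨X, le_top, hX, by rw [hXd, finrank_top, hfr]⟩
  have hcond' : m % cOf (orderOf ((Fintype.card F : ℕ) : ZMod r)) <
        finrank F (Fin d ⊕ Fin d → F) % cOf (orderOf ((Fintype.card F : ℕ) : ZMod r)) ∨
      (finrank F (Fin d ⊕ Fin d → F) % cOf (orderOf ((Fintype.card F : ℕ) : ZMod r)) = 0 ∧
        ¬ (Plus B ⊤ ↔ (Odd (orderOf ((Fintype.card F : ℕ) : ZMod r)) ∨
          Even (finrank F (Fin d ⊕ Fin d → F) / cOf (orderOf ((Fintype.card F : ℕ) : ZMod r)))))) := by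
    rw [hfr]
    rcases hcond with h | ⟨h0, hev, hodd'⟩
    · exact Or.inl h
    · refine Or.inr ⟨h0, fun hiff => ?_⟩
      rcases hiff.1 hPlus with h1 | h1
      · exact (Nat.not_odd_iff_even.2 hev) h1
      · exact (Nat.not_even_iff_odd.2 hodd') h1
  -- the main step, for an isometry `y` of order dividing `r` with the same invariant subspaces as `x`
  have key : ∀ y : (Fin d ⊕ Fin d → F) →ₗ[F] (Fin d ⊕ Fin d → F), y ^ r = 1 → Iso B y →
      (∀ W : Submodule F (Fin d ⊕ Fin d → F), Inv y W → Inv T W) →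
      ∃ W : Submodule F (Fin d ⊕ Fin d → F), (Module.finrank F ↥W = m ∧ Cfsg.Geo.IsNondegenerateOn (QuadraticMap.polar (Cfsg.quadFormPlus d F)) W ∧ Cfsg.Geo.AreIsometricFor (Cfsg.quadFormPlus d F) W W₀) ∧ W.map T ≤ W := by
    intro y hy hiso hinv
    obtain ⟨W, hWinv, hWnd, hWiso⟩ :=
      exists_fixed_semisimple' h2 B hS hV p f hF r hrp.symm hr2' hrF y hy hiso
        m hm (by rw [hfr]; omega) W₀ hW₀N hW₀.1 hcond'
    refine ⟨W, ⟨?_, ?_, ?_⟩, ?_⟩
    · obtain ⟨e, _⟩ := hWiso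
      rw [e.finrank_eq, hW₀.1]
    · exact (Cfsg.Agent.Lib.Helper13.OPb.nonDeg_polarBilin_iff Q W).1 hWnd
    · exact (Cfsg.Agent.Lib.Helper13.OPb.isoCls_polarBilin_iff h2 Q W W₀).1 hWiso
    · have h1 := hinv W hWinv
      rw [hT] at h1
      have h2' := (Cfsg.Agent.Lib.Helper13.OPb.inv_toLin'_iff _ W).1 h1
      rwa [← hT] at h2'
  have hxpowv : ∀ v, (T ^ r) v = z • v := by
    intro v
    rw [hT, ← Matrix.toLin'_pow, ← Units.val_pow_eq_pow_val, hz, Matrix.toLin'_apply, Matrix.smul_mulVec,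
      Matrix.one_mulVec]
  have hisox : Iso B T := by
    rw [hT]
    exact Cfsg.Agent.Lib.Helper13.OPb.iso_toLin'_of_mem Q x hxI
  rcases hz1 with hz1 | hz1
  · -- `x ^ r = 1`
    apply key T
    · apply LinearMap.ext
      intro v
      rw [hxpowv, hz1, one_smul]
      rfl
    · exact hisox
    · intro W hW; exact hW
  · -- `x ^ r = -1`: take `- x`
    apply key (-T)
    · have h1 : (-T) ^ r = -(T ^ r) := Odd.neg_pow hrodd T
      apply LinearMap.ext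
      intro v
      rw [h1, LinearMap.neg_apply, hxpowv, hz1, neg_smul, one_smul, neg_neg]
      rfl
    · intro u v
      simp only [LinearMap.neg_apply, map_neg, neg_neg]
      exact hisox u v
    · intro W hW v hv
      have := W.neg_mem (hW v hv)
      rwa [LinearMap.neg_apply, neg_neg] at this

end Cfsg.Agent.Lib.Helper67.OPb
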