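import Mathlib
import Cfsg.Agent.Lib.Helper89.RkTwoDefs
import Cfsg.Agent.Lib.Helper68.Rank2Reg
import Cfsg.Agent.Lib.Helper15.CommClosure

/-!
# K-S5289-D1a: the groups `G(p, n; s)` are `p`-abelian
-/

set_option autoImplicit false
set_option linter.style.haveILetI false
set_option linter.unusedSectionVars false

namespace Cfsg.Agent.Lib.Helper67

open Cfsg Cfsg.Agent.Lib.Helper89
open scoped commutatorElement

section Aux

variable {Ω : Type*} [Group Ω]

theorem inv_conj_pow (x b : Ω) (i : ℕ) : (x⁻¹ * b * x) ^ i = x⁻¹ * b ^ i * x := by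
  have := conj_pow (a := x⁻¹) (b := b) (i := i)
  rwa [inv_inv] at this

/-- an element of finite order whose inverse conjugates a generating set into its closure normalizes
the closure -/
theorem conj_mem_closure_of_gens {T : Set Ω} {x : Ω} {k : ℕ} (hk : x ^ (k + 1) = 1)
    (h : ∀ t ∈ T, x⁻¹ * t * x ∈ Subgroup.closure T) :
    (∀ b ∈ Subgroup.closure T, x⁻¹ * b * x ∈ Subgroup.closure T) ∧
    (∀ b ∈ Subgroup.closure T, x * b * x⁻¹ ∈ Subgroup.closure T) := by
  have h1 : ∀ b ∈ Subgroup.closure T, x⁻¹ * b * x ∈ Subgroup.closure T := by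
    intro b hb
    induction hb using Subgroup.closure_induction with
    | mem t ht => exact h t ht
    | one => simp
    | mul a b _ _ iha ihb =>
      have e : x⁻¹ * (a * b) * x = (x⁻¹ * a * x) * (x⁻¹ * b * x) := by group
      rw [e]; exact Subgroup.mul_mem _ iha ihb
    | inv a _ iha =>
      have e : x⁻¹ * a⁻¹ * x = (x⁻¹ * a * x)⁻¹ := by group
      rw [e]; exact Subgroup.inv_mem _ iha
  refine ⟨h1, ?_⟩
  have h2 : ∀ j : ℕ, ∀ b ∈ Subgroup.closure T, x⁻¹ ^ j * b * x ^ j ∈ Subgroup.closure T := by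
    intro j
    induction j with
    | zero => intro b hb; simpa using hb
    | succ j ih =>
      intro b hb
      have h3 := ih _ (h1 b hb)
      have e : x⁻¹ ^ (j + 1) * b * x ^ (j + 1) = x⁻¹ ^ j * (x⁻¹ * b * x) * x ^ j := by
        rw [pow_succ, pow_succ']; group
      rw [e]; exact h3
  intro b hb
  have h3 := h2 k b hb
  have hkx : x ^ k * x = 1 := by rw [← pow_succ]; exact hk
  have e1 : x⁻¹ ^ k = x := by
    rw [inv_pow]
    exact inv_eq_of_mul_eq_one_right hkx
  have e2 : x ^ k = x⁻¹ := eq_inv_of_mul_eq_one_left hkx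
  rw [e1, e2] at h3
  exact h3

theorem mem_normalizer_closure_of_gens {T : Set Ω} {x : Ω} {k : ℕ} (hk : x ^ (k + 1) = 1)
    (h : ∀ t ∈ T, x⁻¹ * t * x ∈ Subgroup.closure T) :
    x ∈ Subgroup.normalizer ((Subgroup.closure T : Subgroup Ω) : Set Ω) := by
  obtain ⟨h1, h2⟩ := conj_mem_closure_of_gens hk h
  rw [Subgroup.mem_normalizer_iff]
  intro b
  constructor
  · exact h2 b
  · intro hb
    have := h1 _ hb
    have e : x⁻¹ * (x * b * x⁻¹) * x = b := by group
    rwa [e] at this

/-- `|H ⊔ N| ≤ |H| |N|` when `H` normalizes `N` -/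
theorem card_sup_le_mul (H N : Subgroup Ω) [Finite H] [Finite N]
    (hLE : H ≤ Subgroup.normalizer ((N : Subgroup Ω) : Set Ω)) :
    Nat.card ↥(H ⊔ N) ≤ Nat.card H * Nat.card N := by
  rw [← Nat.card_prod]
  let f : H × N → ↥(H ⊔ N) := fun q =>
    ⟨(q.1 : Ω) * (q.2 : Ω), Subgroup.mul_mem _ (Subgroup.mem_sup_left q.1.2) (Subgroup.mem_sup_right q.2.2)⟩
  apply Nat.card_le_card_of_surjective f
  rintro ⟨g, hg⟩
  have hg' : g ∈ ((H ⊔ N : Subgroup Ω) : Set Ω) := hg
  rw [Subgroup.coe_mul_of_left_le_normalizer_right H N hLE] at hg'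
  obtain ⟨a, ha, b, hb, rfl⟩ := Set.mem_mul.1 hg'
  exact ⟨(⟨a, ha⟩, ⟨b, hb⟩), rfl⟩

/-- two commuting elements generate a group of order at most the product of the orders -/
theorem card_closure_pair_le {a b : Ω} (hab : a * b = b * a) [Finite (Subgroup.zpowers a)]
    [Finite (Subgroup.zpowers b)] :
    Nat.card ↥(Subgroup.closure ({a, b} : Set Ω)) ≤ orderOf a * orderOf b := by
  have e : Subgroup.closure ({a, b} : Set Ω) = Subgroup.zpowers a ⊔ Subgroup.zpowers b := by
    rw [Subgroup.zpowers_eq_closure, Subgroup.zpowers_eq_closure, ← Subgroup.closure_union]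
    rfl
  rw [e, ← Nat.card_zpowers a, ← Nat.card_zpowers b]
  apply card_sup_le_mul
  rw [Subgroup.zpowers_le]
  apply Subgroup.centralizer_le_normalizer
  rw [Subgroup.mem_centralizer_iff]
  intro h hh
  obtain ⟨k, rfl⟩ := Subgroup.mem_zpowers_iff.1 hh
  exact ((Commute.zpow_left (show Commute b a from hab.symm) k)).eq

/-- the closure of two commuting elements is abelian -/
theorem comm_of_mem_closure_pair {a b : Ω} (hab : a * b = b * a) :
    ∀ u ∈ Subgroup.closure ({a, b} : Set Ω), ∀ v ∈ Subgroup.closure ({a, b} : Set Ω),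
      u * v = v * u := by
  have h1 : Subgroup.closure ({a, b} : Set Ω) ≤ Subgroup.centralizer ({a, b} : Set Ω) := by
    rw [Subgroup.closure_le]
    rintro g (rfl | rfl)
    · rw [SetLike.mem_coe, Subgroup.mem_centralizer_iff]
      rintro h (rfl | rfl)
      · rfl
      · exact hab.symm
    · rw [SetLike.mem_coe, Subgroup.mem_centralizer_iff]
      rintro h (rfl | rfl)
      · exact hab
      · rfl
  have h2 : Subgroup.closure ({a, b} : Set Ω) ≤
      Subgroup.centralizer ((Subgroup.closure ({a, b} : Set Ω) : Subgroup Ω) : Set Ω) := by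
    rw [Subgroup.closure_le]
    intro g hg
    rw [SetLike.mem_coe, Subgroup.mem_centralizer_iff]
    intro h hh
    have := Subgroup.mem_centralizer_iff.1 (h1 hh) g hg
    exact this.symm
  intro u hu v hv
  exact (Subgroup.mem_centralizer_iff.1 (h2 hv) u hu)

end Aux

section D

variable {Ω : Type*} [Group Ω] {S : Subgroup Ω} {p n s : ℕ} {x y z : Ω}

theorem DData.finite_S [Fact p.Prime] (D : DData S p n s x y z) : Finite S := by
  apply Nat.finite_of_card_ne_zero
  rw [D.card]
  exact pow_ne_zero _ (Fact.out : p.Prime).ne_zero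

theorem DData.c_pow (D : DData S p n s x y z) : (z ^ p ^ (n - 3)) ^ p = 1 := by
  rw [← pow_mul, ← pow_succ]
  have : n - 3 + 1 = n - 2 := by have := D.hn; omega
  rw [this]
  exact D.zp

theorem DData.x_c (D : DData S p n s x y z) :
    x⁻¹ * z ^ p ^ (n - 3) * x = z ^ p ^ (n - 3) := by
  rw [← inv_conj_pow, D.rel2, (show Commute y z from D.yz).mul_pow]
  have : p ^ (n - 3) = p * p ^ (n - 4) := by
    have h : n - 3 = (n - 4) + 1 := by have := D.hn; omega
    rw [h, pow_succ']
  rw [this, pow_mul y, D.yp, one_pow, one_mul]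

theorem DData.x_zp (D : DData S p n s x y z) : x⁻¹ * z ^ p * x = z ^ p := by
  rw [← inv_conj_pow, D.rel2, (show Commute y z from D.yz).mul_pow, D.yp, one_mul]

theorem DData.y_c (D : DData S p n s x y z) : y * z ^ p ^ (n - 3) = z ^ p ^ (n - 3) * y :=
  ((show Commute y z from D.yz).pow_right _).eq

theorem DData.zp_central [Fact p.Prime] (D : DData S p n s x y z) :
    ∀ g ∈ S, g * z ^ p = z ^ p * g := by
  have h : S ≤ Subgroup.centralizer ({z ^ p} : Set Ω) := by
    rw [← D.gen, Subgroup.closure_le]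
    rintro g (hg | hg | hg)
    · rw [SetLike.mem_coe, Subgroup.mem_centralizer_iff]
      rintro h rfl
      rw [hg]
      have h1 := (DData.x_zp D)
      calc z ^ p * x = x * (x⁻¹ * z ^ p * x) := by group
        _ = x * z ^ p := by rw [h1]
    · rw [SetLike.mem_coe, Subgroup.mem_centralizer_iff]
      rintro h rfl
      rw [hg]
      exact (((show Commute y z from D.yz).pow_right p).eq).symm
    · rw [SetLike.mem_coe, Subgroup.mem_centralizer_iff]
      rintro h rfl
      have hg' : g = z := hg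
      rw [hg']
      exact pow_mul_comm' z p
  intro g hg
  exact (Subgroup.mem_centralizer_iff.1 (h hg) (z ^ p) rfl).symm

theorem DData.orderOf_z [Fact p.Prime] (D : DData S p n s x y z) : orderOf z = p ^ (n - 2) := by
  have hp := (Fact.out : p.Prime)
  haveI := (DData.finite_S D)
  have hAS : Subgroup.closure ({y, z} : Set Ω) ≤ S := by
    rw [Subgroup.closure_le]
    rintro g (hg | hg)
    · rw [hg]; exact D.hyS
    · have hg' : g = z := hg
      rw [hg']; exact D.hzS
  haveI : Finite (Subgroup.closure ({y, z} : Set Ω)) :=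
    Finite.of_injective _ (Subgroup.inclusion_injective hAS)
  haveI : Finite (Subgroup.zpowers x) :=
    Finite.of_injective _ (Subgroup.inclusion_injective (Subgroup.zpowers_le.2 D.hxS))
  haveI : Finite (Subgroup.zpowers y) :=
    Finite.of_injective _ (Subgroup.inclusion_injective (Subgroup.zpowers_le.2 D.hyS))
  haveI : Finite (Subgroup.zpowers z) :=
    Finite.of_injective _ (Subgroup.inclusion_injective (Subgroup.zpowers_le.2 D.hzS))
  have hSsup : S = Subgroup.zpowers x ⊔ Subgroup.closure ({y, z} : Set Ω) := by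
    rw [← D.gen, Subgroup.zpowers_eq_closure, ← Subgroup.closure_union]
    rfl
  have hxN : Subgroup.zpowers x ≤
      Subgroup.normalizer ((Subgroup.closure ({y, z} : Set Ω) : Subgroup Ω) : Set Ω) := by
    rw [Subgroup.zpowers_le]
    apply mem_normalizer_closure_of_gens (k := p - 1)
    · rw [Nat.sub_add_cancel hp.one_le]; exact D.xp
    · rintro t (ht | ht)
      · rw [ht, D.rel1]
        exact Subgroup.mul_mem _ (Subgroup.subset_closure (by simp))
          (Subgroup.pow_mem _ (Subgroup.subset_closure (by simp)) _)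
      · have ht' : t = z := ht
        rw [ht', D.rel2]
        exact Subgroup.mul_mem _ (Subgroup.subset_closure (by simp))
          (Subgroup.subset_closure (by simp))
  have h1 : Nat.card S ≤
      Nat.card (Subgroup.zpowers x) * Nat.card (Subgroup.closure ({y, z} : Set Ω)) := by
    have := card_sup_le_mul _ _ hxN
    rwa [← hSsup] at this
  have h2 : Nat.card (Subgroup.closure ({y, z} : Set Ω)) ≤ orderOf y * orderOf z :=
    card_closure_pair_le D.yz
  have hox : orderOf x ≤ p := orderOf_le_of_pow_eq_one hp.pos D.xp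
  have hoy : orderOf y ≤ p := orderOf_le_of_pow_eq_one hp.pos D.yp
  obtain ⟨k, hk, hkz⟩ := (Nat.dvd_prime_pow hp).1 (orderOf_dvd_of_pow_eq_one D.zp)
  rw [Nat.card_zpowers, D.card] at h1
  have h3 : p ^ n ≤ p * (p * p ^ k) := by
    calc p ^ n ≤ orderOf x * Nat.card (Subgroup.closure ({y, z} : Set Ω)) := h1
      _ ≤ p * (p * p ^ k) := by
        rw [← hkz]
        exact Nat.mul_le_mul hox (h2.trans (Nat.mul_le_mul_right _ hoy))
  have h4 : p * (p * p ^ k) = p ^ (k + 2) := by ring
  rw [h4] at h3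
  have h5 : n ≤ k + 2 := (Nat.pow_le_pow_iff_right hp.one_lt).1 h3
  have h6 : k = n - 2 := by have := D.hn; omega
  rw [hkz, h6]

/-- the derived subgroup lies in `⟨y, c⟩` -/
theorem DData.comm_le [Fact p.Prime] (D : DData S p n s x y z) :
    ⁅S, S⁆ ≤ Subgroup.closure ({y, z ^ p ^ (n - 3)} : Set Ω) := by
  have hp := (Fact.out : p.Prime)
  have hyD : y ∈ Subgroup.closure ({y, z ^ p ^ (n - 3)} : Set Ω) :=
    Subgroup.subset_closure (by simp)
  have hcD : z ^ p ^ (n - 3) ∈ Subgroup.closure ({y, z ^ p ^ (n - 3)} : Set Ω) :=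
    Subgroup.subset_closure (by simp)
  -- `x` normalizes
  have hxN : x ∈ Subgroup.normalizer
      ((Subgroup.closure ({y, z ^ p ^ (n - 3)} : Set Ω) : Subgroup Ω) : Set Ω) := by
    apply mem_normalizer_closure_of_gens (k := p - 1)
    · rw [Nat.sub_add_cancel hp.one_le]; exact D.xp
    · rintro t (ht | ht)
      · rw [ht, D.rel1, mul_comm s, pow_mul]
        exact Subgroup.mul_mem _ hyD (Subgroup.pow_mem _ hcD _)
      · have ht' : t = z ^ p ^ (n - 3) := ht
        rw [ht', (DData.x_c D)]
        exact hcD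
  -- `D ≤ A`, abelian
  have hDA : Subgroup.closure ({y, z ^ p ^ (n - 3)} : Set Ω) ≤ Subgroup.closure ({y, z} : Set Ω) := by
    rw [Subgroup.closure_le]
    rintro g (hg | hg)
    · rw [hg]; exact Subgroup.subset_closure (by simp)
    · have hg' : g = z ^ p ^ (n - 3) := hg
      rw [hg']
      exact Subgroup.pow_mem _ (Subgroup.subset_closure (by simp)) _
  have hzN : z ∈ Subgroup.normalizer
      ((Subgroup.closure ({y, z ^ p ^ (n - 3)} : Set Ω) : Subgroup Ω) : Set Ω) := by
    apply Subgroup.centralizer_le_normalizer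
    rw [Subgroup.mem_centralizer_iff]
    intro h hh
    exact comm_of_mem_closure_pair D.yz h (hDA hh) z (Subgroup.subset_closure (by simp))
  have hN : Subgroup.closure ({x, y, z} : Set Ω) ≤ Subgroup.normalizer
      ((Subgroup.closure ({y, z ^ p ^ (n - 3)} : Set Ω) : Subgroup Ω) : Set Ω) := by
    rw [Subgroup.closure_le]
    rintro g (hg | hg | hg)
    · rw [hg]; exact hxN
    · rw [hg]; exact Subgroup.le_normalizer hyD
    · have hg' : g = z := hg
      rw [hg']; exact hzN
  have hxy : ⁅x, y⁆ ∈ Subgroup.closure ({y, z ^ p ^ (n - 3)} : Set Ω) := by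
    have e : ⁅x, y⁆ = x * (y * (x⁻¹ * y * x)⁻¹) * x⁻¹ := by
      rw [commutatorElement_def]; group
    rw [e]
    apply (Subgroup.mem_normalizer_iff.1 hxN _).1
    rw [D.rel1, mul_comm s, pow_mul]
    exact Subgroup.mul_mem _ hyD
      (Subgroup.inv_mem _ (Subgroup.mul_mem _ hyD (Subgroup.pow_mem _ hcD _)))
  have hxz : ⁅x, z⁆ ∈ Subgroup.closure ({y, z ^ p ^ (n - 3)} : Set Ω) := by
    have e : ⁅x, z⁆ = x * (z * (x⁻¹ * z * x)⁻¹) * x⁻¹ := by
      rw [commutatorElement_def]; group
    rw [e]
    apply (Subgroup.mem_normalizer_iff.1 hxN _).1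
    rw [D.rel2]
    have e2 : z * (y * z)⁻¹ = y⁻¹ := by group
    rw [e2]
    exact Subgroup.inv_mem _ hyD
  have hyz : ⁅y, z⁆ = 1 := commutatorElement_eq_one_iff_mul_comm.2 D.yz
  have hzy : ⁅z, y⁆ = 1 := commutatorElement_eq_one_iff_mul_comm.2 D.yz.symm
  rw [← D.gen]
  apply Cfsg.Agent.Lib.Helper15.commutator_closure_le
  · intro h hh m hm
    exact (Subgroup.mem_normalizer_iff.1 (hN hh) m).1 hm
  · rintro u (hu | hu | hu) v (hv | hv | hv)
    · rw [hu, hv, commutatorElement_self]; exact Subgroup.one_mem _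
    · rw [hu, hv]; exact hxy
    · have hv' : v = z := hv
      rw [hu, hv']; exact hxz
    · rw [hu, hv, ← commutatorElement_inv]; exact Subgroup.inv_mem _ hxy
    · rw [hu, hv, commutatorElement_self]; exact Subgroup.one_mem _
    · have hv' : v = z := hv
      rw [hu, hv', hyz]; exact Subgroup.one_mem _
    · have hu' : u = z := hu
      rw [hu', hv, ← commutatorElement_inv]; exact Subgroup.inv_mem _ hxz
    · have hu' : u = z := hu
      rw [hu', hv, hzy]; exact Subgroup.one_mem _
    · have hu' : u = z := hu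
      have hv' : v = z := hv
      rw [hu', hv', commutatorElement_self]; exact Subgroup.one_mem _

/-- `⟨y, c⟩` has exponent `p` -/
theorem DData.pow_eq_one_of_mem (D : DData S p n s x y z) :
    ∀ d ∈ Subgroup.closure ({y, z ^ p ^ (n - 3)} : Set Ω), d ^ p = 1 := by
  intro d hd
  have hcomm := comm_of_mem_closure_pair (DData.y_c D)
  induction hd using Subgroup.closure_induction with
  | mem t ht =>
    rcases ht with ht | ht
    · rw [ht]; exact D.yp
    · have ht' : t = z ^ p ^ (n - 3) := ht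
      rw [ht']; exact (DData.c_pow D)
  | one => exact one_pow _
  | mul a b ha hb iha ihb =>
    rw [(show Commute a b from hcomm a ha b hb).mul_pow, iha, ihb, one_mul]
  | inv a _ iha => rw [inv_pow, iha, inv_one]

theorem DData.comm_pow [Fact p.Prime] (D : DData S p n s x y z) :
    ∀ a ∈ S, ∀ b ∈ S, (a * b * a⁻¹ * b⁻¹) ^ p = 1 := by
  intro a ha b hb
  apply (DData.pow_eq_one_of_mem D)
  apply (DData.comm_le D)
  rw [← commutatorElement_def]
  exact Subgroup.commutator_mem_commutator ha hb

theorem DData.pabel [Fact p.Prime] (D : DData S p n s x y z) :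
    ∀ a ∈ S, ∀ b ∈ S, (a * b) ^ p = a ^ p * b ^ p := by
  have hp := (Fact.out : p.Prime)
  haveI := (DData.finite_S D)
  have hS : IsPGroup p S := IsPGroup.of_card D.card
  have hDS : Subgroup.closure ({y, z ^ p ^ (n - 3)} : Set Ω) ≤ S := by
    rw [Subgroup.closure_le]
    rintro g (hg | hg)
    · rw [hg]; exact D.hyS
    · have hg' : g = z ^ p ^ (n - 3) := hg
      rw [hg']; exact Subgroup.pow_mem _ D.hzS _
  haveI : Finite (Subgroup.closure ({y, z ^ p ^ (n - 3)} : Set Ω)) :=
    Finite.of_injective _ (Subgroup.inclusion_injective hDS)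
  haveI : Finite (Subgroup.zpowers y) :=
    Finite.of_injective _ (Subgroup.inclusion_injective (Subgroup.zpowers_le.2 D.hyS))
  haveI : Finite (Subgroup.zpowers (z ^ p ^ (n - 3))) :=
    Finite.of_injective _ (Subgroup.inclusion_injective
      (Subgroup.zpowers_le.2 (Subgroup.pow_mem _ D.hzS _)))
  have hexp : ∀ h ∈ commutator S, h ^ p = 1 := by
    intro h hh
    have h1 : (h : Ω) ∈ ⁅S, S⁆ := by
      rw [← Subgroup.map_subtype_commutator]
      exact ⟨h, hh, rfl⟩
    have h2 := (DData.pow_eq_one_of_mem D) _ ((DData.comm_le D) h1)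
    apply Subtype.ext
    rw [Subgroup.coe_pow, h2, Subgroup.coe_one]
  have hpc : Cfsg.powerClosure p 1 (commutator S) = ⊥ := by
    unfold Cfsg.powerClosure
    rw [Subgroup.closure_eq_bot_iff]
    rintro g ⟨h, hh, rfl⟩
    rw [pow_one]
    exact hexp h hh
  have hcard : Nat.card (commutator S) ≤ p ^ 2 := by
    have e : Nat.card (commutator S) = Nat.card ↥(⁅S, S⁆) := by
      rw [← Subgroup.map_subtype_commutator]
      exact (Subgroup.card_map_of_injective S.subtype_injective).symm
    rw [e]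
    refine (Subgroup.card_le_of_le (DData.comm_le D)).trans ?_
    refine (card_closure_pair_le (DData.y_c D)).trans ?_
    rw [pow_two]
    exact Nat.mul_le_mul (orderOf_le_of_pow_eq_one hp.pos D.yp)
      (orderOf_le_of_pow_eq_one hp.pos (DData.c_pow D))
  have hidx : (Cfsg.powerClosure p 1 (commutator S)).relIndex (commutator S) ≤ p ^ 2 := by
    rw [hpc, Subgroup.relIndex_bot_left]
    exact hcard
  intro a ha b hb
  have hmem := Cfsg.Agent.Lib.Helper68.R2.hp_mem_agemo hS D.hp5 hidx ⟨a, ha⟩ ⟨b, hb⟩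
  rw [hpc, Subgroup.mem_bot] at hmem
  have h2 : (b ^ p)⁻¹ * (a ^ p)⁻¹ * (a * b) ^ p = 1 := by
    have := congrArg Subtype.val hmem
    simpa using this
  calc (a * b) ^ p = a ^ p * b ^ p * ((b ^ p)⁻¹ * (a ^ p)⁻¹ * (a * b) ^ p) := by group
    _ = a ^ p * b ^ p := by rw [h2, mul_one]

theorem DData.pow_mem_zpowers [Fact p.Prime] (D : DData S p n s x y z) :
    ∀ a ∈ S, a ^ p ∈ Subgroup.zpowers (z ^ p) := by
  intro a ha
  rw [← D.gen] at ha
  induction ha using Subgroup.closure_induction with
  | mem t ht =>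
    rcases ht with ht | ht | ht
    · rw [ht, D.xp]; exact Subgroup.one_mem _
    · rw [ht, D.yp]; exact Subgroup.one_mem _
    · have ht' : t = z := ht
      rw [ht']; exact Subgroup.mem_zpowers _
  | one => rw [one_pow]; exact Subgroup.one_mem _
  | mul a b ha hb iha ihb =>
    rw [(DData.pabel D) a (D.gen ▸ ha) b (D.gen ▸ hb)]
    exact Subgroup.mul_mem _ iha ihb
  | inv a _ iha => rw [inv_pow]; exact Subgroup.inv_mem _ iha

end D

end Cfsg.Agent.Lib.Helper67
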