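import Mathlib
import Cfsg.Prelude.Def_GeometricClasses
import Cfsg.Agent.Lib.Helper19.OEvenType

/-!
# K-OPlus10-X8: an orthogonal sum of an odd number of isometric non-degenerate planes is of plus type
only if the planes are of plus type.

* odd characteristic: discriminants (`Helper19.OEvenType.isPlusTypeOn_top_iff_gram`);
* characteristic two: for two isometric orthogonal planes `N`, `N'` (isometry `ε`) the graph `{v + ε v}` is totally
  singular; pairing up all planes but `D i` gives a totally singular `X` of dimension `t - 1`; a totally singular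
  subspace of dimension `t` may be moved so as to contain `X`; an element of it outside `X` is `x + w` with `x ∈ X`
  and `w ∈ D i` singular, non-zero.
-/

set_option autoImplicit false
set_option linter.unusedSectionVars false
set_option linter.unusedVariables false
set_option linter.unusedSimpArgs false
set_option linter.style.haveILetI false

namespace Cfsg.Agent.Lib.Helper67.OPlus10

open Cfsg Cfsg.Geo Module QuadraticMap
open Cfsg.Agent.Lib.Helper50 Cfsg.Agent.Lib.Helper19.OEvenType

variable {F : Type*} [Field F] [Fintype F] {n : ℕ}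

section Basic

variable (Q : (Fin n → F) → F) (hQ : IsNondegenerateQuadraticForm Q)

omit [Fintype F] in
theorem Q_add (u v : Fin n → F) : Q (u + v) = Q u + Q v + polar Q u v := by
  unfold polar
  ring

omit [Fintype F] in
theorem polar_eq_zero_of_ts {U : Submodule F (Fin n → F)} (hU : ∀ u ∈ U, Q u = 0)
    {u y : Fin n → F} (hu : u ∈ U) (hy : y ∈ U) : polar Q u y = 0 := by
  unfold polar
  rw [hU _ (U.add_mem hu hy), hU _ hu, hU _ hy]
  ring

include hQ

omit [Fintype F] in
theorem Q_zero : Q 0 = 0 := by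
  have h := hQ.smul 0 0
  rw [zero_smul] at h
  simpa using h

omit [Fintype F] in
theorem polar_zero_right (u : Fin n → F) : polar Q u 0 = 0 := by
  have := hQ.polar_bilinear.smul_right 0 u 0
  simpa using this

omit [Fintype F] in
theorem polar_zero_left (u : Fin n → F) : polar Q 0 u = 0 := by
  have := hQ.polar_bilinear.smul_left 0 0 u
  simpa using this

omit [Fintype F] in
theorem polar_self_eq (v : Fin n → F) : polar Q v v = 2 * Q v := by
  have h := hQ.smul 2 v
  unfold polar
  rw [← two_smul F v, h]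
  ring

omit [Fintype F] in
theorem polar_sum_left {ι : Type*} (S : Finset ι) (x : ι → Fin n → F) (y : Fin n → F) :
    polar Q (∑ j ∈ S, x j) y = ∑ j ∈ S, polar Q (x j) y := by
  classical
  induction S using Finset.induction_on with
  | empty => simp [polar_zero_left Q hQ]
  | insert a S ha ih =>
    rw [Finset.sum_insert ha, Finset.sum_insert ha, hQ.polar_bilinear.add_left, ih]

omit [Fintype F] in
theorem polar_sum_right {ι : Type*} (S : Finset ι) (y : Fin n → F) (x : ι → Fin n → F) :
    polar Q y (∑ j ∈ S, x j) = ∑ j ∈ S, polar Q y (x j) := by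
  classical
  induction S using Finset.induction_on with
  | empty => simp [polar_zero_right Q hQ]
  | insert a S ha ih =>
    rw [Finset.sum_insert ha, Finset.sum_insert ha, hQ.polar_bilinear.add_right, ih]

omit [Fintype F] in
theorem Q_sum_of_orth {ι : Type*} (S : Finset ι) (x : ι → Fin n → F)
    (h : ∀ j ∈ S, ∀ j' ∈ S, j ≠ j' → polar Q (x j) (x j') = 0) :
    Q (∑ j ∈ S, x j) = ∑ j ∈ S, Q (x j) := by
  classical
  induction S using Finset.induction_on with
  | empty => simp [Q_zero Q hQ]
  | insert a S ha ih =>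
    have h1 : Q (∑ j ∈ S, x j) = ∑ j ∈ S, Q (x j) := by
      apply ih
      intro j hj j' hj' hne
      exact h j (Finset.mem_insert_of_mem hj) j' (Finset.mem_insert_of_mem hj') hne
    have h2 : ∑ j ∈ S, polar Q (x a) (x j) = 0 := by
      apply Finset.sum_eq_zero
      intro j hj
      exact h a (Finset.mem_insert_self a S) j (Finset.mem_insert_of_mem hj)
        (by rintro rfl; exact ha hj)
    rw [Finset.sum_insert ha, Finset.sum_insert ha, Q_add Q, polar_sum_right Q hQ, h1, h2, add_zero]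

/-- the linear functional `y ↦ polar Q x y` -/
def polarFun (x : Fin n → F) : (Fin n → F) →ₗ[F] F where
  toFun y := polar Q x y
  map_add' := hQ.polar_bilinear.add_right x
  map_smul' c y := by
    rw [hQ.polar_bilinear.smul_right]
    rfl

omit [Fintype F] in
theorem polarFun_apply (x y : Fin n → F) : polarFun Q hQ x y = polar Q x y := rfl

omit [Fintype F] in
theorem finrank_ker_polarFun (x : Fin n → F) :
    n ≤ finrank F (LinearMap.ker (polarFun Q hQ x)) + 1 := by
  have h := LinearMap.finrank_range_add_finrank_ker (polarFun Q hQ x)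
  rw [Module.finrank_fin_fun] at h
  have h1 : finrank F (LinearMap.range (polarFun Q hQ x)) ≤ 1 := by
    have := Submodule.finrank_le (LinearMap.range (polarFun Q hQ x))
    rwa [Module.finrank_self] at this
  omega

omit [Fintype F] in
/-- moving a totally singular subspace so as to contain a given singular vector -/
theorem ts_step (U₀ : Submodule F (Fin n → F)) (hU₀ : ∀ u ∈ U₀, Q u = 0) (x : Fin n → F)
    (hx : Q x = 0) (hxU : x ∉ U₀) :
    ∃ U₁ : Submodule F (Fin n → F), (∀ u ∈ U₁, Q u = 0) ∧ finrank F U₀ ≤ finrank F U₁ ∧ x ∈ U₁ ∧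
      ∀ y ∈ U₀, polar Q x y = 0 → y ∈ U₁ := by
  have hKmem : ∀ y, y ∈ LinearMap.ker (polarFun Q hQ x) ↔ polar Q x y = 0 := fun y =>
    LinearMap.mem_ker
  refine ⟨(U₀ ⊓ LinearMap.ker (polarFun Q hQ x)) ⊔ Submodule.span F {x}, ?_, ?_, ?_, ?_⟩
  · intro u hu
    obtain ⟨y, hy, z, hz, rfl⟩ := Submodule.mem_sup.1 hu
    obtain ⟨c, rfl⟩ := Submodule.mem_span_singleton.1 hz
    have hy0 : Q y = 0 := hU₀ y hy.1
    have hxy : polar Q x y = 0 := (hKmem y).1 hy.2
    rw [Q_add Q, hy0, hQ.smul, hx, hQ.polar_bilinear.smul_right, polar_comm Q y x, hxy]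
    ring
  · have h1 := Submodule.finrank_sup_add_finrank_inf_eq U₀ (LinearMap.ker (polarFun Q hQ x))
    have h2 := finrank_ker_polarFun Q hQ x
    have h3 : finrank F ↥(U₀ ⊔ LinearMap.ker (polarFun Q hQ x)) ≤ n := by
      have := Submodule.finrank_le (U₀ ⊔ LinearMap.ker (polarFun Q hQ x))
      rwa [Module.finrank_fin_fun] at this
    have h4 := Submodule.finrank_sup_add_finrank_inf_eq
      (U₀ ⊓ LinearMap.ker (polarFun Q hQ x)) (Submodule.span F {x})
    have hx0 : x ≠ 0 := by
      rintro rfl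
      exact hxU U₀.zero_mem
    have h5 : finrank F ↥(Submodule.span F {x}) = 1 := finrank_span_singleton hx0
    have h6 : (U₀ ⊓ LinearMap.ker (polarFun Q hQ x)) ⊓ Submodule.span F {x} = ⊥ := by
      rw [eq_bot_iff]
      rintro z ⟨hzA, hzL⟩
      obtain ⟨c, rfl⟩ := Submodule.mem_span_singleton.1 hzL
      by_cases hc : c = 0
      · rw [hc, zero_smul]
        exact Submodule.zero_mem _
      · exfalso
        apply hxU
        have := U₀.smul_mem c⁻¹ hzA.1
        rwa [smul_smul, inv_mul_cancel₀ hc, one_smul] at this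
    rw [h6, finrank_bot] at h4
    omega
  · exact Submodule.mem_sup_right (Submodule.mem_span_singleton_self x)
  · intro y hy hxy
    exact Submodule.mem_sup_left ⟨hy, (hKmem y).2 hxy⟩

omit [Fintype F] in
/-- a totally singular subspace can be moved, without lowering its dimension, so as to contain a given totally
singular subspace -/
theorem exists_ts_extension (X : Submodule F (Fin n → F)) (hX : ∀ x ∈ X, Q x = 0) :
    ∀ (k : ℕ) (U₀ : Submodule F (Fin n → F)), (∀ u ∈ U₀, Q u = 0) →
      finrank F X - finrank F ↥(U₀ ⊓ X) = k →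
      ∃ U : Submodule F (Fin n → F), (∀ u ∈ U, Q u = 0) ∧ finrank F U₀ ≤ finrank F U ∧ X ≤ U := by
  intro k
  induction k using Nat.strong_induction_on with
  | _ k ih =>
    intro U₀ hU₀ hk
    by_cases hXU : X ≤ U₀
    · exact ⟨U₀, hU₀, le_rfl, hXU⟩
    · obtain ⟨x, hxX, hxU⟩ := SetLike.not_le_iff_exists.1 hXU
      obtain ⟨U₁, hU₁, hfr, hxU₁, hsub⟩ := ts_step Q hQ U₀ hU₀ x (hX x hxX) hxU
      have hlt : U₀ ⊓ X < U₁ ⊓ X := by
        refine lt_of_le_of_ne ?_ ?_
        · rintro y ⟨hyU, hyX⟩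
          exact ⟨hsub y hyU (polar_eq_zero_of_ts Q hX hxX hyX), hyX⟩
        · intro heq
          have : x ∈ U₀ ⊓ X := by
            rw [heq]
            exact ⟨hxU₁, hxX⟩
          exact hxU this.1
      have hlt' := Submodule.finrank_lt_finrank_of_lt hlt
      have hle : finrank F ↥(U₁ ⊓ X) ≤ finrank F X := Submodule.finrank_mono inf_le_right
      obtain ⟨U, hU, hfr', hXU'⟩ :=
        ih (finrank F X - finrank F ↥(U₁ ⊓ X)) (by omega) U₁ hU₁ rfl
      exact ⟨U, hU, hfr.trans hfr', hXU'⟩

omit [Fintype F] in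
/-- a plane with a non-zero singular vector is of plus type -/
theorem plus_of_singular (W : Submodule F (Fin n → F)) (hW : finrank F W = 2) (w : Fin n → F)
    (hwW : w ∈ W) (hw0 : w ≠ 0) (hQw : Q w = 0) : IsPlusTypeOn Q W := by
  refine ⟨Submodule.span F {w}, ?_, ?_, ?_⟩
  · rw [Submodule.span_le]
    intro z hz
    rw [Set.mem_singleton_iff.1 hz]
    exact hwW
  · intro z hz
    obtain ⟨c, rfl⟩ := Submodule.mem_span_singleton.1 hz
    rw [hQ.smul, hQw, mul_zero]
  · rw [finrank_span_singleton hw0, hW]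

end Basic

omit [Fintype F] in
theorem two_mul_card {t : ℕ} (D : Fin t → Submodule F (Fin n → F)) (hD : IsMDecomposition 2 D) :
    n = 2 * t := by
  have hint := DirectSum.isInternal_submodule_of_iSupIndep_of_iSup_eq_top hD.indep hD.iSup_eq_top
  have h1 := (LinearEquiv.ofBijective (DirectSum.coeLinearMap D) hint).finrank_eq
  rw [Module.finrank_directSum] at h1
  have h3 : ∑ i : Fin t, finrank F (D i) = t * 2 := by
    rw [Finset.sum_congr rfl (fun i _ => hD.finrank_eq i)]
    simp
  rw [h3, Module.finrank_fin_fun] at h1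
  omega


/-! ### Odd characteristic: discriminants -/

omit [Fintype F] in
/-- an adapted basis, built from a given basis of one member -/
theorem exists_basis_gram_pow' (Q : (Fin n → F) → F) {t k : ℕ} (D : Fin t → Submodule F (Fin n → F))
    (hD : IsOrthogonalMDecomposition Q k D) (i₀ : Fin t) (b₀ : Basis (Fin k) F (D i₀)) :
    ∃ b : Basis (Fin k × Fin t) F (Fin n → F),
      (Matrix.of fun i j => polar Q (b i) (b j)).det =
        (Matrix.of fun a c => polar Q ((b₀ a : D i₀) : Fin n → F)
          ((b₀ c : D i₀) : Fin n → F)).det ^ t := by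
  classical
  have hdec := hD.decomp.decomp
  have hint : DirectSum.IsInternal D :=
    DirectSum.isInternal_submodule_of_iSupIndep_of_iSup_eq_top hdec.indep hdec.iSup_eq_top
  choose e he using fun i => hD.isometric i₀ i
  let v : ∀ i : Fin t, Basis (Fin k) F (D i) := fun i => b₀.map (e i)
  let B : Basis (Σ _ : Fin t, Fin k) F (Fin n → F) := hint.collectedBasis v
  let eq : (Σ _ : Fin t, Fin k) ≃ Fin k × Fin t :=
    (Equiv.sigmaEquivProd (Fin t) (Fin k)).trans (Equiv.prodComm _ _)
  let b : Basis (Fin k × Fin t) F (Fin n → F) := B.reindex eq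
  have hb : ∀ (a : Fin k) (i : Fin t), b (a, i) = ((e i (b₀ a) : D i) : Fin n → F) := by
    intro a i
    show (B.reindex eq) (a, i) = _
    rw [Basis.reindex_apply]
    show B ⟨i, a⟩ = _
    rw [show B = hint.collectedBasis v from rfl, DirectSum.IsInternal.collectedBasis_coe]
    simp [v]
  let G₀ : Matrix (Fin k) (Fin k) F :=
    Matrix.of fun a c => polar Q ((b₀ a : D i₀) : Fin n → F) ((b₀ c : D i₀) : Fin n → F)
  refine ⟨b, ?_⟩
  have hG : (Matrix.of fun i j => polar Q (b i) (b j)) =
      Matrix.blockDiagonal (fun _ : Fin t => G₀) := by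
    ext ⟨a, i⟩ ⟨c, j⟩
    rw [Matrix.of_apply, hb, hb, Matrix.blockDiagonal_apply]
    by_cases hij : i = j
    · subst hij
      rw [if_pos rfl, polar_isometry_sub Q (e i) (he i)]
      rfl
    · rw [if_neg hij]
      exact hD.decomp.orthogonal i j hij _ (e i (b₀ a)).2 _ (e j (b₀ c)).2
  rw [hG, Matrix.det_blockDiagonal, Finset.prod_const, Finset.card_univ, Fintype.card_fin]

omit [Fintype F] in
/-- a plane whose discriminant is minus a square contains a non-zero singular vector -/
theorem exists_singular_of_isSquare (h2 : (2 : F) ≠ 0) (Q : (Fin n → F) → F)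
    (hQ : IsNondegenerateQuadraticForm Q) (W : Submodule F (Fin n → F)) (b₀ : Basis (Fin 2) F W)
    (hsq : IsSquare (-(Matrix.of fun a c => polar Q ((b₀ a : W) : Fin n → F)
      ((b₀ c : W) : Fin n → F)).det)) :
    ∃ w ∈ W, w ≠ 0 ∧ Q w = 0 := by
  have hdet : (Matrix.of fun a c => polar Q ((b₀ a : W) : Fin n → F) ((b₀ c : W) : Fin n → F)).det =
      (2 * Q (b₀ 0 : W)) * (2 * Q (b₀ 1 : W)) -
        polar Q ((b₀ 0 : W) : Fin n → F) (b₀ 1 : W) * polar Q ((b₀ 0 : W) : Fin n → F) (b₀ 1 : W) := by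
    rw [Matrix.det_fin_two]
    simp only [Matrix.of_apply]
    rw [polar_self_eq Q hQ, polar_self_eq Q hQ,
      polar_comm Q ((b₀ 1 : W) : Fin n → F) ((b₀ 0 : W) : Fin n → F)]
  obtain ⟨r, hr⟩ := hsq
  rw [hdet] at hr
  have hv₀0 : ((b₀ 0 : W) : Fin n → F) ≠ 0 := fun h => b₀.ne_zero 0 (Subtype.ext h)
  by_cases ha : Q ((b₀ 0 : W) : Fin n → F) = 0
  · exact ⟨_, (b₀ 0).2, hv₀0, ha⟩
  · have h2a : 2 * Q ((b₀ 0 : W) : Fin n → F) ≠ 0 := mul_ne_zero h2 ha
    refine ⟨((-(polar Q ((b₀ 0 : W) : Fin n → F) (b₀ 1 : W)) + r) / (2 * Q ((b₀ 0 : W) : Fin n → F))) •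
        ((b₀ 0 : W) : Fin n → F) + ((b₀ 1 : W) : Fin n → F),
      W.add_mem (W.smul_mem _ (b₀ 0).2) (b₀ 1).2, ?_, ?_⟩
    · intro h0
      have h1 : ((-(polar Q ((b₀ 0 : W) : Fin n → F) (b₀ 1 : W)) + r) /
          (2 * Q ((b₀ 0 : W) : Fin n → F))) • b₀ 0 + b₀ 1 = 0 := Subtype.ext (by simpa using h0)
      have h3 := congrArg (fun z => b₀.repr z 1) h1
      simp at h3
    · rw [Q_add Q, hQ.smul, hQ.polar_bilinear.smul_left]
      field_simp
      linear_combination (-1) * hr

/-- the planes are of plus type: odd characteristic -/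
theorem plus_of_odd_char (h2 : (2 : F) ≠ 0) (Q : (Fin n → F) → F)
    (hQ : IsNondegenerateQuadraticForm Q) {t : ℕ} (ht : Odd t) (D : Fin t → Submodule F (Fin n → F))
    (hD : IsOrthogonalMDecomposition Q 2 D) (hplus : IsPlusTypeOn Q ⊤) (i : Fin t) :
    IsPlusTypeOn Q (D i) := by
  have hdec := hD.decomp.decomp
  have hn : n = 2 * t := two_mul_card D hdec
  obtain ⟨b₀⟩ : Nonempty (Basis (Fin 2) F (D i)) :=
    ⟨Module.finBasisOfFinrankEq F (D i) (hdec.finrank_eq i)⟩
  obtain ⟨b, hb⟩ := exists_basis_gram_pow' Q D hD i b₀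
  have h1 := (isPlusTypeOn_top_iff_gram Q hQ h2 hn b).1 hplus
  rw [hb, ht.neg_one_pow] at h1
  have hsq : IsSquare (-(Matrix.of fun a c => polar Q ((b₀ a : D i) : Fin n → F)
      ((b₀ c : D i) : Fin n → F)).det) := by
    generalize (Matrix.of fun a c => polar Q ((b₀ a : D i) : Fin n → F)
      ((b₀ c : D i) : Fin n → F)).det = d at h1 ⊢
    by_cases hd0 : d = 0
    · rw [hd0, neg_zero]
      exact ⟨0, by ring⟩
    · obtain ⟨s, hs⟩ := ht
      have h3 : IsSquare (d ^ t) ↔ IsSquare d := by
        rw [hs, pow_succ, pow_mul']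
        exact isSquare_sq_mul_iff (pow_ne_zero s hd0)
      rw [h3] at h1
      by_cases hm : IsSquare (-1 : F)
      · have := (h1.2 hm).mul hm
        rwa [mul_neg_one] at this
      · have hdns : ¬ IsSquare d := fun h => hm (h1.1 h)
        have := (isSquare_mul_nonsquare_iff hd0 hm).2 hdns
        rwa [mul_neg_one] at this
  obtain ⟨w, hwD, hw0, hQw⟩ := exists_singular_of_isSquare h2 Q hQ (D i) b₀ hsq
  exact plus_of_singular Q hQ (D i) (hdec.finrank_eq i) w hwD hw0 hQw


/-! ### Characteristic two: pairing up the planes -/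

/-- the planes are of plus type: characteristic two -/
theorem plus_of_char_two (h2 : (2 : F) = 0) (Q : (Fin n → F) → F)
    (hQ : IsNondegenerateQuadraticForm Q) {t : ℕ} (ht : Odd t) (D : Fin t → Submodule F (Fin n → F))
    (hD : IsOrthogonalMDecomposition Q 2 D) (hplus : IsPlusTypeOn Q ⊤) (i : Fin t) :
    IsPlusTypeOn Q (D i) := by
  classical
  obtain ⟨s, hs⟩ := ht
  have hdec := hD.decomp.decomp
  have horth := hD.decomp.orthogonal
  have hnd := hD.decomp.nondegenerate
  have hn : n = 2 * t := two_mul_card D hdec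
  have hneg : ∀ z : Fin n → F, -z = z := by
    intro z
    have : z + z = 0 := by rw [← two_smul F z, h2, zero_smul]
    exact neg_eq_of_add_eq_zero_left this
  -- the index set
  have hcard : Fintype.card ((Fin s × Fin 2) ⊕ Unit) = Fintype.card (Fin t) := by
    simp only [Fintype.card_sum, Fintype.card_prod, Fintype.card_fin, Fintype.card_unit]
    omega
  obtain ⟨φ, hφi⟩ : ∃ φ : (Fin s × Fin 2) ⊕ Unit ≃ Fin t, φ (Sum.inr ()) = i :=
    ⟨(Fintype.equivOfCardEq hcard).trans
      (Equiv.swap (Fintype.equivOfCardEq hcard (Sum.inr ())) i), by simp⟩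
  obtain ⟨a, ha⟩ : ∃ a : Fin s → Fin t, ∀ j, a j = φ (Sum.inl (j, 0)) := ⟨_, fun _ => rfl⟩
  obtain ⟨b, hb⟩ : ∃ b : Fin s → Fin t, ∀ j, b j = φ (Sum.inl (j, 1)) := ⟨_, fun _ => rfl⟩
  have hab : ∀ j, a j ≠ b j := by
    intro j h
    rw [ha, hb] at h
    have h' := φ.injective h
    simp at h'
  have hai : ∀ j, a j ≠ i := by
    intro j h
    rw [ha, ← hφi] at h
    have h' := φ.injective h
    simp at h'
  have hbi : ∀ j, b j ≠ i := by
    intro j h
    rw [hb, ← hφi] at h
    have h' := φ.injective h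
    simp at h'
  have hne : ∀ j j', j ≠ j' → a j ≠ a j' ∧ a j ≠ b j' ∧ b j ≠ a j' ∧ b j ≠ b j' := by
    intro j j' hjj'
    refine ⟨?_, ?_, ?_, ?_⟩
    · intro h
      simp only [ha, hb] at h
      have h' := φ.injective h
      exact hjj' (by simpa using h')
    · intro h
      simp only [ha, hb] at h
      have h' := φ.injective h
      exact hjj' (by simpa using h')
    · intro h
      simp only [ha, hb] at h
      have h' := φ.injective h
      exact hjj' (by simpa using h')
    · intro h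
      simp only [ha, hb] at h
      have h' := φ.injective h
      exact hjj' (by simpa using h')
  -- the isometries
  choose ε hε using fun j => hD.isometric (a j) (b j)
  have P1 : ∀ j (v : D (a j)), Q ((v : Fin n → F) + (ε j v : Fin n → F)) = 0 := by
    intro j v
    rw [Q_add Q, hε j v, horth (a j) (b j) (hab j) _ v.2 _ (ε j v).2, add_zero, ← two_mul, h2,
      zero_mul]
  have P2 : ∀ j j', j ≠ j' → ∀ (v : D (a j)) (v' : D (a j')),
      polar Q ((v : Fin n → F) + (ε j v : Fin n → F))
        ((v' : Fin n → F) + (ε j' v' : Fin n → F)) = 0 := by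
    intro j j' hjj' v v'
    obtain ⟨h1, h2', h3, h4⟩ := hne j j' hjj'
    rw [hQ.polar_bilinear.add_left, hQ.polar_bilinear.add_right, hQ.polar_bilinear.add_right,
      horth _ _ h1 _ v.2 _ v'.2, horth _ _ h2' _ v.2 _ (ε j' v').2,
      horth _ _ h3 _ (ε j v).2 _ v'.2, horth _ _ h4 _ (ε j v).2 _ (ε j' v').2]
    simp
  have P3 : ∀ j (v : D (a j)), ∀ w ∈ D i,
      polar Q ((v : Fin n → F) + (ε j v : Fin n → F)) w = 0 := by
    intro j v w hw
    rw [hQ.polar_bilinear.add_left, horth _ _ (hai j) _ v.2 _ hw,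
      horth _ _ (hbi j) _ (ε j v).2 _ hw, add_zero]
  -- the totally singular subspace `X`
  obtain ⟨Ψ, hΨ⟩ : ∃ Ψ : (∀ j : Fin s, D (a j)) →ₗ[F] (Fin n → F),
      ∀ v, Ψ v = ∑ j, ((v j : Fin n → F) + (ε j (v j) : Fin n → F)) := by
    refine ⟨∑ j, ((D (a j)).subtype + (D (b j)).subtype ∘ₗ (ε j).toLinearMap) ∘ₗ
      LinearMap.proj j, ?_⟩
    intro v
    simp [LinearMap.sum_apply]
  have hXts : ∀ x ∈ LinearMap.range Ψ, Q x = 0 := by
    rintro _ ⟨v, rfl⟩
    rw [hΨ, Q_sum_of_orth Q hQ]
    · apply Finset.sum_eq_zero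
      intro j _
      exact P1 j (v j)
    · intro j _ j' _ hjj'
      exact P2 j j' hjj' (v j) (v j')
  have hXi : ∀ x ∈ LinearMap.range Ψ, ∀ w ∈ D i, polar Q x w = 0 := by
    rintro _ ⟨v, rfl⟩ w hw
    rw [hΨ, polar_sum_left Q hQ]
    apply Finset.sum_eq_zero
    intro j _
    exact P3 j (v j) w hw
  have hXfr : finrank F (LinearMap.range Ψ) ≤ 2 * s := by
    have h1 := LinearMap.finrank_range_le Ψ
    rw [Module.finrank_pi_fintype] at h1
    have h3 : ∑ j : Fin s, finrank F (D (a j)) = 2 * s := by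
      rw [Finset.sum_congr rfl (fun j _ => hdec.finrank_eq (a j))]
      simp [mul_comm]
    omega
  have hpair_mem : ∀ j (v : D (a j)),
      (v : Fin n → F) + (ε j v : Fin n → F) ∈ LinearMap.range Ψ := by
    intro j v
    refine ⟨Pi.single j v, ?_⟩
    rw [hΨ, Finset.sum_eq_single j]
    · rw [Pi.single_eq_same]
    · intro j' _ hj'
      rw [Pi.single_eq_of_ne hj']
      simp
    · intro h
      exact absurd (Finset.mem_univ j) h
  -- a totally singular subspace of dimension `t` containing `X`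
  obtain ⟨U₀, -, hU₀ts, hU₀fr⟩ := hplus
  have hU₀fr' : finrank F U₀ = t := by
    rw [finrank_top, Module.finrank_fin_fun] at hU₀fr
    omega
  obtain ⟨U, hUts, hUfr, hXU⟩ :=
    exists_ts_extension Q hQ (LinearMap.range Ψ) hXts _ U₀ hU₀ts rfl
  have hnotle : ¬ U ≤ LinearMap.range Ψ := by
    intro h
    have := Submodule.finrank_mono h
    omega
  obtain ⟨u, huU, huX⟩ := SetLike.not_le_iff_exists.1 hnotle
  -- the components of `u`
  have hu_top : u ∈ iSup D := by
    rw [hdec.iSup_eq_top]
    exact Submodule.mem_top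
  obtain ⟨f, hf, hsum⟩ := (Submodule.mem_iSup_iff_exists_finsupp D u).mp hu_top
  have hsum' : ∑ k, (f k : Fin n → F) = u := by
    rw [← hsum, Finsupp.sum_fintype]
    intro k
    rfl
  have hkey : ∀ j, f (b j) = ((ε j ⟨f (a j), hf (a j)⟩ : D (b j)) : Fin n → F) := by
    intro j
    obtain ⟨w, hw⟩ : ∃ w : D (a j), w = (ε j).symm ⟨f (b j), hf (b j)⟩ := ⟨_, rfl⟩
    have hεw : ((ε j w : D (b j)) : Fin n → F) = f (b j) := by
      rw [hw, LinearEquiv.apply_symm_apply]
    have hall : ∀ v : D (a j), polar Q (f (a j) + (w : Fin n → F)) (v : Fin n → F) = 0 := by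
      intro v
      have h0 : polar Q u ((v : Fin n → F) + (ε j v : Fin n → F)) = 0 :=
        polar_eq_zero_of_ts Q hUts huU (hXU (hpair_mem j v))
      have hcollapse : ∑ k, polar Q (f k) ((v : Fin n → F) + (ε j v : Fin n → F)) =
          polar Q (f (a j)) ((v : Fin n → F) + (ε j v : Fin n → F)) +
            polar Q (f (b j)) ((v : Fin n → F) + (ε j v : Fin n → F)) := by
        apply Finset.sum_eq_add (a j) (b j) (hab j)
        · intro k _ hk
          rw [hQ.polar_bilinear.add_right, horth k (a j) hk.1 _ (hf k) _ v.2,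
            horth k (b j) hk.2 _ (hf k) _ (ε j v).2, add_zero]
        · intro h
          exact absurd (Finset.mem_univ _) h
        · intro h
          exact absurd (Finset.mem_univ _) h
      rw [← hsum', polar_sum_left Q hQ, hcollapse, hQ.polar_bilinear.add_right,
        hQ.polar_bilinear.add_right, horth (a j) (b j) (hab j) _ (hf (a j)) _ (ε j v).2,
        horth (b j) (a j) (hab j).symm _ (hf (b j)) _ v.2, add_zero, zero_add, ← hεw,
        polar_isometry_sub Q (ε j) (hε j) w v] at h0
      rw [hQ.polar_bilinear.add_left]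
      exact h0
    have hz : f (a j) + (w : Fin n → F) = 0 := by
      by_contra hz0
      obtain ⟨-, ⟨x, hx, hx0⟩⟩ := hnd (a j) _ ((D (a j)).add_mem (hf (a j)) w.2) hz0
      exact hx0 (hall ⟨x, hx⟩)
    have hw_eq : w = ⟨f (a j), hf (a j)⟩ := by
      apply Subtype.ext
      have h1 := eq_neg_of_add_eq_zero_right hz
      rw [hneg] at h1
      exact h1
    rw [← hw_eq, hεw]
  have hsplit : ∑ k, (f k : Fin n → F) = ∑ j, (f (a j) + f (b j)) + f i := by
    have h1 := Equiv.sum_comp φ (fun k => (f k : Fin n → F))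
    rw [← h1, Fintype.sum_sum_type, Fintype.sum_prod_type]
    congr 1
    · apply Finset.sum_congr rfl
      intro j _
      rw [Fin.sum_univ_two, ha, hb]
    · simp [hφi]
  have hx : Ψ (fun j => ⟨f (a j), hf (a j)⟩) = ∑ j, (f (a j) + f (b j)) := by
    rw [hΨ]
    apply Finset.sum_congr rfl
    intro j _
    rw [← hkey j]
  have hu_eq : u = Ψ (fun j => ⟨f (a j), hf (a j)⟩) + f i := by
    rw [← hsum', hsplit, hx]
  have hfi0 : f i ≠ 0 := by
    intro h0
    apply huX
    rw [hu_eq, h0, add_zero]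
    exact ⟨_, rfl⟩
  have hQfi : Q (f i) = 0 := by
    have hQu := hUts u huU
    rw [hu_eq, Q_add Q, hXts _ ⟨_, rfl⟩, hXi _ ⟨_, rfl⟩ _ (hf i), zero_add, add_zero] at hQu
    exact hQu
  exact plus_of_singular Q hQ (D i) (hdec.finrank_eq i) (f i) (hf i) hfi0 hQfi

/-- **K-OPlus10-X8** -/
theorem planes_plus_of_odd_decomposition (Q : (Fin n → F) → F) (hQ : IsNondegenerateQuadraticForm Q)
    {t : ℕ} (ht : Odd t) (D : Fin t → Submodule F (Fin n → F))
    (hD : IsOrthogonalMDecomposition Q 2 D) (hplus : IsPlusTypeOn Q ⊤) :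
    ∀ i, IsPlusTypeOn Q (D i) := by
  intro i
  by_cases h2 : (2 : F) = 0
  · exact plus_of_char_two h2 Q hQ ht D hD hplus i
  · exact plus_of_odd_char h2 Q hQ ht D hD hplus i

end Cfsg.Agent.Lib.Helper67.OPlus10
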