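import Cfsg.Agent.Lib.Helper43.UFBasic

set_option autoImplicit false
set_option linter.unusedSimpArgs false
set_option linter.unusedVariables false
set_option linter.unusedSectionVars false

/-! S5700 pack, keystone K-UF-T1b (570010): one transvection step. -/

namespace Cfsg.Agent.Lib.Helper67.UF

open Module Matrix Cfsg.Agent.Lib.Helper19 Cfsg.Agent.Lib.Helper43 Cfsg.Agent.Lib.Helper43.UF

variable {F : Type*} [Field F] [Fintype F] {ι : Type} [Fintype ι] [DecidableEq ι]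
variable {Q : QuadraticForm F (ι → F)}
variable (hQ : (QuadraticMap.polarBilin Q).Nondegenerate) (hn : 7 ≤ Fintype.card ι)

local notation "ℬ" => QuadraticMap.polarBilin Q

/-- K-UF-T1b (570010). -/
theorem tv_step (U : UData Q) (M : Subgroup ↥(Cfsg.Omega F ⇑Q))
    (hH : ∀ k : ↥(Cfsg.Omega F ⇑Q), (∀ x, lo Q k (U.J x) = U.J (lo Q k x)) → k ∈ M)
    (b : ι → F) (hb : Q b = 0) (y : ι → F) (hy1 : y ∈ RS Q hQ hn M b)
    (hy2 : U.J y ∈ RS Q hQ hn M b) (u : ι → F) (hu : Q u = 0) (hbu : U.HOrth b u)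
    (hyu : ¬ U.HOrth y u) : u ∈ RS Q hQ hn M b ∧ U.J u ∈ RS Q hQ hn M b := by
  have hkM : tv U hQ hn u 1 ∈ M := hH _ (fun x => tv_comm hQ hn U u hu 1 x)
  have hkb : lo Q (tv U hQ hn u 1) b = b := by
    rw [lo_tv hQ hn U u hu 1 b, hbu.B_right_J, hbu.1]; simp
  have hstep : ∀ w, w ∈ RS Q hQ hn M b →
      (ℬ w (U.J u)) • u - (ℬ w u) • U.J u ∈ RS Q hQ hn M b := by
    intro w hw
    have h1 := RS_fix hQ hn M (tv U hQ hn u 1) hkM b hb hkb hw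
    have h2 := RS_sub hQ hn M b hb h1 hw
    have e : lo Q (tv U hQ hn u 1) w - w = (ℬ w (U.J u)) • u - (ℬ w u) • U.J u := by
      rw [lo_tv hQ hn U u hu 1 w, one_mul, one_mul]; abel
    rwa [e] at h2
  have hv1 : (ℬ y (U.J u)) • u - (ℬ y u) • U.J u ∈ RS Q hQ hn M b := hstep y hy1
  have hv2 : (U.nm * ℬ y u) • u - (U.tr * ℬ y u - ℬ y (U.J u)) • U.J u ∈ RS Q hQ hn M b := by
    have := hstep (U.J y) hy2
    rwa [U.B_JJ, U.B_J_left] at this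
  have hD : (ℬ y (U.J u)) ^ 2 - U.tr * ℬ y (U.J u) * ℬ y u + U.nm * (ℬ y u) ^ 2 ≠ 0 := by
    apply U.normForm_ne_zero
    rintro ⟨h1, h2⟩
    apply hyu
    refine ⟨h2, ?_⟩
    rw [U.B_J_left, h1, h2]; simp
  constructor
  · have h3 := RS_smul hQ hn M b
      (RS_add hQ hn M b hb (RS_smul hQ hn M b hv1 (-(U.tr * ℬ y u - ℬ y (U.J u))))
        (RS_smul hQ hn M b hv2 (ℬ y u)))
      ((ℬ y (U.J u)) ^ 2 - U.tr * ℬ y (U.J u) * ℬ y u + U.nm * (ℬ y u) ^ 2)⁻¹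
    have e1 : (-(U.tr * ℬ y u - ℬ y (U.J u))) • ((ℬ y (U.J u)) • u - (ℬ y u) • U.J u) +
        (ℬ y u) • ((U.nm * ℬ y u) • u - (U.tr * ℬ y u - ℬ y (U.J u)) • U.J u) =
        ((ℬ y (U.J u)) ^ 2 - U.tr * ℬ y (U.J u) * ℬ y u + U.nm * (ℬ y u) ^ 2) • u := by
      module
    rwa [e1, smul_smul, inv_mul_cancel₀ hD, one_smul] at h3
  · have h3 := RS_smul hQ hn M b
      (RS_add hQ hn M b hb (RS_smul hQ hn M b hv1 (-(U.nm * ℬ y u)))
        (RS_smul hQ hn M b hv2 (ℬ y (U.J u))))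
      ((ℬ y (U.J u)) ^ 2 - U.tr * ℬ y (U.J u) * ℬ y u + U.nm * (ℬ y u) ^ 2)⁻¹
    have e1 : (-(U.nm * ℬ y u)) • ((ℬ y (U.J u)) • u - (ℬ y u) • U.J u) +
        (ℬ y (U.J u)) • ((U.nm * ℬ y u) • u - (U.tr * ℬ y u - ℬ y (U.J u)) • U.J u) =
        ((ℬ y (U.J u)) ^ 2 - U.tr * ℬ y (U.J u) * ℬ y u + U.nm * (ℬ y u) ^ 2) • U.J u := by
      module
    rwa [e1, smul_smul, inv_mul_cancel₀ hD, one_smul] at h3

end Cfsg.Agent.Lib.Helper67.UF
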