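import Mathlib
import Cfsg.Prelude.Def_GeometricClasses
import Cfsg.Agent.Lib.Helper61.AschDefs
import Cfsg.Agent.Lib.Helper61.AschUDefs
import Cfsg.Agent.Lib.Helper19.Unitary

/-!
# K-S5663-A2b: the geometry of a decomposition with a duality (unitary case)
-/

set_option autoImplicit false
set_option linter.style.haveILetI false
set_option linter.unusedSectionVars false
set_option linter.unusedVariables false

namespace Cfsg.Agent.Lib.Helper67.AschU

open Cfsg Cfsg.Geo Cfsg.Agent.Lib.Helper61.Asch Cfsg.Agent.Lib.Helper61.AschU Cfsg.Agent.Lib.Helper19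
open scoped Matrix Kronecker MatrixGroups

variable {F : Type*} [Field F] [Fintype F] {n q : ℕ}

local notation "V" => (Fin n → F)
local notation "𝔥" => hermForm n F q
local notation "Δ" => similarityGroup (hermForm n F q)

theorem herm_zero_right (hF : Fintype.card F = q ^ 2) (u : V) : 𝔥 u 0 = 0 := by
  have h := hermForm_add_right (n := n) hF u 0 0
  rw [add_zero] at h
  exact left_eq_add.mp h

theorem herm_zero_left (v : V) : 𝔥 0 v = 0 := by
  have h := hermForm_add_left (n := n) (q := q) (0 : V) 0 v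
  rw [add_zero] at h
  exact left_eq_add.mp h

theorem herm_symm_zero (hF : Fintype.card F = q ^ 2) {u v : V} (h : 𝔥 u v = 0) : 𝔥 v u = 0 := by
  rw [← hermForm_conj hF u v, h]
  exact zero_pow (q_pos hF).ne'

theorem herm_nondeg (hF : Fintype.card F = q ^ 2) {v : V} (hv : v ≠ 0) : ∃ x : V, 𝔥 v x ≠ 0 := by
  classical
  obtain ⟨i, hi⟩ : ∃ i, v i ≠ 0 := by
    by_contra hcon
    push Not at hcon
    exact hv (funext hcon)
  refine ⟨Pi.single i 1, ?_⟩
  unfold hermForm
  rw [Finset.sum_eq_single i]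
  · simpa using hi
  · intro j _ hji
    simp [hji, (q_pos hF).ne']
  · intro h
    exact absurd (Finset.mem_univ i) h

/-- the right orthogonal complement of a subspace -/
def orthR (hF : Fintype.card F = q ^ 2) (W : Submodule F V) : Submodule F V where
  carrier := {x | ∀ y ∈ W, 𝔥 y x = 0}
  add_mem' := by
    intro a b ha hb y hy
    rw [hermForm_add_right hF, ha y hy, hb y hy, add_zero]
  zero_mem' := fun y _ => herm_zero_right hF y
  smul_mem' := by
    intro c a ha y hy
    rw [hermForm_smul_right, ha y hy, mul_zero]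

theorem mem_orthR (hF : Fintype.card F = q ^ 2) (W : Submodule F V) (x : V) :
    x ∈ orthR hF W ↔ ∀ y ∈ W, 𝔥 y x = 0 := Iff.rfl

section Decomp

variable {t m : ℕ} (D : Fin t → Submodule F (Fin n → F)) (τ : Fin t → Fin t)

/-- an element orthogonal to all the members of the decomposition is orthogonal to everything -/
theorem herm_eq_zero_of_forall (hF : Fintype.card F = q ^ 2) (hD : IsMDecomposition m D) (u : V)
    (h : ∀ j, ∀ v ∈ D j, 𝔥 u v = 0) (x : V) : 𝔥 u x = 0 := by
  have hx : x ∈ iSup D := by rw [hD.iSup_eq_top]; exact Submodule.mem_top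
  have hle : iSup D ≤ orthR hF (Submodule.span F {u}) := by
    apply iSup_le
    intro j v hv
    rw [mem_orthR]
    intro y hy
    obtain ⟨c, rfl⟩ := Submodule.mem_span_singleton.1 hy
    rw [hermForm_smul_left, h j v hv, mul_zero]
  exact (mem_orthR hF _ x).1 (hle hx) u (Submodule.mem_span_singleton_self u)

/-- the pairing between `D i` and `D (τ i)` is non-degenerate -/
theorem exists_pair_ne_zero (hF : Fintype.card F = q ^ 2) (hD : IsMDecomposition m D)
    (horth : ∀ i j, j ≠ τ i → AreOrthogonalFor 𝔥 (D i) (D j)) (i : Fin t) (u : V) (hu : u ∈ D i)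
    (hu0 : u ≠ 0) : ∃ v ∈ D (τ i), 𝔥 u v ≠ 0 := by
  by_contra hcon
  push Not at hcon
  obtain ⟨x, hx⟩ := herm_nondeg hF hu0
  apply hx
  apply herm_eq_zero_of_forall D hF hD u
  intro j v hv
  by_cases hj : j = τ i
  · subst hj
    exact hcon v hv
  · exact horth i j hj u hu v hv

theorem exists_mem_ne_zero (hD : IsMDecomposition m D) (i : Fin t) : ∃ u ∈ D i, u ≠ 0 := by
  apply Submodule.exists_mem_ne_zero_of_ne_bot
  intro h
  have h1 := hD.finrank_eq i
  rw [h, finrank_bot] at h1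
  have := hD.pos
  omega

/-- a similarity permuting the `D i` commutes with the duality -/
theorem perm_comm (hF : Fintype.card F = q ^ 2) (hD : IsMDecomposition m D)
    (horth : ∀ i j, j ≠ τ i → AreOrthogonalFor 𝔥 (D i) (D j)) (g : GL (Fin n) F) (hg : g ∈ Δ)
    (σ : Equiv.Perm (Fin t))
    (hσ : ∀ i, (D i).map (Matrix.toLin' (g : Matrix (Fin n) (Fin n) F)) = D (σ i)) (i : Fin t) :
    σ (τ i) = τ (σ i) := by
  by_contra hne
  obtain ⟨u, hu, hu0⟩ := exists_mem_ne_zero D hD i
  obtain ⟨v, hv, huv⟩ := exists_pair_ne_zero D τ hF hD horth i u hu hu0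
  obtain ⟨c, hc⟩ := hg
  have h1 : (g : Matrix (Fin n) (Fin n) F) *ᵥ u ∈ D (σ i) := by
    rw [← hσ i]
    exact ⟨u, hu, by rw [Matrix.toLin'_apply]⟩
  have h2 : (g : Matrix (Fin n) (Fin n) F) *ᵥ v ∈ D (σ (τ i)) := by
    rw [← hσ (τ i)]
    exact ⟨v, hv, by rw [Matrix.toLin'_apply]⟩
  have h3 := horth (σ i) (σ (τ i)) hne _ h1 _ h2
  rw [hc] at h3
  rcases mul_eq_zero.1 h3 with h4 | h4
  · exact c.ne_zero h4
  · exact huv h4


theorem finrank_sup_pair (hD : IsMDecomposition m D) {i j : Fin t} (hij : i ≠ j) :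
    Module.finrank F ↥(D i ⊔ D j) = 2 * m := by
  have h1 := Submodule.finrank_sup_add_finrank_inf_eq (D i) (D j)
  have hdisj : D i ⊓ D j = ⊥ := (hD.indep.pairwiseDisjoint hij).eq_bot
  rw [hdisj, finrank_bot, hD.finrank_eq, hD.finrank_eq] at h1
  omega

/-- the pair `D i ⊔ D (τ i)` is non-degenerate when all the `D j` are totally singular -/
theorem nondeg_pair (hF : Fintype.card F = q ^ 2) (hD : IsMDecomposition m D) (hτ : ∀ i, τ (τ i) = i)
    (horth : ∀ i j, j ≠ τ i → AreOrthogonalFor 𝔥 (D i) (D j))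
    (hts : ∀ i, IsTotallySingularFor 𝔥 (D i)) (i : Fin t) :
    IsNondegenerateOn 𝔥 (D i ⊔ D (τ i)) := by
  have key : ∀ i, ∀ a ∈ D i, ∀ b ∈ D (τ i), a ≠ 0 → ∃ x ∈ D i ⊔ D (τ i), 𝔥 (a + b) x ≠ 0 := by
    intro i a ha b hb ha0
    obtain ⟨v, hv, hav⟩ := exists_pair_ne_zero D τ hF hD horth i a ha ha0
    refine ⟨v, Submodule.mem_sup_right hv, ?_⟩
    rw [hermForm_add_left, hts (τ i) b hb v hv, add_zero]
    exact hav
  intro w hw hw0
  obtain ⟨a, ha, b, hb, rfl⟩ := Submodule.mem_sup.1 hw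
  have hex : ∃ x ∈ D i ⊔ D (τ i), 𝔥 (a + b) x ≠ 0 := by
    by_cases ha0 : a = 0
    · have hb0 : b ≠ 0 := by
        rintro rfl
        apply hw0
        rw [ha0, add_zero]
      have ha' : a ∈ D (τ (τ i)) := by rw [hτ i]; exact ha
      obtain ⟨x, hx, hx2⟩ := key (τ i) b hb a ha' hb0
      rw [hτ i, sup_comm] at hx
      rw [add_comm] at hx2
      exact ⟨x, hx, hx2⟩
    · exact key i a ha b hb ha0
  obtain ⟨x, hx, hx2⟩ := hex
  exact ⟨⟨x, hx, fun h => hx2 (herm_symm_zero hF h)⟩, ⟨x, hx, hx2⟩⟩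

/-- two different pairs are orthogonal -/
theorem orth_pair (hF : Fintype.card F = q ^ 2) (hτ : ∀ i, τ (τ i) = i)
    (horth : ∀ i j, j ≠ τ i → AreOrthogonalFor 𝔥 (D i) (D j)) (i j : Fin t) (h1 : j ≠ i)
    (h2 : j ≠ τ i) : AreOrthogonalFor 𝔥 (D i ⊔ D (τ i)) (D j ⊔ D (τ j)) := by
  intro u hu v hv
  obtain ⟨a, ha, b, hb, rfl⟩ := Submodule.mem_sup.1 hu
  obtain ⟨c, hc, d, hd, rfl⟩ := Submodule.mem_sup.1 hv
  have h3 : τ j ≠ τ i := fun h => h1 (by rw [← hτ j, h, hτ i])
  have h4 : τ j ≠ i := fun h => h2 (by rw [← h, hτ j])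
  rw [hermForm_add_left, hermForm_add_right hF, hermForm_add_right hF,
    horth i j h2 a ha c hc, horth i (τ j) h3 a ha d hd,
    horth (τ i) j (by rw [hτ i]; exact h1) b hb c hc,
    horth (τ i) (τ j) (by rw [hτ i]; exact h4) b hb d hd]
  simp

end Decomp

/-- pairwise orthogonal non-degenerate subspaces are independent -/
theorem indep_of_orth {s : ℕ} (hF : Fintype.card F = q ^ 2) (E : Fin s → Submodule F (Fin n → F))
    (hnd : ∀ k, IsNondegenerateOn 𝔥 (E k))
    (horthE : ∀ k l, k ≠ l → AreOrthogonalFor 𝔥 (E k) (E l)) : iSupIndep E := by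
  intro k
  rw [Submodule.disjoint_def]
  intro x hx hx2
  by_contra hx0
  obtain ⟨⟨y, hy, hyx⟩, _⟩ := hnd k x hx hx0
  apply hyx
  have hle : (⨆ l, ⨆ (_ : l ≠ k), E l) ≤ orthR hF (E k) := by
    apply iSup₂_le
    intro l hl v hv
    rw [mem_orthR]
    intro y hy
    exact horthE k l hl.symm y hy v hv
  exact (mem_orthR hF _ x).1 (hle hx2) y hy

theorem toLin'_gl_injective (g : GL (Fin n) F) :
    Function.Injective (Matrix.toLin' (g : Matrix (Fin n) (Fin n) F)) := by
  intro x y hxy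
  have h := congrArg (Matrix.toLin' ((g⁻¹ : GL (Fin n) F) : Matrix (Fin n) (Fin n) F)) hxy
  rw [← Matrix.toLin'_mul_apply, ← Matrix.toLin'_mul_apply, ← Units.val_mul, inv_mul_cancel,
    Units.val_one, Matrix.toLin'_one] at h
  exact h

/-- a matrix mapping every member of an injective family onto a member stabilises the family -/
theorem mem_stab_of_forall_exists {s : ℕ} (E : Fin s → Submodule F (Fin n → F))
    (hEinj : Function.Injective E) (g : GL (Fin n) F)
    (h : ∀ k, ∃ l, (E k).map (Matrix.toLin' (g : Matrix (Fin n) (Fin n) F)) = E l) :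
    g ∈ decompositionStabilizer E := by
  choose f hf using h
  have finj : Function.Injective f := by
    intro k l hkl
    apply hEinj
    apply Submodule.map_injective_of_injective (toLin'_gl_injective g)
    rw [hf k, hf l, hkl]
  show ∃ σ : Equiv.Perm (Fin s), ∀ i,
    (E i).map (Matrix.toLin' (g : Matrix (Fin n) (Fin n) F)) = E (σ i)
  exact ⟨Equiv.ofBijective f (Finite.injective_iff_bijective.1 finj), hf⟩

theorem ugeom_of_nondeg {t k : ℕ} (K : Subgroup (GL (Fin n) F)) (E : Fin t → Submodule F (Fin n → F))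
    (hE : IsNondegenerateMDecomposition 𝔥 k E) (hKE : K ≤ decompositionStabilizer E) :
    UGeom n q K :=
  ⟨decompositionStabilizer E ⊓ GU n F q, Or.inl (Or.inr (Or.inr (Or.inl ⟨t, k, E, hE, rfl⟩))),
    inf_le_inf_right _ hKE⟩

theorem ugeom_of_ts_pair {k : ℕ} (K : Subgroup (GL (Fin n) F)) (E : Fin 2 → Submodule F (Fin n → F))
    (h2 : 2 * k = n) (hE : IsMDecomposition k E) (hts : ∀ i, IsTotallySingularFor 𝔥 (E i))
    (hKE : K ≤ decompositionStabilizer E) : UGeom n q K :=
  ⟨decompositionStabilizer E ⊓ GU n F q,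
    Or.inl (Or.inr (Or.inr (Or.inr (Or.inl ⟨k, E, h2, hE, hts, rfl⟩)))), inf_le_inf_right _ hKE⟩

/-- the representative of the `τ`-orbit of `i` -/
def rep {t : ℕ} (τ : Fin t → Fin t) (i : Fin t) : Fin t := if i < τ i then i else τ i

/-- the set of representatives of the `τ`-orbits -/
abbrev Reps {t : ℕ} (τ : Fin t → Fin t) : Type := {i : Fin t // i < τ i}

theorem rep_lt {t : ℕ} (τ : Fin t → Fin t) (hτ : ∀ i, τ (τ i) = i) (hfix : ∀ i, τ i ≠ i) (i : Fin t) :
    rep τ i < τ (rep τ i) := by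
  by_cases h : i < τ i
  · simp only [rep, if_pos h]
    exact h
  · simp only [rep, if_neg h]
    rw [hτ i]
    exact lt_of_le_of_ne (not_lt.1 h) (hfix i)

theorem rep_cases {t : ℕ} (τ : Fin t → Fin t) (i : Fin t) : rep τ i = i ∨ rep τ i = τ i := by
  by_cases h : i < τ i
  · left
    simp only [rep, if_pos h]
  · right
    simp only [rep, if_neg h]

section Main

variable {t m : ℕ} (D : Fin t → Submodule F (Fin n → F)) (τ : Fin t → Fin t)

theorem pair_rep (hτ : ∀ i, τ (τ i) = i) (i : Fin t) :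
    D (rep τ i) ⊔ D (τ (rep τ i)) = D i ⊔ D (τ i) := by
  rcases rep_cases τ i with h | h
  · rw [h]
  · rw [h, hτ i, sup_comm]

/-- Case A: a fixed point of the duality forces the duality to be trivial. -/
theorem case_fixed (hF : Fintype.card F = q ^ 2) (K : Subgroup (GL (Fin n) F)) (hKΔ : K ≤ Δ)
    (hK : ActsIrreducibly (matrixSet K)) (hD : IsMDecomposition m D)
    (hKD : K ≤ decompositionStabilizer D)
    (horth : ∀ i j, j ≠ τ i → AreOrthogonalFor 𝔥 (D i) (D j)) (i₀ : Fin t) (hi₀ : τ i₀ = i₀) :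
    ∀ j, τ j = j := by
  classical
  have hinv : ∀ s ∈ matrixSet K,
      (⨆ i, ⨆ (_ : τ i = i), D i).map (Matrix.toLin' s) ≤ ⨆ i, ⨆ (_ : τ i = i), D i := by
    rintro s ⟨g, hg, rfl⟩
    obtain ⟨σ, hσ⟩ := hKD hg
    rw [Submodule.map_iSup]
    apply iSup_le
    intro i
    rw [Submodule.map_iSup]
    apply iSup_le
    intro hi
    rw [hσ i]
    have h1 : τ (σ i) = σ i := by
      rw [← perm_comm D τ hF hD horth g (hKΔ hg) σ hσ i, hi]
    exact le_iSup₂_of_le (σ i) h1 le_rfl
  have hne : (⨆ i, ⨆ (_ : τ i = i), D i) ≠ ⊥ := by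
    intro h
    obtain ⟨u, hu, hu0⟩ := exists_mem_ne_zero D hD i₀
    have h2 : u ∈ ⨆ i, ⨆ (_ : τ i = i), D i :=
      (le_iSup₂_of_le (f := fun i (_ : τ i = i) => D i) i₀ hi₀ le_rfl) hu
    rw [h] at h2
    exact hu0 ((Submodule.mem_bot F).1 h2)
  have htop : (⨆ i, ⨆ (_ : τ i = i), D i) = ⊤ := (hK _ hinv).resolve_left hne
  intro j
  by_contra hj
  have hle : (⨆ i, ⨆ (_ : τ i = i), D i) ≤ ⨆ k, ⨆ (_ : k ≠ j), D k := by
    apply iSup₂_le
    intro i hi
    have hij : i ≠ j := by
      rintro rfl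
      exact hj hi
    exact le_iSup₂_of_le (f := fun k (_ : k ≠ j) => D k) i hij le_rfl
  have hdis := hD.indep j
  obtain ⟨u, hu, hu0⟩ := exists_mem_ne_zero D hD j
  have hu2 : u ∈ ⨆ k, ⨆ (_ : k ≠ j), D k := hle (by rw [htop]; exact Submodule.mem_top)
  exact hu0 (Submodule.disjoint_def.1 hdis u hu hu2)

/-- Case B with more than two members: pair up the members. -/
theorem case_free (hF : Fintype.card F = q ^ 2) (K : Subgroup (GL (Fin n) F)) (hKΔ : K ≤ Δ)
    (hD : IsMDecomposition m D) (hKD : K ≤ decompositionStabilizer D) (hτ : ∀ i, τ (τ i) = i)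
    (horth : ∀ i j, j ≠ τ i → AreOrthogonalFor 𝔥 (D i) (D j)) (hfix : ∀ i, τ i ≠ i)
    (ht2 : t ≠ 2) : UGeom n q K := by
  classical
  have hts : ∀ i, IsTotallySingularFor 𝔥 (D i) := fun i => horth i i (hfix i).symm
  have hrep : ∀ i, rep τ i < τ (rep τ i) := rep_lt τ hτ hfix
  -- the new decomposition
  obtain ⟨e, he⟩ : ∃ e : Fin (Fintype.card (Reps τ)) ≃ Reps τ, e = (Fintype.equivFin (Reps τ)).symm :=
    ⟨_, rfl⟩
  obtain ⟨E, hEdef⟩ : ∃ E : Fin (Fintype.card (Reps τ)) → Submodule F (Fin n → F),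
      ∀ k, E k = D (e k).1 ⊔ D (τ (e k).1) := ⟨fun k => D (e k).1 ⊔ D (τ (e k).1), fun _ => rfl⟩
  have hEidx : ∀ i, E (e.symm ⟨rep τ i, hrep i⟩) = D i ⊔ D (τ i) := by
    intro i
    rw [hEdef, Equiv.apply_symm_apply]
    exact pair_rep D τ hτ i
  have hEnd : ∀ k, IsNondegenerateOn 𝔥 (E k) := by
    intro k
    rw [hEdef]
    exact nondeg_pair D τ hF hD hτ horth hts (e k).1
  have hEorth : ∀ k l, k ≠ l → AreOrthogonalFor 𝔥 (E k) (E l) := by
    intro k l hkl
    have h1 : (e l).1 ≠ (e k).1 := fun h => hkl (e.injective (Subtype.ext h)).symm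
    have h2 : (e l).1 ≠ τ (e k).1 := by
      intro h
      have hk : (e k).1 < τ (e k).1 := (e k).2
      have hl : (e l).1 < τ (e l).1 := (e l).2
      rw [h, hτ] at hl
      exact lt_asymm hk hl
    rw [hEdef, hEdef]
    exact orth_pair D τ hF hτ horth (e k).1 (e l).1 h1 h2
  have hEindep : iSupIndep E := indep_of_orth hF E hEnd hEorth
  have hEtop : iSup E = ⊤ := by
    rw [eq_top_iff, ← hD.iSup_eq_top]
    apply iSup_le
    intro i
    have h1 : D i ≤ E (e.symm ⟨rep τ i, hrep i⟩) := by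
      rw [hEidx]
      exact le_sup_left
    exact h1.trans (le_iSup E _)
  have hcard : 2 ≤ Fintype.card (Reps τ) := by
    have ht3 : 3 ≤ t := by
      have := hD.two_le
      omega
    obtain ⟨i₀, hi₀⟩ : ∃ i₀ : Fin t, i₀ < τ i₀ := ⟨rep τ ⟨0, by omega⟩, hrep _⟩
    obtain ⟨j, hj⟩ : ∃ j : Fin t, j ∉ ({i₀, τ i₀} : Finset (Fin t)) := by
      by_contra hcon
      push Not at hcon
      have hsub : (Finset.univ : Finset (Fin t)) ⊆ {i₀, τ i₀} := fun j _ => hcon j
      have h1 := Finset.card_le_card hsub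
      rw [Finset.card_univ, Fintype.card_fin] at h1
      have h2 := Finset.card_le_two (a := i₀) (b := τ i₀)
      omega
    have hj1 : j ≠ i₀ := fun h => hj (by rw [h]; exact Finset.mem_insert_self _ _)
    have hj2 : j ≠ τ i₀ := fun h =>
      hj (by rw [h]; exact Finset.mem_insert_of_mem (Finset.mem_singleton_self _))
    have hne : (⟨i₀, hi₀⟩ : Reps τ) ≠ ⟨rep τ j, hrep j⟩ := by
      intro h
      have h' : i₀ = rep τ j := congrArg Subtype.val h
      rcases rep_cases τ j with h3 | h3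
      · exact hj1 (h'.trans h3).symm
      · apply hj2
        rw [h'.trans h3, hτ j]
    have h5 : 1 < Fintype.card (Reps τ) := Fintype.one_lt_card_iff.2 ⟨_, _, hne⟩
    omega
  have hEdec : IsMDecomposition (2 * m) E :=
    { two_le := hcard
      pos := by
        have := hD.pos
        omega
      finrank_eq := fun k => by
        rw [hEdef]
        exact finrank_sup_pair D hD (hfix (e k).1).symm
      indep := hEindep
      iSup_eq_top := hEtop }
  have hEne : ∀ k, E k ≠ ⊥ := by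
    intro k h
    obtain ⟨u, hu, hu0⟩ := exists_mem_ne_zero D hD (e k).1
    have h1 : u ∈ E k := by
      rw [hEdef]
      exact Submodule.mem_sup_left hu
    rw [h] at h1
    exact hu0 ((Submodule.mem_bot F).1 h1)
  have hEinj : Function.Injective E := hEindep.injective hEne
  refine ugeom_of_nondeg K E ⟨hEdec, hEnd, hEorth⟩ ?_
  intro g hg
  obtain ⟨σ, hσ⟩ := hKD hg
  apply mem_stab_of_forall_exists E hEinj g
  intro k
  refine ⟨e.symm ⟨rep τ (σ (e k).1), hrep _⟩, ?_⟩
  rw [hEidx, hEdef, Submodule.map_sup, hσ, hσ, perm_comm D τ hF hD horth g (hKΔ hg) σ hσ]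

end Main

/-- **K-S5663-A2b** (geometry of a decomposition with a duality, unitary case). -/
theorem ugeom_of_dual_decomposition (hF : Fintype.card F = q ^ 2) (K : Subgroup (GL (Fin n) F))
    (hKΔ : K ≤ Δ) (hK : ActsIrreducibly (matrixSet K)) {t m : ℕ} (D : Fin t → Submodule F V)
    (τ : Fin t → Fin t) (hD : IsMDecomposition m D) (hKD : K ≤ decompositionStabilizer D)
    (hτ : ∀ i, τ (τ i) = i) (horth : ∀ i j, j ≠ τ i → AreOrthogonalFor 𝔥 (D i) (D j)) :
    UGeom n q K := by
  classical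
  by_cases hfix : ∃ i₀, τ i₀ = i₀
  · obtain ⟨i₀, hi₀⟩ := hfix
    have hall := case_fixed D τ hF K hKΔ hK hD hKD horth i₀ hi₀
    refine ugeom_of_nondeg K D ⟨hD, ?_, ?_⟩ hKD
    · intro i w hw hw0
      obtain ⟨v, hv, hwv⟩ := exists_pair_ne_zero D τ hF hD horth i w hw hw0
      rw [hall i] at hv
      exact ⟨⟨v, hv, fun h => hwv (herm_symm_zero hF h)⟩, ⟨v, hv, hwv⟩⟩
    · intro i j hij
      exact horth i j (by rw [hall i]; exact hij.symm)
  · push Not at hfix
    have hts : ∀ i, IsTotallySingularFor 𝔥 (D i) := fun i => horth i i (hfix i).symm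
    by_cases ht2 : t = 2
    · subst ht2
      refine ugeom_of_ts_pair K D ?_ hD hts hKD
      have h1 := finrank_sup_pair D hD (by decide : (0 : Fin 2) ≠ 1)
      have hsup : D 0 ⊔ D 1 = ⊤ := by
        rw [← hD.iSup_eq_top]
        apply le_antisymm
        · exact sup_le (le_iSup D 0) (le_iSup D 1)
        · apply iSup_le
          intro i
          fin_cases i
          · exact le_sup_left
          · exact le_sup_right
      rw [hsup, finrank_top, Module.finrank_fin_fun] at h1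
      exact h1.symm
    · exact case_free D τ hF K hKΔ hD hKD hτ horth hfix ht2

end Cfsg.Agent.Lib.Helper67.AschU
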