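import Cfsg.Agent.Lib.Helper49.OElDefs

/-!
# K-OEl CASE LEAF PP (keystone 598825, S5988 pack, architect helper49): `r = p`

`case_p_ellP_of`: the glue, with LEAF BRP (`isEllP_iff`), LEAF H (`plusQ_of_unip`) and LEAF I (`exists_unip_plus`) passed as
hypotheses in their exact spec form (for the given `F`, `d`, `m`), so that this file only depends on modules on main.
`case_p_ellP` (exact spec signature) is the one-line instance once the three leaves are on main: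
`case_p_ellP_of d m hme (isEllP_iff d m) (fun E hE u hR hEK hK W hW hWe => plusQ_of_unip (Q0 d F) E hE u hR hEK hK W hW hWe)
  (exists_unip_plus d hd)`.
-/

set_option autoImplicit false

namespace Cfsg.Agent.Lib.Helper67.OEl

open Module Cfsg.Agent.Lib.Helper98.Elus Cfsg.Agent.Lib.Helper98.Sy Cfsg.Agent.Lib.Helper38.OhP
  Cfsg.Agent.Lib.Helper49.OEl

universe u
variable {F : Type u} [Field F]

/-- CASE LEAF PP from LEAVES BRP, H, I -/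
theorem case_p_ellP_of [Fintype F] {p : ℕ} [Fact p.Prime] [CharP F p] (d m : ℕ) (hme : Even m)
    (hBRP : ∀ W : Submodule F (Fin d ⊕ Fin d → F),
      IsEllP d m W ↔ (finrank F W = m ∧ NonDeg (pB (Q0 d F)) W ∧ ¬ PlusQ (Q0 d F) W))
    (hH : ∀ (E : Submodule F (Fin d ⊕ Fin d → F)), (∀ v ∈ E, Q0 d F v = 0) →
      ∀ (u : (Fin d ⊕ Fin d → F) →ₗ[F] (Fin d ⊕ Fin d → F)), (∀ v, (u - 1) v ∈ E) →
      E ≤ LinearMap.ker (u - 1) → finrank F (LinearMap.ker (u - 1)) ≤ finrank F E + 1 →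
      ∀ (W : Submodule F (Fin d ⊕ Fin d → F)), Inv u W → Even (finrank F W) → PlusQ (Q0 d F) W)
    (hI : ∃ x : GL (Fin d ⊕ Fin d) F, x ∈ Cfsg.Geo.omegaGL (Cfsg.quadFormPlus d F) ∧
      ((x ^ p : GL (Fin d ⊕ Fin d) F) : Matrix (Fin d ⊕ Fin d) (Fin d ⊕ Fin d) F) = 1 ∧
      (∀ z : F, (x : Matrix (Fin d ⊕ Fin d) (Fin d ⊕ Fin d) F) ≠
        z • (1 : Matrix (Fin d ⊕ Fin d) (Fin d ⊕ Fin d) F)) ∧
      ∃ E : Submodule F (Fin d ⊕ Fin d → F), (∀ v ∈ E, Q0 d F v = 0) ∧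
        (∀ v, (Matrix.toLin' (x : Matrix (Fin d ⊕ Fin d) (Fin d ⊕ Fin d) F) - 1) v ∈ E) ∧
        E ≤ LinearMap.ker (Matrix.toLin' (x : Matrix (Fin d ⊕ Fin d) (Fin d ⊕ Fin d) F) - 1) ∧
        finrank F (LinearMap.ker (Matrix.toLin' (x : Matrix (Fin d ⊕ Fin d) (Fin d ⊕ Fin d) F) - 1)) ≤
          finrank F E + 1) :
    ∃ x : GL (Fin d ⊕ Fin d) F, x ∈ Cfsg.Geo.omegaGL (Cfsg.quadFormPlus d F) ∧
      (∃ z : F, ((x ^ p : GL (Fin d ⊕ Fin d) F) : Matrix (Fin d ⊕ Fin d) (Fin d ⊕ Fin d) F) =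
        z • (1 : Matrix (Fin d ⊕ Fin d) (Fin d ⊕ Fin d) F)) ∧
      (∀ z : F, (x : Matrix (Fin d ⊕ Fin d) (Fin d ⊕ Fin d) F) ≠
        z • (1 : Matrix (Fin d ⊕ Fin d) (Fin d ⊕ Fin d) F)) ∧
      ∀ W : Submodule F (Fin d ⊕ Fin d → F), IsEllP d m W →
        ¬ W.map (Matrix.toLin' (x : Matrix (Fin d ⊕ Fin d) (Fin d ⊕ Fin d) F)) ≤ W := by
  obtain ⟨x, hxΩ, hxp, hxns, E, hE, hR, hEK, hK⟩ := hI
  refine ⟨x, hxΩ, ⟨1, by rw [hxp, one_smul]⟩, hxns, ?_⟩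
  intro W hW hmap
  obtain ⟨hWd, _, hWnp⟩ := (hBRP W).1 hW
  apply hWnp
  have hInv : Inv (Matrix.toLin' (x : Matrix (Fin d ⊕ Fin d) (Fin d ⊕ Fin d) F)) W :=
    fun v hv => hmap ⟨v, hv, rfl⟩
  exact hH E hE _ hR hEK hK W hInv (by rw [hWd]; exact hme)

end Cfsg.Agent.Lib.Helper67.OEl
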