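import Mathlib

/-!
# K-OQF-FRb (keystone 597709, S5977 / S5978 pack, architect helper72)

Frame of an isometry `x` with `x² = -1` of a nondegenerate quadratic space over a finite field of odd
characteristic: a basis `(v_k, x v_k)` with `Q v_k = 1` and mutually orthogonal planes.
-/

set_option autoImplicit false

namespace Cfsg.Agent.Lib.Helper67.OQF

open Module Polynomial

variable {F : Type*} [Field F] {V : Type*} [AddCommGroup V] [Module F V]

theorem two_ne_zero_of_odd_card [Fintype F] (hodd : Odd (Fintype.card F)) : (2 : F) ≠ 0 := by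
  have hch : ringChar F ≠ 2 := by
    intro h
    have h0 := (FiniteField.even_card_iff_char_two).1 h
    rcases hodd with ⟨t, ht⟩
    omega
  exact Ring.two_ne_zero hch

section frame

variable (Q : QuadraticForm F V) (x : V →ₗ[F] V)

theorem polar_x_x (hxQ : ∀ v, Q (x v) = Q v) (a b : V) :
    QuadraticMap.polar (⇑Q) (x a) (x b) = QuadraticMap.polar (⇑Q) a b := by
  unfold QuadraticMap.polar
  rw [← map_add, hxQ, hxQ, hxQ]

theorem polar_x_left (hxQ : ∀ v, Q (x v) = Q v) (hx2 : ∀ v, x (x v) = -v) (a b : V) :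
    QuadraticMap.polar (⇑Q) (x a) b = - QuadraticMap.polar (⇑Q) a (x b) := by
  have h := polar_x_x Q x hxQ a (x b)
  rw [hx2, QuadraticMap.polar_neg_right] at h
  exact neg_eq_iff_eq_neg.1 h

theorem polar_self_x (h2 : (2 : F) ≠ 0) (hxQ : ∀ v, Q (x v) = Q v) (hx2 : ∀ v, x (x v) = -v)
    (a : V) : QuadraticMap.polar (⇑Q) a (x a) = 0 := by
  have h := polar_x_left Q x hxQ hx2 a a
  have hc := QuadraticMap.polar_comm (⇑Q) (x a) a
  have h3 : (2 : F) * QuadraticMap.polar (⇑Q) a (x a) = 0 := by linear_combination h - hc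
  exact (mul_eq_zero.1 h3).resolve_left h2

/-- a partial frame -/
def IsFr {m : ℕ} (w : Fin m → V) : Prop :=
  (∀ k, Q (w k) = 1) ∧ ∀ k l, k ≠ l →
    QuadraticMap.polar (⇑Q) (w k) (w l) = 0 ∧ QuadraticMap.polar (⇑Q) (w k) (x (w l)) = 0

/-- the full family `(w k, x (w k))` -/
def bf {m : ℕ} (w : Fin m → V) (p : Fin m × Fin 2) : V := if p.2 = 0 then w p.1 else x (w p.1)

theorem bf_zero {m : ℕ} (w : Fin m → V) (k : Fin m) : bf x w (k, 0) = w k := if_pos rfl

theorem bf_one {m : ℕ} (w : Fin m → V) (k : Fin m) : bf x w (k, 1) = x (w k) :=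
  if_neg (by simp)

variable {Q x}

theorem bf_ortho_aux (h2 : (2 : F) ≠ 0) (hxQ : ∀ v, Q (x v) = Q v) (hx2 : ∀ v, x (x v) = -v)
    {m : ℕ} {w : Fin m → V} (hw : IsFr Q x w) (k l : Fin m) :
    ∀ i j : Fin 2, (k, i) ≠ (l, j) →
      QuadraticMap.polar (⇑Q) (bf x w (k, i)) (bf x w (l, j)) = 0 := by
  by_cases hkl : k = l
  · subst hkl
    refine Fin.forall_fin_two.2 ⟨Fin.forall_fin_two.2 ⟨?_, ?_⟩, Fin.forall_fin_two.2 ⟨?_, ?_⟩⟩
    · intro h; exact absurd rfl h
    · intro _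
      rw [bf_zero, bf_one]
      exact polar_self_x Q x h2 hxQ hx2 _
    · intro _
      rw [bf_zero, bf_one, QuadraticMap.polar_comm]
      exact polar_self_x Q x h2 hxQ hx2 _
    · intro h; exact absurd rfl h
  · refine Fin.forall_fin_two.2 ⟨Fin.forall_fin_two.2 ⟨?_, ?_⟩, Fin.forall_fin_two.2 ⟨?_, ?_⟩⟩
    · intro _
      rw [bf_zero, bf_zero]
      exact (hw.2 k l hkl).1
    · intro _
      rw [bf_zero, bf_one]
      exact (hw.2 k l hkl).2
    · intro _
      rw [bf_zero, bf_one, polar_x_left Q x hxQ hx2, (hw.2 k l hkl).2, neg_zero]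
    · intro _
      rw [bf_one, bf_one, polar_x_x Q x hxQ]
      exact (hw.2 k l hkl).1

theorem bf_ortho (h2 : (2 : F) ≠ 0) (hxQ : ∀ v, Q (x v) = Q v) (hx2 : ∀ v, x (x v) = -v)
    {m : ℕ} {w : Fin m → V} (hw : IsFr Q x w) (p p' : Fin m × Fin 2) (hne : p ≠ p') :
    QuadraticMap.polar (⇑Q) (bf x w p) (bf x w p') = 0 := by
  obtain ⟨k, i⟩ := p
  obtain ⟨l, j⟩ := p'
  exact bf_ortho_aux h2 hxQ hx2 hw k l i j hne

theorem Q_bf (hxQ : ∀ v, Q (x v) = Q v) {m : ℕ} {w : Fin m → V} (hw : IsFr Q x w)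
    (p : Fin m × Fin 2) : Q (bf x w p) = 1 := by
  obtain ⟨k, i⟩ := p
  revert i
  refine Fin.forall_fin_two.2 ⟨?_, ?_⟩
  · rw [bf_zero]; exact hw.1 k
  · rw [bf_one, hxQ]; exact hw.1 k

theorem polar_bf_self (hxQ : ∀ v, Q (x v) = Q v) {m : ℕ} {w : Fin m → V} (hw : IsFr Q x w)
    (p : Fin m × Fin 2) : QuadraticMap.polar (⇑Q) (bf x w p) (bf x w p) = 2 := by
  rw [QuadraticMap.polar_self, Q_bf hxQ hw, nsmul_eq_mul, mul_one]; norm_num

theorem bf_linInd (h2 : (2 : F) ≠ 0) (hxQ : ∀ v, Q (x v) = Q v) (hx2 : ∀ v, x (x v) = -v)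
    {m : ℕ} {w : Fin m → V} (hw : IsFr Q x w) : LinearIndependent F (bf x w) := by
  apply LinearMap.linearIndependent_of_isOrthoᵢ (B := QuadraticMap.polarBilin Q)
  · intro p p' hne
    show QuadraticMap.polarBilin Q (bf x w p) (bf x w p') = 0
    rw [QuadraticMap.polarBilin_apply_apply]
    exact bf_ortho h2 hxQ hx2 hw p p' hne
  · intro p
    rw [QuadraticMap.polarBilin_apply_apply, polar_bf_self hxQ hw]
    exact h2

/-- polar form of a linear combination -/
theorem polar_sum_left {ι : Type*} (s : Finset ι) (c : ι → F) (f : ι → V) (z : V) :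
    QuadraticMap.polar (⇑Q) (∑ p ∈ s, c p • f p) z = ∑ p ∈ s, c p * QuadraticMap.polar (⇑Q) (f p) z := by
  have h : QuadraticMap.polarBilin Q (∑ p ∈ s, c p • f p) z =
      ∑ p ∈ s, c p * QuadraticMap.polarBilin Q (f p) z := by
    rw [map_sum, LinearMap.sum_apply]
    apply Finset.sum_congr rfl
    intro p _
    rw [map_smul, LinearMap.smul_apply, smul_eq_mul]
  simpa only [QuadraticMap.polarBilin_apply_apply] using h

/-- the projection to the orthogonal complement of the frame -/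
theorem polar_proj (h2 : (2 : F) ≠ 0) (hxQ : ∀ v, Q (x v) = Q v) (hx2 : ∀ v, x (x v) = -v)
    {m : ℕ} {w : Fin m → V} (hw : IsFr Q x w) (y : V) (p' : Fin m × Fin 2) :
    QuadraticMap.polar (⇑Q)
      (y - ∑ p, (QuadraticMap.polar (⇑Q) y (bf x w p) / 2) • bf x w p) (bf x w p') = 0 := by
  rw [QuadraticMap.polar_sub_left, polar_sum_left, Finset.sum_eq_single p']
  · rw [polar_bf_self hxQ hw, div_mul_cancel₀ _ h2, sub_self]
  · intro p _ hne
    rw [bf_ortho h2 hxQ hx2 hw p p' hne, mul_zero]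
  · intro h; exact absurd (Finset.mem_univ _) h

theorem exists_ext [Fintype F] [FiniteDimensional F V] (hodd : Odd (Fintype.card F))
    (hQ : (QuadraticMap.polarBilin Q).Nondegenerate)
    (hxQ : ∀ v, Q (x v) = Q v) (hx2 : ∀ v, x (x v) = -v)
    {m : ℕ} {w : Fin m → V} (hw : IsFr Q x w) (hlt : 2 * m < finrank F V) :
    ∃ v, Q v = 1 ∧ ∀ p, QuadraticMap.polar (⇑Q) v (bf x w p) = 0 := by
  have h2 : (2 : F) ≠ 0 := two_ne_zero_of_odd_card hodd
  -- a vector outside the span of the frame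
  have hfr : finrank F (Submodule.span F (Set.range (bf x w))) ≤ 2 * m := by
    have h := finrank_range_le_card (R := F) (bf x w)
    rw [Fintype.card_prod, Fintype.card_fin, Fintype.card_fin, mul_comm] at h
    exact h
  have hne : Submodule.span F (Set.range (bf x w)) ≠ ⊤ := by
    intro h
    rw [h, finrank_top] at hfr
    omega
  obtain ⟨y, hy⟩ : ∃ y, y ∉ Submodule.span F (Set.range (bf x w)) := by
    by_contra hcon
    push Not at hcon
    exact hne (Submodule.eq_top_iff'.2 hcon)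
  -- its projection `u`
  obtain ⟨u, hu⟩ : ∃ u, u = y - ∑ p, (QuadraticMap.polar (⇑Q) y (bf x w p) / 2) • bf x w p :=
    ⟨_, rfl⟩
  have huT : ∀ p, QuadraticMap.polar (⇑Q) u (bf x w p) = 0 := by
    intro p; rw [hu]; exact polar_proj h2 hxQ hx2 hw y p
  have hu0 : u ≠ 0 := by
    intro h0
    apply hy
    rw [h0] at hu
    have hy' : y = ∑ p, (QuadraticMap.polar (⇑Q) y (bf x w p) / 2) • bf x w p :=
      sub_eq_zero.1 hu.symm
    rw [hy']
    exact Submodule.sum_mem _ (fun p _ => Submodule.smul_mem _ _ (Submodule.subset_span ⟨p, rfl⟩))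
  -- a nonsingular vector orthogonal to the frame
  obtain ⟨v₀, hv₀T, hv₀⟩ : ∃ v₀, (∀ p, QuadraticMap.polar (⇑Q) v₀ (bf x w p) = 0) ∧ Q v₀ ≠ 0 := by
    by_contra hcon
    push Not at hcon
    apply hu0
    apply hQ.1 u
    intro y'
    rw [QuadraticMap.polarBilin_apply_apply]
    obtain ⟨t', ht'⟩ : ∃ t', t' = y' - ∑ p, (QuadraticMap.polar (⇑Q) y' (bf x w p) / 2) • bf x w p :=
      ⟨_, rfl⟩
    have ht'T : ∀ p, QuadraticMap.polar (⇑Q) t' (bf x w p) = 0 := by
      intro p; rw [ht']; exact polar_proj h2 hxQ hx2 hw y' p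
    have hy' : y' = t' + ∑ p, (QuadraticMap.polar (⇑Q) y' (bf x w p) / 2) • bf x w p := by
      rw [ht', sub_add_cancel]
    have h1 : QuadraticMap.polar (⇑Q) u t' = 0 := by
      have hsum : ∀ p, QuadraticMap.polar (⇑Q) (u + t') (bf x w p) = 0 := by
        intro p
        rw [QuadraticMap.polar_add_left, huT p, ht'T p, add_zero]
      unfold QuadraticMap.polar
      rw [hcon (u + t') hsum, hcon u huT, hcon t' ht'T]
      simp
    have h3 : QuadraticMap.polar (⇑Q) u
        (∑ p, (QuadraticMap.polar (⇑Q) y' (bf x w p) / 2) • bf x w p) = 0 := by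
      rw [QuadraticMap.polar_comm (⇑Q) u _, polar_sum_left]
      apply Finset.sum_eq_zero
      intro p _
      rw [QuadraticMap.polar_comm (⇑Q) (bf x w p) u, huT p, mul_zero]
    rw [hy', QuadraticMap.polar_add_right, h1, h3, add_zero]
  -- `x v₀` is orthogonal to the frame as well
  have hxv₀T : ∀ p, QuadraticMap.polar (⇑Q) (x v₀) (bf x w p) = 0 := by
    rintro ⟨k, i⟩
    revert i
    refine Fin.forall_fin_two.2 ⟨?_, ?_⟩
    · rw [bf_zero, polar_x_left Q x hxQ hx2, ← bf_one, hv₀T, neg_zero]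
    · rw [bf_one, polar_x_x Q x hxQ, ← bf_zero x w k, hv₀T]
  -- a sum of two squares
  obtain ⟨s, t, hst⟩ : ∃ s t : F, s * s + t * t = (Q v₀)⁻¹ := by
    have hf : degree (X ^ 2 : F[X]) = 2 := degree_X_pow 2
    have hg : degree (X ^ 2 - C ((Q v₀)⁻¹) : F[X]) = 2 := degree_X_pow_sub_C (by norm_num) _
    obtain ⟨a, b, hab⟩ := FiniteField.exists_root_sum_quadratic hf hg (Nat.odd_iff.1 hodd)
    refine ⟨a, b, ?_⟩
    simp only [eval_pow, eval_X, eval_sub, eval_C] at hab
    linear_combination hab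
  refine ⟨s • v₀ + t • x v₀, ?_, ?_⟩
  · have hadd := QuadraticMap.map_add (⇑Q) (s • v₀) (t • x v₀)
    rw [hadd, QuadraticMap.map_smul, QuadraticMap.map_smul, hxQ,
      QuadraticMap.polar_smul_left, QuadraticMap.polar_smul_right,
      polar_self_x Q x h2 hxQ hx2, smul_zero, smul_zero, add_zero, smul_eq_mul, smul_eq_mul,
      ← add_mul, hst, inv_mul_cancel₀ hv₀]
  · intro p
    rw [QuadraticMap.polar_add_left, QuadraticMap.polar_smul_left, QuadraticMap.polar_smul_left,
      hv₀T p, hxv₀T p, smul_zero, smul_zero, add_zero]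

theorem isFr_cons (hxQ : ∀ v, Q (x v) = Q v) (hx2 : ∀ v, x (x v) = -v)
    {m : ℕ} {w : Fin m → V} (hw : IsFr Q x w) (v : V) (hv : Q v = 1)
    (hvT : ∀ p, QuadraticMap.polar (⇑Q) v (bf x w p) = 0) :
    IsFr Q x (Fin.cons v w : Fin (m + 1) → V) := by
  have hv0 : ∀ k, QuadraticMap.polar (⇑Q) v (w k) = 0 := fun k => by
    have := hvT (k, 0); rwa [bf_zero] at this
  have hv1 : ∀ k, QuadraticMap.polar (⇑Q) v (x (w k)) = 0 := fun k => by
    have := hvT (k, 1); rwa [bf_one] at this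
  refine ⟨?_, ?_⟩
  · intro k
    refine Fin.cases ?_ (fun k' => ?_) k
    · rw [Fin.cons_zero]; exact hv
    · rw [Fin.cons_succ]; exact hw.1 k'
  · intro k l
    refine Fin.cases ?_ (fun k' => ?_) k
    · refine Fin.cases ?_ (fun l' => ?_) l
      · intro h; exact absurd rfl h
      · intro _
        rw [Fin.cons_zero, Fin.cons_succ]
        exact ⟨hv0 l', hv1 l'⟩
    · refine Fin.cases ?_ (fun l' => ?_) l
      · intro _
        rw [Fin.cons_zero, Fin.cons_succ]
        refine ⟨by rw [QuadraticMap.polar_comm]; exact hv0 k', ?_⟩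
        rw [QuadraticMap.polar_comm, polar_x_left Q x hxQ hx2, hv1 k', neg_zero]
      · intro h
        rw [Fin.cons_succ, Fin.cons_succ]
        exact hw.2 k' l' (fun h' => h (by rw [h']))

end frame

/-- **K-OQF-FRb** (597709) -/
theorem exists_frame_of_sq_neg_one {V : Type*} [AddCommGroup V] [Module F V] [FiniteDimensional F V]
    [Fintype F]
    (hodd : Odd (Fintype.card F)) (Q : QuadraticForm F V)
    (hQ : (QuadraticMap.polarBilin Q).Nondegenerate)
    (x : V →ₗ[F] V) (hxQ : ∀ v, Q (x v) = Q v) (hx2 : ∀ v, x (x v) = -v) :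
    ∃ (d : ℕ) (b : Module.Basis (Fin d × Fin 2) F V), (∀ k, Q (b (k, 0)) = 1) ∧
      (∀ k, b (k, 1) = x (b (k, 0))) ∧
      ∀ k l, k ≠ l → ∀ i j, QuadraticMap.polar (⇑Q) (b (k, i)) (b (l, j)) = 0 := by
  have h2 : (2 : F) ≠ 0 := two_ne_zero_of_odd_card hodd
  -- a complete frame gives the basis
  have base : ∀ (m : ℕ) (w : Fin m → V), IsFr Q x w → finrank F V ≤ 2 * m →
      ∃ (d : ℕ) (b : Module.Basis (Fin d × Fin 2) F V), (∀ k, Q (b (k, 0)) = 1) ∧
        (∀ k, b (k, 1) = x (b (k, 0))) ∧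
        ∀ k l, k ≠ l → ∀ i j, QuadraticMap.polar (⇑Q) (b (k, i)) (b (l, j)) = 0 := by
    intro m w hw hle
    have hli := bf_linInd h2 hxQ hx2 hw
    have hcard : Fintype.card (Fin m × Fin 2) = finrank F V := by
      have h1 := hli.fintype_card_le_finrank
      rw [Fintype.card_prod, Fintype.card_fin, Fintype.card_fin] at h1 ⊢
      omega
    have hspan : ⊤ ≤ Submodule.span F (Set.range (bf x w)) :=
      (hli.span_eq_top_of_card_eq_finrank' hcard).ge
    refine ⟨m, Module.Basis.mk hli hspan, ?_, ?_, ?_⟩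
    · intro k
      rw [Module.Basis.mk_apply, bf_zero]
      exact hw.1 k
    · intro k
      rw [Module.Basis.mk_apply, Module.Basis.mk_apply, bf_zero, bf_one]
    · intro k l hkl i j
      rw [Module.Basis.mk_apply, Module.Basis.mk_apply]
      exact bf_ortho h2 hxQ hx2 hw (k, i) (l, j) (fun h => hkl (congrArg Prod.fst h))
  -- extend a frame step by step
  have key : ∀ (j m : ℕ) (w : Fin m → V), IsFr Q x w → finrank F V ≤ 2 * m + j →
      ∃ (d : ℕ) (b : Module.Basis (Fin d × Fin 2) F V), (∀ k, Q (b (k, 0)) = 1) ∧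
        (∀ k, b (k, 1) = x (b (k, 0))) ∧
        ∀ k l, k ≠ l → ∀ i j, QuadraticMap.polar (⇑Q) (b (k, i)) (b (l, j)) = 0 := by
    intro j
    induction j with
    | zero => intro m w hw hle; exact base m w hw (by omega)
    | succ j ih =>
      intro m w hw hle
      by_cases hle' : finrank F V ≤ 2 * m
      · exact base m w hw hle'
      · obtain ⟨v, hv, hvT⟩ := exists_ext hodd hQ hxQ hx2 hw (by omega)
        exact ih (m + 1) (Fin.cons v w) (isFr_cons hxQ hx2 hw v hv hvT) (by omega)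
  exact key (finrank F V) 0 Fin.elim0 ⟨fun k => k.elim0, fun k => k.elim0⟩ (by omega)

end Cfsg.Agent.Lib.Helper67.OQF
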