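import Mathlib
import Cfsg.Agent.Lib.Helper15.BG142Defs2
import Cfsg.Agent.Lib.Helper31.BG12a
import Cfsg.Agent.S0023
import Cfsg.Agent.Lib.Helper13.BG12B
import Cfsg.Agent.Lib.Helper71.BG11a
import Cfsg.Agent.Lib.Helper55.SylowIn
import Cfsg.Agent.Lib.Helper55.Uniq2

/-!
# BG 14.2 pack (S1430, S1431; architect helper15): keystone 143034 K-U3 `KS.sylow_not_comm`

For a prime `q ∉ β(M)` the Sylow `q`-subgroups of `Mσ` are nonabelian (given the leaves 143010, 143032,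
143033 as hypotheses).
-/

set_option autoImplicit false

namespace Cfsg.Agent.Lib.Helper67.BG142

open Cfsg Cfsg.Agent.Lib.Helper55 Cfsg.Agent.Lib.Helper31.BG134 Cfsg.Agent.Lib.Helper15.BG139
  Cfsg.Agent.Lib.Helper15.BG142

variable {G : Type*} [Group G] [Finite G]

/-- KEYSTONE 143034  K-U3 -/
theorem KS.sylow_not_comm (hG : IsMinSimpleOddOrder G) {M K E S : Subgroup G} (hM : IsCoatom M)
    (ks : KS M K E) {q : ℕ} [Fact q.Prime] (hq : q ∣ Nat.card ↥(KStar M K)) (hqβ : q ∉ beta M)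
    (hS : IsSylowIn q (sigmaCore M) S)
    (hder : ∀ S₁ : Subgroup G, IsPGroup q S₁ → S₁ ≤ sigmaCore M →
      E ≤ Subgroup.normalizer (S₁ : Set G) → ⁅E, E⁆ ≤ Subgroup.centralizer (S₁ : Set G))
    (hU1 : ∀ S₁ : Subgroup G, IsSylowIn q (sigmaCore M) S₁ → IsMulCommutative S₁ →
      S₁ ⊓ Subgroup.centralizer (E : Set G) = ⊥)
    (hU2 : ∀ S₁ : Subgroup G, IsSylowIn q (sigmaCore M) S₁ →
      K ≤ Subgroup.normalizer (S₁ : Set G) → S₁ ⊓ Subgroup.centralizer (K : Set G) ≠ ⊥) :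
    ¬ IsMulCommutative S := by
  intro hSc
  have hE := ks.hE
  have hEM : E ≤ M := hE.1
  have hEtop : E ≠ ⊤ := fun h => hM.1 (top_le_iff.mp (h ▸ hEM))
  have hsolv : Group.IsSolvable ↥E := ms_solvable hG hEtop
  have hHall := (Cfsg.Agent.S1350.result hG M hM).1
  have hEσ := Cfsg.Agent.Lib.Helper13.BG12.complIn_prime_not_mem_sigma hHall hE
  have hcop : (Nat.card E).Coprime (Nat.card (sigmaCore M)) :=
    Nat.coprime_of_dvd (fun r hr hrE hrσ =>
      hEσ r hr hrE (Cfsg.Agent.Lib.Helper71.BG11.sigmaCore_pi hG hM hr hrσ))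
  have hEN : E ≤ Subgroup.normalizer (sigmaCore M : Set G) :=
    hEM.trans (Cfsg.Agent.Lib.Helper71.BG11.le_normalizer_sigmaCore M)
  obtain ⟨P, hP⟩ := Cfsg.Agent.S0023.result E (sigmaCore M) hEN hcop (Or.inl hsolv) q
  obtain ⟨S₁, hS₁eq⟩ : ∃ S₁ : Subgroup G,
      S₁ = (P : Subgroup (sigmaCore M)).map (sigmaCore M).subtype := ⟨_, rfl⟩
  rw [← hS₁eq] at hP
  have hS₁ : IsSylowIn q (sigmaCore M) S₁ := by
    rw [hS₁eq]; exact isSylowIn_of_sylow P
  obtain ⟨a, _, haS⟩ := hS.exists_conj hS₁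
  have hS₁c : IsMulCommutative S₁ := by
    rw [← haS]
    have _ := hSc
    infer_instance
  have h1 := hU1 S₁ hS₁ hS₁c
  have h2 := hder S₁ hS₁.2.1 hS₁.1 hP
  have hKN : K ≤ Subgroup.normalizer (S₁ : Set G) := ks.hKE.trans hP
  apply hU2 S₁ hS₁ hKN
  rw [eq_bot_iff]
  intro z hz
  obtain ⟨hzS, hzK⟩ := Subgroup.mem_inf.1 hz
  rw [← h1]
  refine Subgroup.mem_inf.2 ⟨hzS, ?_⟩
  rw [Subgroup.mem_centralizer_iff]
  intro x hx
  obtain ⟨a', ha', k, hk, rfl⟩ := ks.hfac x hx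
  have e1 : z * a' = a' * z := (Subgroup.mem_centralizer_iff.1 (h2 ha')) z hzS
  have e2 : k * z = z * k := (Subgroup.mem_centralizer_iff.1 hzK) k hk
  calc a' * k * z = a' * (k * z) := by rw [mul_assoc]
    _ = a' * (z * k) := by rw [e2]
    _ = (a' * z) * k := by rw [mul_assoc]
    _ = (z * a') * k := by rw [e1]
    _ = z * (a' * k) := by rw [mul_assoc]

end Cfsg.Agent.Lib.Helper67.BG142
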