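import Cfsg.Agent.Lib.Helper28.FStar
import Cfsg.Agent.Lib.Helper42.Components

set_option autoImplicit false

namespace Cfsg.Agent.Lib.Helper67

open scoped commutatorElement

variable {G : Type*} [Group G]

/-- `O_p(M)` as a subgroup of the ambient group. -/
noncomputable def opIn (p : ℕ) (M : Subgroup G) : Subgroup G := (Cfsg.pCore p ↥M).map M.subtype

/-- `F*(M)` as a subgroup of the ambient group. -/
noncomputable def fsIn (M : Subgroup G) : Subgroup G :=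
  (Cfsg.generalizedFittingSubgroup ↥M).map M.subtype

/-- `E(M)` as a subgroup of the ambient group. -/
noncomputable def layerIn (M : Subgroup G) : Subgroup G := (Cfsg.layer ↥M).map M.subtype

theorem map_subtype_le_normalizer (M : Subgroup G) (N : Subgroup ↥M) [hN : N.Normal] :
    M ≤ Subgroup.normalizer ((N.map M.subtype : Subgroup G) : Set G) := by
  have h1 := Subgroup.le_normalizer_map (H := N) M.subtype
  have h2 : Subgroup.normalizer (N : Set ↥M) = ⊤ := Subgroup.normalizer_eq_top_iff.mpr hN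
  rw [h2, ← MonoidHom.range_eq_map, Subgroup.range_subtype] at h1
  exact h1

theorem opIn_le (p : ℕ) (M : Subgroup G) : opIn p M ≤ M := Subgroup.map_subtype_le _

theorem fsIn_le (M : Subgroup G) : fsIn M ≤ M := Subgroup.map_subtype_le _

theorem layerIn_le (M : Subgroup G) : layerIn M ≤ M := Subgroup.map_subtype_le _

theorem opIn_normalizer (p : ℕ) (M : Subgroup G) :
    M ≤ Subgroup.normalizer ((opIn p M : Subgroup G) : Set G) := by
  have : (Cfsg.pCore p ↥M).Normal := Cfsg.Agent.Lib.Helper76.pCore_normal p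
  exact map_subtype_le_normalizer M _

theorem fsIn_normalizer (M : Subgroup G) :
    M ≤ Subgroup.normalizer ((fsIn M : Subgroup G) : Set G) :=
  map_subtype_le_normalizer M _

theorem layerIn_normalizer (M : Subgroup G) :
    M ≤ Subgroup.normalizer ((layerIn M : Subgroup G) : Set G) :=
  map_subtype_le_normalizer M _

theorem opIn_isPGroup (p : ℕ) (M : Subgroup G) : IsPGroup p ↥(opIn p M) :=
  (Cfsg.Agent.Lib.Helper76.pCore_isPGroup (G := ↥M) p).map _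

theorem le_opIn {p : ℕ} {M N : Subgroup G} (hNM : N ≤ M)
    (hn : M ≤ Subgroup.normalizer (N : Set G)) (hp : IsPGroup p ↥N) : N ≤ opIn p M := by
  have : (N.subgroupOf M).Normal := (Subgroup.normal_subgroupOf_iff_le_normalizer hNM).mpr hn
  have h1 : IsPGroup p ↥(N.subgroupOf M) :=
    hp.of_equiv (Subgroup.subgroupOfEquivOfLe hNM).symm
  have h2 : N.subgroupOf M ≤ Cfsg.pCore p ↥M := Cfsg.Agent.Lib.Helper76.le_pCore inferInstance h1
  have h3 := Subgroup.map_mono (f := M.subtype) h2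
  rwa [Subgroup.map_subgroupOf_eq_of_le hNM] at h3

/-- `C_M(F*(M)) ≤ F*(M)`, elementwise in the ambient group. -/
theorem mem_fsIn_of_commute [Finite G] {M : Subgroup G} {x : G} (hx : x ∈ M)
    (hc : ∀ y ∈ fsIn M, Commute x y) : x ∈ fsIn M := by
  have h1 : (⟨x, hx⟩ : ↥M) ∈ Subgroup.centralizer
      (Cfsg.generalizedFittingSubgroup ↥M : Set ↥M) := by
    rw [Subgroup.mem_centralizer_iff]
    intro y hy
    have := hc (y : G) ⟨y, hy, rfl⟩
    exact Subtype.ext this.eq.symm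
  exact ⟨⟨x, hx⟩, Cfsg.Agent.Lib.Helper28.centralizer_genFitting_le h1, rfl⟩

/-- Bender, step 1: if `F*(M₁) ≤ M₂` and `F*(M₂) ≤ M₁` then `E(M₁) ≤ E(M₂)`. -/
theorem layerIn_le_layerIn [Finite G] (M₁ M₂ : Subgroup G) (h₁ : fsIn M₁ ≤ M₂)
    (h₂ : fsIn M₂ ≤ M₁) : layerIn M₁ ≤ layerIn M₂ := by
  unfold layerIn
  rw [Subgroup.map_le_iff_le_comap]
  unfold Cfsg.layer
  apply sSup_le
  intro K hK
  have hK' : Cfsg.IsComponent K := hK
  intro x hxK
  rw [Subgroup.mem_comap]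
  -- L = K viewed in G
  have hLF : K.map M₁.subtype ≤ fsIn M₁ :=
    Subgroup.map_mono ((Cfsg.Agent.Lib.Helper30.component_le_layer hK').trans
      Cfsg.Agent.Lib.Helper30.layer_le_genFitting)
  have hL1 : K.map M₁.subtype ≤ M₁ := Subgroup.map_subtype_le _
  have hL2 : K.map M₁.subtype ≤ M₂ := hLF.trans h₁
  have hLD : K.map M₁.subtype ≤ M₁ ⊓ M₂ := le_inf hL1 hL2
  have hFD : fsIn M₂ ≤ M₁ ⊓ M₂ := le_inf h₂ (fsIn_le M₂)
  -- L is a component of D
  have hcompD : Cfsg.IsComponent ((K.map M₁.subtype).subgroupOf (M₁ ⊓ M₂)) := by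
    refine ⟨?_, ?_⟩
    · have h1 : (K.comap (Subgroup.inclusion (inf_le_left : M₁ ⊓ M₂ ≤ M₁))).IsSubnormal :=
        hK'.1.comap _
      have h2 : K.comap (Subgroup.inclusion (inf_le_left : M₁ ⊓ M₂ ≤ M₁)) =
          (K.map M₁.subtype).subgroupOf (M₁ ⊓ M₂) := by
        ext y
        rw [Subgroup.mem_comap, Subgroup.mem_subgroupOf, Subgroup.mem_map]
        constructor
        · intro hy
          exact ⟨_, hy, rfl⟩
        · rintro ⟨z, hz, hzy⟩
          have : z = Subgroup.inclusion (inf_le_left : M₁ ⊓ M₂ ≤ M₁) y :=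
            Subtype.ext (by simpa using hzy)
          rwa [← this]
      rwa [h2] at h1
    · exact Cfsg.Agent.Lib.Helper30.isQuasisimple_of_mulEquiv
        ((K.equivMapOfInjective M₁.subtype M₁.subtype_injective).trans
          (Subgroup.subgroupOfEquivOfLe hLD).symm) hK'.2
  have hnorm : ((fsIn M₂).subgroupOf (M₁ ⊓ M₂)).Normal :=
    (Subgroup.normal_subgroupOf_iff_le_normalizer hFD).mpr
      (inf_le_right.trans (fsIn_normalizer M₂))
  have hperf : ⁅K.map M₁.subtype, K.map M₁.subtype⁆ = K.map M₁.subtype := by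
    rw [← Subgroup.map_commutator, Cfsg.Agent.Lib.Helper30.component_perfect hK']
  have hne : K.map M₁.subtype ≠ ⊥ := by
    intro h
    exact Cfsg.Agent.Lib.Helper30.component_ne_bot hK'
      ((Subgroup.map_eq_bot_iff_of_injective K M₁.subtype_injective).mp h)
  have hLF2 : K.map M₁.subtype ≤ fsIn M₂ := by
    rcases Cfsg.Agent.Lib.Helper42.component_le_or_commutator_eq_bot
      ((K.map M₁.subtype).subgroupOf (M₁ ⊓ M₂)) ((fsIn M₂).subgroupOf (M₁ ⊓ M₂)) hcompD with h | h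
    · intro a ha
      have : (⟨a, hLD ha⟩ : ↥(M₁ ⊓ M₂)) ∈ (fsIn M₂).subgroupOf (M₁ ⊓ M₂) :=
        h (Subgroup.mem_subgroupOf.mpr ha)
      exact Subgroup.mem_subgroupOf.mp this
    · exfalso
      have hcomm : ∀ a ∈ K.map M₁.subtype, ∀ b ∈ fsIn M₂, Commute a b := by
        intro a ha b hb
        have h1 : ⁅(⟨a, hLD ha⟩ : ↥(M₁ ⊓ M₂)), ⟨b, hFD hb⟩⁆ ∈
            ⁅(K.map M₁.subtype).subgroupOf (M₁ ⊓ M₂), (fsIn M₂).subgroupOf (M₁ ⊓ M₂)⁆ :=
          Subgroup.commutator_mem_commutator (Subgroup.mem_subgroupOf.mpr ha)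
            (Subgroup.mem_subgroupOf.mpr hb)
        rw [h, Subgroup.mem_bot] at h1
        have h2 : ⁅a, b⁆ = 1 := by
          have := congrArg Subtype.val h1
          simpa [commutatorElement_def] using this
        exact (commutatorElement_eq_one_iff_commute.mp h2)
      have hsub : K.map M₁.subtype ≤ fsIn M₂ :=
        fun a ha => mem_fsIn_of_commute (hL2 ha) (hcomm a ha)
      apply hne
      rw [← hperf, Subgroup.commutator_eq_bot_iff_le_centralizer]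
      intro a ha
      rw [Subgroup.mem_centralizer_iff]
      intro b hb
      exact (hcomm a ha b (hsub hb)).eq.symm
  -- L is a component of M₂
  have hcomp2 : Cfsg.IsComponent ((K.map M₁.subtype).subgroupOf M₂) := by
    refine ⟨?_, ?_⟩
    · have hle : (K.map M₁.subtype).subgroupOf M₂ ≤ Cfsg.generalizedFittingSubgroup ↥M₂ := by
        intro y hy
        have h1 : (y : G) ∈ fsIn M₂ := hLF2 (Subgroup.mem_subgroupOf.mp hy)
        obtain ⟨z, hz, hzy⟩ := h1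
        have : z = y := Subtype.ext hzy
        rwa [← this]
      have hΦ : (Cfsg.generalizedFittingSubgroup ↥M₂).IsSubnormal :=
        (Cfsg.Agent.Lib.Helper30.genFitting_normal).isSubnormal
      refine Subgroup.IsSubnormal.trans hle ?_ hΦ
      have hj : ∀ y : ↥(Cfsg.generalizedFittingSubgroup ↥M₂),
          ((M₂.subtype).comp (Cfsg.generalizedFittingSubgroup ↥M₂).subtype) y ∈ M₁ ⊓ M₂ :=
        fun y => hFD ⟨y.1, y.2, rfl⟩
      have h1 := hcompD.1.comap (MonoidHom.codRestrict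
        ((M₂.subtype).comp (Cfsg.generalizedFittingSubgroup ↥M₂).subtype) (M₁ ⊓ M₂) hj)
      have h2 : ((K.map M₁.subtype).subgroupOf (M₁ ⊓ M₂)).comap (MonoidHom.codRestrict
          ((M₂.subtype).comp (Cfsg.generalizedFittingSubgroup ↥M₂).subtype) (M₁ ⊓ M₂) hj) =
          ((K.map M₁.subtype).subgroupOf M₂).subgroupOf (Cfsg.generalizedFittingSubgroup ↥M₂) := by
        ext y
        rfl
      rwa [h2] at h1
    · exact Cfsg.Agent.Lib.Helper30.isQuasisimple_of_mulEquiv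
        ((K.equivMapOfInjective M₁.subtype M₁.subtype_injective).trans
          (Subgroup.subgroupOfEquivOfLe hL2).symm) hK'.2
  have h3 : (K.map M₁.subtype).subgroupOf M₂ ≤ Cfsg.layer ↥M₂ :=
    Cfsg.Agent.Lib.Helper30.component_le_layer hcomp2
  have h4 := Subgroup.map_mono (f := M₂.subtype) h3
  rw [Subgroup.map_subgroupOf_eq_of_le hL2] at h4
  exact h4 (Subgroup.mem_map_of_mem _ hxK)

/-- The `p`-elements of an abelian subgroup. -/
def pElems (p : ℕ) (Z : Subgroup G) (hab : ∀ a ∈ Z, ∀ b ∈ Z, Commute a b) : Subgroup G where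
  carrier := {z | z ∈ Z ∧ ∃ j : ℕ, z ^ p ^ j = 1}
  one_mem' := ⟨Z.one_mem, 0, by simp⟩
  mul_mem' := by
    rintro a b ⟨ha, i, hi⟩ ⟨hb, j, hj⟩
    refine ⟨Z.mul_mem ha hb, i + j, ?_⟩
    rw [(hab a ha b hb).mul_pow, pow_add, pow_mul, hi, one_pow, mul_comm (p ^ i), pow_mul, hj,
      one_pow, mul_one]
  inv_mem' := by
    rintro a ⟨ha, i, hi⟩
    exact ⟨Z.inv_mem ha, i, by rw [inv_pow, hi, inv_one]⟩

/-- `p`-elements of an abelian subgroup `Z ≤ M` normalized by `M` lie in `O_p(M)`. -/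
theorem mem_opIn_of_abelian {p : ℕ} {M Z : Subgroup G} (hZM : Z ≤ M)
    (hab : ∀ a ∈ Z, ∀ b ∈ Z, Commute a b) (hn : M ≤ Subgroup.normalizer (Z : Set G))
    {z : G} (hz : z ∈ Z) {j : ℕ} (hzj : z ^ p ^ j = 1) : z ∈ opIn p M := by
  have hZpM : pElems p Z hab ≤ M := fun a ha => hZM ha.1
  have hZpn : M ≤ Subgroup.normalizer (pElems p Z hab : Set G) := by
    intro m hm
    rw [Subgroup.mem_normalizer_iff]
    intro a
    have hmZ := Subgroup.mem_normalizer_iff.mp (hn hm)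
    constructor
    · rintro ⟨ha, i, hi⟩
      exact ⟨(hmZ a).mp ha, i, by rw [conj_pow, hi]; simp⟩
    · rintro ⟨ha, i, hi⟩
      refine ⟨(hmZ a).mpr ha, i, ?_⟩
      rw [conj_pow] at hi
      have : a ^ p ^ i = m⁻¹ * (m * a ^ p ^ i * m⁻¹) * m := by group
      rw [this, hi]; simp
  have hZpp : IsPGroup p ↥(pElems p Z hab) := by
    rintro ⟨a, ha, i, hi⟩
    exact ⟨i, Subtype.ext hi⟩
  exact le_opIn hZpM hZpn hZpp ⟨hz, j, hzj⟩

theorem commute_of_normalizing_disjoint {A B : Subgroup G}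
    (hAB : A ≤ Subgroup.normalizer (B : Set G)) (hBA : B ≤ Subgroup.normalizer (A : Set G))
    (hd : Disjoint A B) {a b : G} (ha : a ∈ A) (hb : b ∈ B) : Commute a b := by
  have h1 : ⁅a, b⁆ ∈ A := by
    rw [commutatorElement_def]
    have : a * b * a⁻¹ * b⁻¹ = a * (b * a⁻¹ * b⁻¹) := by group
    rw [this]
    exact A.mul_mem ha ((Subgroup.mem_normalizer_iff.mp (hBA hb) a⁻¹).mp (A.inv_mem ha))
  have h2 : ⁅a, b⁆ ∈ B := by
    rw [commutatorElement_def]
    exact B.mul_mem ((Subgroup.mem_normalizer_iff.mp (hAB ha) b).mp hb) (B.inv_mem hb)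
  have h3 : ⁅a, b⁆ ∈ A ⊓ B := ⟨h1, h2⟩
  rw [hd.eq_bot, Subgroup.mem_bot] at h3
  exact commutatorElement_eq_one_iff_commute.mp h3

theorem opIn_le_fsIn [Finite G] (p : ℕ) [Fact p.Prime] (M : Subgroup G) :
    opIn p M ≤ fsIn M :=
  Subgroup.map_mono ((Cfsg.Agent.Lib.Helper76.pCore_le_fittingSubgroup p).trans
    Cfsg.Agent.Lib.Helper30.fitting_le_genFitting)

/-- With trivial layer, centralizing every `O_q(M)` means centralizing `F*(M)`. -/
theorem commute_fsIn_of_commute_opIn [Finite G] {M : Subgroup G} (hE : Cfsg.layer ↥M = ⊥)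
    {c : G} (hc : ∀ q : ℕ, q.Prime → ∀ y ∈ opIn q M, Commute c y) :
    ∀ y ∈ fsIn M, Commute c y := by
  have h1 : Cfsg.generalizedFittingSubgroup ↥M ≤
      (Subgroup.centralizer ({c} : Set G)).subgroupOf M := by
    unfold Cfsg.generalizedFittingSubgroup
    rw [hE, bot_sup_eq, Cfsg.Agent.Lib.Helper76.fittingSubgroup_eq_pCoreJoin]
    unfold Cfsg.Agent.Lib.Helper76.pCoreJoin
    apply iSup_le
    intro q y hy
    rw [Subgroup.mem_subgroupOf, Subgroup.mem_centralizer_iff]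
    intro d hd
    rw [Set.mem_singleton_iff] at hd
    rw [hd]
    exact (hc q (Nat.prime_of_mem_primeFactors q.2) (y : G) ⟨y, hy, rfl⟩).eq
  rintro _ ⟨y, hy, rfl⟩
  have h2 := h1 hy
  rw [Subgroup.mem_subgroupOf, Subgroup.mem_centralizer_iff] at h2
  exact (h2 c rfl)

theorem commute_conj_of_commute {k y x : G} (h : Commute k (x⁻¹ * y * x)) :
    Commute (x * k * x⁻¹) y := by
  have h' : k * (x⁻¹ * y * x) = (x⁻¹ * y * x) * k := h.eq
  show (x * k * x⁻¹) * y = y * (x * k * x⁻¹)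
  calc (x * k * x⁻¹) * y = x * (k * (x⁻¹ * y * x)) * x⁻¹ := by group
    _ = x * ((x⁻¹ * y * x) * k) * x⁻¹ := by rw [h']
    _ = y * (x * k * x⁻¹) := by group

theorem conj_mem_centralizer {S : Subgroup G} {m a : G}
    (hm : m ∈ Subgroup.normalizer (S : Set G)) (ha : a ∈ Subgroup.centralizer (S : Set G)) :
    m * a * m⁻¹ ∈ Subgroup.centralizer (S : Set G) := by
  rw [Subgroup.mem_centralizer_iff]
  intro h hh
  have h1 : m⁻¹ * h * m⁻¹⁻¹ ∈ S :=
    (Subgroup.mem_normalizer_iff.mp (Subgroup.inv_mem _ hm) h).mp hh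
  rw [inv_inv] at h1
  have h2 : Commute a (m⁻¹ * h * m) :=
    ((Subgroup.mem_centralizer_iff.mp ha) _ h1).symm
  exact (commute_conj_of_commute h2).eq.symm

/-- The centre of `F*(M)` (as a subgroup of the ambient group) is normalized by `M`. -/
theorem zfs_normalizer (M : Subgroup G) :
    M ≤ Subgroup.normalizer
      ((fsIn M ⊓ Subgroup.centralizer (fsIn M : Set G) : Subgroup G) : Set G) := by
  have key : ∀ m ∈ M, ∀ a, a ∈ fsIn M ⊓ Subgroup.centralizer (fsIn M : Set G) →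
      m * a * m⁻¹ ∈ fsIn M ⊓ Subgroup.centralizer (fsIn M : Set G) := by
    intro m hm a ha
    have hmn := fsIn_normalizer M hm
    exact ⟨(Subgroup.mem_normalizer_iff.mp hmn a).mp ha.1, conj_mem_centralizer hmn ha.2⟩
  intro m hm
  rw [Subgroup.mem_normalizer_iff]
  intro a
  refine ⟨key m hm a, fun h => ?_⟩
  have := key m⁻¹ (M.inv_mem hm) _ h
  have e : m⁻¹ * (m * a * m⁻¹) * m⁻¹⁻¹ = a := by group
  rwa [e] at this

/-- Bender, key step: a `p'`-element of `C_{M₂}(O_p(M₂))` centralizes `O_p(M₁)`. -/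
theorem commute_of_coprime [Finite G] {p : ℕ} [hp : Fact p.Prime] (M₁ M₂ : Subgroup G)
    (h₁ : fsIn M₁ ≤ M₂) (h₂ : fsIn M₂ ≤ M₁) (hE₂ : Cfsg.layer ↥M₂ = ⊥)
    {x k : G} (hx : x ∈ opIn p M₁) (hk : k ∈ M₂) (hkc : ∀ y ∈ opIn p M₂, Commute k y)
    (hko : (orderOf k).Coprime p) : Commute x k := by
  classical
  have hP1M2 : opIn p M₁ ≤ M₂ := (opIn_le_fsIn p M₁).trans h₁
  have hxM2 : x ∈ M₂ := hP1M2 hx
  have ha : ∀ q : ℕ, q.Prime → q ≠ p → ∀ y ∈ opIn q M₂, Commute x y := by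
    intro q hq hqp y hy
    have : Fact q.Prime := ⟨hq⟩
    refine commute_of_normalizing_disjoint (A := opIn p M₁) (B := opIn q M₂) ?_ ?_ ?_ hx hy
    · exact hP1M2.trans (opIn_normalizer q M₂)
    · exact ((opIn_le_fsIn q M₂).trans h₂).trans (opIn_normalizer p M₁)
    · exact IsPGroup.disjoint_of_ne p q hqp.symm _ _ (opIn_isPGroup p M₁) (opIn_isPGroup q M₂)
  have hconj : ∀ q : ℕ, ∀ m ∈ M₂, ∀ y, y ∈ opIn q M₂ → m * y * m⁻¹ ∈ opIn q M₂ :=
    fun q m hm y => (Subgroup.mem_normalizer_iff.mp (opIn_normalizer q M₂ hm) y).mp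
  have hcM2 : x * k * x⁻¹ * k⁻¹ ∈ M₂ :=
    M₂.mul_mem (M₂.mul_mem (M₂.mul_mem hxM2 hk) (M₂.inv_mem hxM2)) (M₂.inv_mem hk)
  have hc_comm : ∀ q : ℕ, q.Prime → ∀ y ∈ opIn q M₂, Commute (x * k * x⁻¹ * k⁻¹) y := by
    intro q hq y hy
    by_cases hqp : q = p
    · rw [hqp] at hy
      have h1 : Commute k⁻¹ y := (hkc y hy).inv_left
      have h2 : x⁻¹ * y * x ∈ opIn p M₂ := by
        have := hconj p x⁻¹ (M₂.inv_mem hxM2) y hy
        rwa [inv_inv] at this
      exact (commute_conj_of_commute (hkc _ h2)).mul_left h1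
    · have h1 : Commute x y := ha q hq hqp y hy
      have h2 : k⁻¹ * y * k ∈ opIn q M₂ := by
        have := hconj q k⁻¹ (M₂.inv_mem hk) y hy
        rwa [inv_inv] at this
      have h3 : Commute (k * x⁻¹ * k⁻¹) y :=
        commute_conj_of_commute (ha q hq hqp _ h2).inv_left
      have e : x * k * x⁻¹ * k⁻¹ = x * (k * x⁻¹ * k⁻¹) := by group
      rw [e]
      exact h1.mul_left h3
  have hcF : ∀ y ∈ fsIn M₂, Commute (x * k * x⁻¹ * k⁻¹) y :=
    commute_fsIn_of_commute_opIn hE₂ hc_comm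
  have hcmem : x * k * x⁻¹ * k⁻¹ ∈ fsIn M₂ := mem_fsIn_of_commute hcM2 hcF
  -- the centre Z of F*(M₂)
  have hZab : ∀ a ∈ fsIn M₂ ⊓ Subgroup.centralizer (fsIn M₂ : Set G),
      ∀ b ∈ fsIn M₂ ⊓ Subgroup.centralizer (fsIn M₂ : Set G), Commute a b :=
    fun a ha b hb => ((Subgroup.mem_centralizer_iff.mp ha.2) b hb.1).symm
  have hZM : fsIn M₂ ⊓ Subgroup.centralizer (fsIn M₂ : Set G) ≤ M₂ :=
    inf_le_left.trans (fsIn_le M₂)
  have hZn := zfs_normalizer M₂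
  have hcZ : x * k * x⁻¹ * k⁻¹ ∈ fsIn M₂ ⊓ Subgroup.centralizer (fsIn M₂ : Set G) :=
    ⟨hcmem, Subgroup.mem_centralizer_iff.mpr (fun y hy => (hcF y hy).eq.symm)⟩
  -- claim 1
  have claim1 : ∀ w ∈ fsIn M₂ ⊓ Subgroup.centralizer (fsIn M₂ : Set G),
      (orderOf w).Coprime p → Commute x w := by
    intro w hw hwo
    have hu1 : x * w * x⁻¹ * w⁻¹ ∈ opIn p M₁ := by
      have hwM1 : w ∈ M₁ := h₂ hw.1
      have := (Subgroup.mem_normalizer_iff.mp (opIn_normalizer p M₁ hwM1) x⁻¹).mp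
        ((opIn p M₁).inv_mem hx)
      have e : x * w * x⁻¹ * w⁻¹ = x * (w * x⁻¹ * w⁻¹) := by group
      rw [e]
      exact (opIn p M₁).mul_mem hx this
    have hxwx : x * w * x⁻¹ ∈ fsIn M₂ ⊓ Subgroup.centralizer (fsIn M₂ : Set G) :=
      (Subgroup.mem_normalizer_iff.mp (hZn hxM2) w).mp hw
    have hu2 : (x * w * x⁻¹ * w⁻¹) ^ orderOf w = 1 := by
      rw [(hZab _ hxwx _ (Subgroup.inv_mem _ hw)).mul_pow, conj_pow, pow_orderOf_eq_one, inv_pow,
        pow_orderOf_eq_one]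
      simp
    obtain ⟨j, hj⟩ := (opIn_isPGroup p M₁) ⟨_, hu1⟩
    have hj' : (x * w * x⁻¹ * w⁻¹) ^ p ^ j = 1 := by simpa using congrArg Subtype.val hj
    have h1 : orderOf (x * w * x⁻¹ * w⁻¹) ∣ orderOf w := orderOf_dvd_of_pow_eq_one hu2
    have h2 : orderOf (x * w * x⁻¹ * w⁻¹) ∣ p ^ j := orderOf_dvd_of_pow_eq_one hj'
    have h3 : orderOf (x * w * x⁻¹ * w⁻¹) = 1 :=
      Nat.Coprime.eq_one_of_dvd (Nat.Coprime.coprime_dvd_left h1 (hwo.pow_right j)) h2
    have h4 : x * w * x⁻¹ * w⁻¹ = 1 := orderOf_eq_one_iff.mp h3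
    show x * w = w * x
    have : x * w = (x * w * x⁻¹ * w⁻¹) * (w * x) := by group
    rw [this, h4, one_mul]
  -- z = c⁻¹
  have hzZ : (x * k * x⁻¹ * k⁻¹)⁻¹ ∈ fsIn M₂ ⊓ Subgroup.centralizer (fsIn M₂ : Set G) :=
    Subgroup.inv_mem _ hcZ
  set z := (x * k * x⁻¹ * k⁻¹)⁻¹ with hz
  have hkx : k * x * k⁻¹ = z * x := by rw [hz]; group
  obtain ⟨s, m, hm, ho⟩ := Nat.exists_eq_pow_mul_and_not_dvd (orderOf_pos z).ne' p hp.out.ne_one
  have hcopm : Nat.Coprime m p := ((Nat.Prime.coprime_iff_not_dvd hp.out).mpr hm).symm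
  have hcop : Nat.Coprime (p ^ s) m := (hcopm.symm).pow_left s
  obtain ⟨u, v, huv⟩ := Nat.isCoprime_iff_coprime.mpr hcop
  have hzo : z ^ ((p ^ s * m : ℕ) : ℤ) = 1 := by
    rw [zpow_natCast, ← ho, pow_orderOf_eq_one]
  have hz_eq : z = z ^ (u * ((p ^ s : ℕ) : ℤ)) * z ^ (v * (m : ℤ)) := by
    rw [← zpow_add, huv, zpow_one]
  have hw_m : (z ^ (u * ((p ^ s : ℕ) : ℤ))) ^ m = 1 := by
    rw [← zpow_natCast, ← zpow_mul, mul_assoc, mul_comm, zpow_mul]
    have : ((p ^ s : ℕ) : ℤ) * (m : ℤ) = ((p ^ s * m : ℕ) : ℤ) := by push_cast; ring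
    rw [this, hzo, one_zpow]
  have hzp_ps : (z ^ (v * (m : ℤ))) ^ p ^ s = 1 := by
    rw [← zpow_natCast, ← zpow_mul, mul_assoc, mul_comm, zpow_mul]
    have : (m : ℤ) * ((p ^ s : ℕ) : ℤ) = ((p ^ s * m : ℕ) : ℤ) := by push_cast; ring
    rw [this, hzo, one_zpow]
  obtain ⟨w, zp, hz_eq, hw_m, hzp_ps, hwZ, hzpZ, hwzp⟩ : ∃ w zp : G, z = w * zp ∧ w ^ m = 1 ∧
      zp ^ p ^ s = 1 ∧ w ∈ fsIn M₂ ⊓ Subgroup.centralizer (fsIn M₂ : Set G) ∧
      zp ∈ fsIn M₂ ⊓ Subgroup.centralizer (fsIn M₂ : Set G) ∧ Commute w zp :=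
    ⟨_, _, hz_eq, hw_m, hzp_ps, Subgroup.zpow_mem _ hzZ _, Subgroup.zpow_mem _ hzZ _,
      (Commute.refl z).zpow_zpow _ _⟩
  have hwo : (orderOf w).Coprime p :=
    Nat.Coprime.coprime_dvd_left (orderOf_dvd_of_pow_eq_one hw_m) hcopm
  have hxw : Commute x w := claim1 _ hwZ hwo
  -- g = zp * x is a p-element
  obtain ⟨j, hgj⟩ : ∃ j, (zp * x) ^ p ^ j = 1 := by
    have h1 : IsPGroup p ↥(Subgroup.zpowers zp) := by
      rintro ⟨y, hy⟩
      obtain ⟨n, rfl⟩ := Subgroup.mem_zpowers_iff.mp hy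
      refine ⟨s, Subtype.ext ?_⟩
      show (zp ^ n) ^ p ^ s = 1
      rw [← zpow_natCast, ← zpow_mul, mul_comm, zpow_mul, zpow_natCast, hzp_ps, one_zpow]
    have h2 : Subgroup.zpowers zp ≤ Subgroup.normalizer (opIn p M₁ : Set G) :=
      Subgroup.zpowers_le.mpr (opIn_normalizer p M₁ (h₂ hzpZ.1))
    have h3 := IsPGroup.to_sup_of_normal_right' h1 (opIn_isPGroup p M₁) h2
    have h4 : zp * x ∈ Subgroup.zpowers zp ⊔ opIn p M₁ :=
      Subgroup.mul_mem _ (Subgroup.mem_sup_left (Subgroup.mem_zpowers _))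
        (Subgroup.mem_sup_right hx)
    obtain ⟨j, hj⟩ := h3 ⟨_, h4⟩
    exact ⟨j, by simpa using congrArg Subtype.val hj⟩
  obtain ⟨i, hxi⟩ : ∃ i, x ^ p ^ i = 1 := by
    obtain ⟨i, hi⟩ := (opIn_isPGroup p M₁) ⟨x, hx⟩
    exact ⟨i, by simpa using congrArg Subtype.val hi⟩
  have hx' : k * x * k⁻¹ = w * (zp * x) := by
    rw [← mul_assoc, ← hz_eq, hkx]
  have hwg : Commute w (zp * x) := hwzp.mul_right hxw.symm
  have h5 : (k * x * k⁻¹) ^ p ^ (i + j) = 1 := by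
    rw [conj_pow, pow_add, pow_mul, hxi, one_pow]; simp
  have h6 : (zp * x) ^ p ^ (i + j) = 1 := by
    rw [pow_add, mul_comm (p ^ i), pow_mul, hgj, one_pow]
  have h7 : w ^ p ^ (i + j) = 1 := by
    have := hwg.mul_pow (p ^ (i + j))
    rw [← hx', h5, h6, mul_one] at this
    exact this.symm
  have hw1 : w = 1 := by
    rw [← orderOf_eq_one_iff]
    exact Nat.Coprime.eq_one_of_dvd (hwo.pow_right (i + j)) (orderOf_dvd_of_pow_eq_one h7)
  have hz_p : z ^ p ^ s = 1 := by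
    rw [hz_eq, hw1, one_mul]; exact hzp_ps
  have hzP2 : z ∈ opIn p M₂ := mem_opIn_of_abelian hZM hZab hZn hzZ hz_p
  have hkz : Commute k z := hkc z hzP2
  have hpow : ∀ n : ℕ, k ^ n * x * (k ^ n)⁻¹ = z ^ n * x := by
    intro n
    induction n with
    | zero => simp
    | succ n ih =>
      have hkzn : k * z ^ n * k⁻¹ = z ^ n := by
        rw [(hkz.pow_right n).eq, mul_inv_cancel_right]
      calc k ^ (n + 1) * x * (k ^ (n + 1))⁻¹ = k * (k ^ n * x * (k ^ n)⁻¹) * k⁻¹ := by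
            rw [pow_succ']; group
        _ = k * (z ^ n * x) * k⁻¹ := by rw [ih]
        _ = (k * z ^ n * k⁻¹) * (k * x * k⁻¹) := by group
        _ = z ^ n * (z * x) := by rw [hkzn, hkx]
        _ = z ^ (n + 1) * x := by rw [pow_succ, mul_assoc]
  have h8 := hpow (orderOf k)
  rw [pow_orderOf_eq_one, one_mul, inv_one, mul_one] at h8
  have h9 : z ^ orderOf k = 1 := by
    have : z ^ orderOf k * x = 1 * x := by rw [one_mul]; exact h8.symm
    exact mul_right_cancel this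
  have hz1 : z = 1 := by
    rw [← orderOf_eq_one_iff]
    exact Nat.Coprime.eq_one_of_dvd
      (Nat.Coprime.coprime_dvd_left (orderOf_dvd_of_pow_eq_one h9) (hko.pow_right s))
      (orderOf_dvd_of_pow_eq_one hz_p)
  rw [hz1, one_mul] at hkx
  show x * k = k * x
  have : k * x = (k * x * k⁻¹) * k := by group
  rw [this, hkx]

/-- `x ∈ O_p(M₁)` commutes with `O_q(M₂)` for `q ≠ p` when both lie in `M₁ ⊓ M₂`. -/
theorem commute_opIn_of_ne [Finite G] {p q : ℕ} [Fact p.Prime] [Fact q.Prime] (hqp : q ≠ p)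
    (M₁ M₂ : Subgroup G) (h₁ : fsIn M₁ ≤ M₂) (h₂ : fsIn M₂ ≤ M₁) {x y : G}
    (hx : x ∈ opIn p M₁) (hy : y ∈ opIn q M₂) : Commute x y := by
  refine commute_of_normalizing_disjoint (A := opIn p M₁) (B := opIn q M₂) ?_ ?_ ?_ hx hy
  · exact ((opIn_le_fsIn p M₁).trans h₁).trans (opIn_normalizer q M₂)
  · exact ((opIn_le_fsIn q M₂).trans h₂).trans (opIn_normalizer p M₁)
  · exact IsPGroup.disjoint_of_ne p q hqp.symm _ _ (opIn_isPGroup p M₁) (opIn_isPGroup q M₂)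

theorem eq_bot_of_fsIn_eq_bot [Finite G] {M : Subgroup G} (h : fsIn M = ⊥) : M = ⊥ := by
  rw [eq_bot_iff]
  intro x hx
  have : x ∈ fsIn M := mem_fsIn_of_commute hx (fun y hy => by
    rw [h, Subgroup.mem_bot] at hy
    rw [hy]
    exact Commute.one_right x)
  rwa [h] at this

theorem fsIn_eq_bot_of_opIn_eq_bot [Finite G] {M : Subgroup G} (hE : Cfsg.layer ↥M = ⊥)
    (h : ∀ q : ℕ, q.Prime → opIn q M = ⊥) : fsIn M = ⊥ := by
  unfold fsIn Cfsg.generalizedFittingSubgroup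
  rw [hE, bot_sup_eq, Cfsg.Agent.Lib.Helper76.fittingSubgroup_eq_pCoreJoin]
  unfold Cfsg.Agent.Lib.Helper76.pCoreJoin
  rw [Subgroup.map_eq_bot_iff_of_injective _ M.subtype_injective, iSup_eq_bot]
  intro q
  exact (Subgroup.map_eq_bot_iff_of_injective _ M.subtype_injective).mp
    (h q (Nat.prime_of_mem_primeFactors q.2))

/-- The subgroup generated by the `p'`-elements of `C_M(O_p(M))`. -/
noncomputable def resid (p : ℕ) (M : Subgroup G) : Subgroup G :=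
  Subgroup.closure {k | k ∈ M ∧ (∀ y ∈ opIn p M, Commute k y) ∧ (orderOf k).Coprime p}

theorem resid_le (p : ℕ) (M : Subgroup G) : resid p M ≤ M := by
  unfold resid
  rw [Subgroup.closure_le]
  exact fun k hk => hk.1

theorem resid_normalizer (p : ℕ) (M : Subgroup G) :
    M ≤ Subgroup.normalizer (resid p M : Set G) := by
  have key : ∀ m ∈ M, ∀ a ∈ resid p M, m * a * m⁻¹ ∈ resid p M := by
    intro m hm a ha
    have h1 : (resid p M).map (MulAut.conj m).toMonoidHom ≤ resid p M := by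
      unfold resid
      rw [MonoidHom.map_closure, Subgroup.closure_le]
      rintro _ ⟨k, ⟨hkM, hkc, hko⟩, rfl⟩
      apply Subgroup.subset_closure
      refine ⟨?_, ?_, ?_⟩
      · show m * k * m⁻¹ ∈ M
        exact M.mul_mem (M.mul_mem hm hkM) (M.inv_mem hm)
      · intro y hy
        show Commute (m * k * m⁻¹) y
        apply commute_conj_of_commute
        apply hkc
        have := (Subgroup.mem_normalizer_iff.mp (opIn_normalizer p M (M.inv_mem hm)) y).mp hy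
        rwa [inv_inv] at this
      · show (orderOf (m * k * m⁻¹)).Coprime p
        have : orderOf (m * k * m⁻¹) = orderOf k := (MulAut.conj m).orderOf_eq k
        rwa [this]
    exact h1 ⟨a, ha, rfl⟩
  intro m hm
  rw [Subgroup.mem_normalizer_iff]
  intro a
  refine ⟨key m hm a, fun h => ?_⟩
  have := key m⁻¹ (M.inv_mem hm) _ h
  have e : m⁻¹ * (m * a * m⁻¹) * m⁻¹⁻¹ = a := by group
  rwa [e] at this

/-- If the `p'`-residual part is trivial then `C_M(O_p(M)) ≤ O_p(M)`. -/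
theorem mem_opIn_of_resid_eq_bot [Finite G] {p : ℕ} [hp : Fact p.Prime] {M : Subgroup G}
    (h : resid p M = ⊥) {k : G} (hk : k ∈ M) (hkc : ∀ y ∈ opIn p M, Commute k y) :
    k ∈ opIn p M := by
  have hC : M ⊓ Subgroup.centralizer (opIn p M : Set G) ≤ M := inf_le_left
  have hn : M ≤ Subgroup.normalizer
      ((M ⊓ Subgroup.centralizer (opIn p M : Set G) : Subgroup G) : Set G) := by
    have key : ∀ m ∈ M, ∀ a ∈ M ⊓ Subgroup.centralizer (opIn p M : Set G),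
        m * a * m⁻¹ ∈ M ⊓ Subgroup.centralizer (opIn p M : Set G) := by
      intro m hm a ha
      exact ⟨M.mul_mem (M.mul_mem hm ha.1) (M.inv_mem hm),
        conj_mem_centralizer (opIn_normalizer p M hm) ha.2⟩
    intro m hm
    rw [Subgroup.mem_normalizer_iff]
    intro a
    refine ⟨key m hm a, fun h => ?_⟩
    have := key m⁻¹ (M.inv_mem hm) _ h
    have e : m⁻¹ * (m * a * m⁻¹) * m⁻¹⁻¹ = a := by group
    rwa [e] at this
  have hpg : IsPGroup p ↥(M ⊓ Subgroup.centralizer (opIn p M : Set G) : Subgroup G) := by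
    rintro ⟨a, haM, hac⟩
    obtain ⟨s, m, hm, ho⟩ := Nat.exists_eq_pow_mul_and_not_dvd (orderOf_pos a).ne' p
      hp.out.ne_one
    refine ⟨s, Subtype.ext ?_⟩
    show a ^ p ^ s = 1
    have hcopm : Nat.Coprime m p := ((Nat.Prime.coprime_iff_not_dvd hp.out).mpr hm).symm
    have h1 : (a ^ p ^ s) ^ m = 1 := by
      rw [← pow_mul, ← ho, pow_orderOf_eq_one]
    have h2 : a ^ p ^ s ∈ resid p M := by
      apply Subgroup.subset_closure
      refine ⟨M.pow_mem haM _, ?_, ?_⟩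
      · intro y hy
        have : Commute a y := ((Subgroup.mem_centralizer_iff.mp hac) y hy).symm
        exact this.pow_left _
      · exact Nat.Coprime.coprime_dvd_left (orderOf_dvd_of_pow_eq_one h1) hcopm
    rwa [h, Subgroup.mem_bot] at h2
  exact le_opIn hC hn hpg
    ⟨hk, Subgroup.mem_centralizer_iff.mpr (fun y hy => (hkc y hy).eq.symm)⟩

/-- One half of the comparison of residuals. -/
theorem resid_le_resid [Finite G] {p : ℕ} [hp : Fact p.Prime] (M₁ M₂ : Subgroup G)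
    (hP : ∀ A : Subgroup G, A ≠ ⊥ → A ≤ M₁ ⊓ M₂ →
      (M₁ ≤ Subgroup.normalizer (A : Set G) → M₂ ⊓ Subgroup.normalizer (A : Set G) = M₁ ⊓ M₂))
    (h₁ : fsIn M₁ ≤ M₂) (h₂ : fsIn M₂ ≤ M₁) (hE₂ : Cfsg.layer ↥M₂ = ⊥)
    (hP₁ : opIn p M₁ ≠ ⊥) : resid p M₂ ≤ resid p M₁ := by
  have hcent : resid p M₂ ≤ Subgroup.centralizer (opIn p M₁ : Set G) := by
    unfold resid
    rw [Subgroup.closure_le]
    rintro k ⟨hkM, hkc, hko⟩
    rw [SetLike.mem_coe, Subgroup.mem_centralizer_iff]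
    intro x hx
    exact (commute_of_coprime M₁ M₂ h₁ h₂ hE₂ hx hkM hkc hko).eq
  have hP1D : opIn p M₁ ≤ M₁ ⊓ M₂ := le_inf (opIn_le p M₁) ((opIn_le_fsIn p M₁).trans h₁)
  have hD : M₂ ⊓ Subgroup.normalizer (opIn p M₁ : Set G) = M₁ ⊓ M₂ :=
    hP _ hP₁ hP1D (opIn_normalizer p M₁)
  have hle : resid p M₂ ≤ M₁ ⊓ M₂ := by
    rw [← hD]
    exact le_inf (resid_le p M₂) (hcent.trans (Subgroup.centralizer_le_normalizer _))
  unfold resid
  rw [Subgroup.closure_le]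
  rintro k ⟨hkM, hkc, hko⟩
  have hkres : k ∈ resid p M₂ := Subgroup.subset_closure ⟨hkM, hkc, hko⟩
  apply Subgroup.subset_closure
  refine ⟨(hle hkres).1, ?_, hko⟩
  intro y hy
  exact ((Subgroup.mem_centralizer_iff.mp (hcent hkres)) y hy).symm

/-- Bender's theorem on primitive pairs, internal form. -/
theorem bender [Finite G] (M₁ M₂ : Subgroup G) (hne : M₁ ≠ M₂)
    (hP : ∀ A : Subgroup G, A ≠ ⊥ → A ≤ M₁ ⊓ M₂ →
      (M₁ ≤ Subgroup.normalizer (A : Set G) → M₂ ⊓ Subgroup.normalizer (A : Set G) = M₁ ⊓ M₂) ∧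
      (M₂ ≤ Subgroup.normalizer (A : Set G) → M₁ ⊓ Subgroup.normalizer (A : Set G) = M₁ ⊓ M₂))
    (h₁ : fsIn M₁ ≤ M₂) (h₂ : fsIn M₂ ≤ M₁) :
    ∃ p : ℕ, p.Prime ∧
      (∀ k ∈ M₁, (∀ y ∈ opIn p M₁, Commute k y) → k ∈ opIn p M₁) ∧
      (∀ k ∈ M₂, (∀ y ∈ opIn p M₂, Commute k y) → k ∈ opIn p M₂) ∧
      opIn p M₁ ⊔ opIn p M₂ ≤ M₁ ⊓ M₂ := by
  classical
  -- a common normal subgroup is trivial
  have hcommon : ∀ A : Subgroup G, A ≤ M₁ ⊓ M₂ → M₁ ≤ Subgroup.normalizer (A : Set G) →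
      M₂ ≤ Subgroup.normalizer (A : Set G) → A = ⊥ := by
    intro A hA hn1 hn2
    by_contra hAne
    obtain ⟨hA1, hA2⟩ := hP A hAne hA
    have e1 : M₂ = M₁ ⊓ M₂ := by rw [← hA1 hn1]; exact (inf_eq_left.mpr hn2).symm
    have e2 : M₁ = M₁ ⊓ M₂ := by rw [← hA2 hn2]; exact (inf_eq_left.mpr hn1).symm
    exact hne (e2.trans e1.symm)
  -- layers are trivial
  have hE : layerIn M₁ = layerIn M₂ :=
    le_antisymm (layerIn_le_layerIn M₁ M₂ h₁ h₂) (layerIn_le_layerIn M₂ M₁ h₂ h₁)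
  have hEle : layerIn M₁ ≤ M₁ ⊓ M₂ := le_inf (layerIn_le M₁) (hE ▸ layerIn_le M₂)
  have hE1bot : layerIn M₁ = ⊥ :=
    hcommon _ hEle (layerIn_normalizer M₁) (hE ▸ layerIn_normalizer M₂)
  have hE2bot : layerIn M₂ = ⊥ := hE ▸ hE1bot
  have hE₁ : Cfsg.layer ↥M₁ = ⊥ :=
    (Subgroup.map_eq_bot_iff_of_injective _ M₁.subtype_injective).mp hE1bot
  have hE₂ : Cfsg.layer ↥M₂ = ⊥ :=
    (Subgroup.map_eq_bot_iff_of_injective _ M₂.subtype_injective).mp hE2bot
  -- a prime with O_p(M₁) ≠ 1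
  obtain ⟨p, hp, hP₁⟩ : ∃ p : ℕ, p.Prime ∧ opIn p M₁ ≠ ⊥ := by
    by_contra hno
    push Not at hno
    have hF1 : fsIn M₁ = ⊥ := fsIn_eq_bot_of_opIn_eq_bot hE₁ hno
    have hM1 : M₁ = ⊥ := eq_bot_of_fsIn_eq_bot hF1
    have hF2 : fsIn M₂ = ⊥ := by
      rw [eq_bot_iff, ← hM1]; exact h₂
    have hM2 : M₂ = ⊥ := eq_bot_of_fsIn_eq_bot hF2
    exact hne (hM1.trans hM2.symm)
  have : Fact p.Prime := ⟨hp⟩
  -- O_p(M₂) ≠ 1
  have hnb : ∀ (N₁ N₂ : Subgroup G), fsIn N₁ ≤ N₂ → fsIn N₂ ≤ N₁ → Cfsg.layer ↥N₂ = ⊥ →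
      opIn p N₁ ≠ ⊥ → opIn p N₂ ≠ ⊥ := by
    intro N₁ N₂ g₁ g₂ gE hN₁ hbot
    apply hN₁
    rw [eq_bot_iff]
    intro x hx
    have hxN2 : x ∈ N₂ := ((opIn_le_fsIn p N₁).trans g₁) hx
    have hcomm : ∀ q : ℕ, q.Prime → ∀ y ∈ opIn q N₂, Commute x y := by
      intro q hq y hy
      by_cases hqp : q = p
      · rw [hqp, hbot, Subgroup.mem_bot] at hy
        rw [hy]; exact Commute.one_right x
      · have : Fact q.Prime := ⟨hq⟩
        exact commute_opIn_of_ne hqp N₁ N₂ g₁ g₂ hx hy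
    have hxF : ∀ y ∈ fsIn N₂, Commute x y := commute_fsIn_of_commute_opIn gE hcomm
    have hxmem : x ∈ fsIn N₂ := mem_fsIn_of_commute hxN2 hxF
    obtain ⟨i, hi⟩ := (opIn_isPGroup p N₁) ⟨x, hx⟩
    have hi' : x ^ p ^ i = 1 := by simpa using congrArg Subtype.val hi
    have hZab : ∀ a ∈ fsIn N₂ ⊓ Subgroup.centralizer (fsIn N₂ : Set G),
        ∀ b ∈ fsIn N₂ ⊓ Subgroup.centralizer (fsIn N₂ : Set G), Commute a b :=
      fun a ha b hb => ((Subgroup.mem_centralizer_iff.mp ha.2) b hb.1).symm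
    have := mem_opIn_of_abelian (p := p) (M := N₂) (inf_le_left.trans (fsIn_le N₂)) hZab
      (zfs_normalizer N₂)
      (⟨hxmem, Subgroup.mem_centralizer_iff.mpr (fun y hy => (hxF y hy).eq.symm)⟩ :
        x ∈ fsIn N₂ ⊓ Subgroup.centralizer (fsIn N₂ : Set G)) hi'
    rwa [hbot] at this
  have hP₂ : opIn p M₂ ≠ ⊥ := hnb M₁ M₂ h₁ h₂ hE₂ hP₁
  -- residuals coincide
  have hR12 : resid p M₂ ≤ resid p M₁ :=
    resid_le_resid M₁ M₂ (fun A hA hle => (hP A hA hle).1) h₁ h₂ hE₂ hP₁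
  have hR21 : resid p M₁ ≤ resid p M₂ :=
    resid_le_resid M₂ M₁ (fun A hA hle => by
      have := (hP A hA (by rwa [inf_comm] at hle)).2
      rwa [inf_comm M₁ M₂] at this) h₂ h₁ hE₁ hP₂
  have hR : resid p M₁ = resid p M₂ := le_antisymm hR21 hR12
  have hRle : resid p M₁ ≤ M₁ ⊓ M₂ := le_inf (resid_le p M₁) (hR ▸ resid_le p M₂)
  have hR1bot : resid p M₁ = ⊥ :=
    hcommon _ hRle (resid_normalizer p M₁) (hR ▸ resid_normalizer p M₂)
  have hR2bot : resid p M₂ = ⊥ := hR ▸ hR1bot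
  refine ⟨p, hp, fun k hk hkc => mem_opIn_of_resid_eq_bot hR1bot hk hkc,
    fun k hk hkc => mem_opIn_of_resid_eq_bot hR2bot hk hkc, ?_⟩
  exact sup_le (le_inf (opIn_le p M₁) ((opIn_le_fsIn p M₁).trans h₁))
    (le_inf ((opIn_le_fsIn p M₂).trans h₂) (opIn_le p M₂))

end Cfsg.Agent.Lib.Helper67
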