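import Mathlib

/-!
# Breadth and class of a finite `p`-group (Leedham-Green, Neumann, Wiegold)
-/

set_option autoImplicit false

namespace Cfsg.Agent.Lib.Helper67

open scoped commutatorElement

section breadth

variable {G : Type*} [Group G]

/-- abbreviation: the lower central series of `G` -/
abbrev lcs (G : Type*) [Group G] (n : ℕ) : Subgroup G := (⊤ : Subgroup G).lowerCentralSeries n

/-- two-step centralizer: the elements `g` with `[γ_j, g] ≤ γ_{j+2}` -/
def twoStep (G : Type*) [Group G] (j : ℕ) : Subgroup G where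
  carrier := {g | ∀ y ∈ lcs G j, ⁅y, g⁆ ∈ lcs G (j + 2)}
  one_mem' := by
    intro y _
    rw [commutatorElement_def]
    simp
  mul_mem' := by
    intro g h hg hh y hy
    have e : ⁅y, g * h⁆ = ⁅y, g⁆ * (g * ⁅y, h⁆ * g⁻¹) := by
      simp only [commutatorElement_def]; group
    rw [e]
    exact Subgroup.mul_mem _ (hg y hy)
      ((inferInstance : (lcs G (j + 2)).Normal).conj_mem _ (hh y hy) g)
  inv_mem' := by
    intro g hg y hy
    have e : ⁅y, g⁻¹⁆ = g⁻¹ * ⁅y, g⁆⁻¹ * g⁻¹⁻¹ := by
      simp only [commutatorElement_def]; group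
    rw [e]
    exact (inferInstance : (lcs G (j + 2)).Normal).conj_mem _
      (Subgroup.inv_mem _ (hg y hy)) g⁻¹

theorem mem_twoStep {j : ℕ} {g : G} :
    g ∈ twoStep G j ↔ ∀ y ∈ lcs G j, ⁅y, g⁆ ∈ lcs G (j + 2) := Iff.rfl

theorem lcs_le_of_le_succ {j : ℕ} (h : lcs G j ≤ lcs G (j + 1)) (k : ℕ) :
    lcs G j ≤ lcs G (j + k) := by
  induction k with
  | zero => exact le_rfl
  | succ k ih =>
    refine h.trans ?_
    show ⁅lcs G j, ⊤⁆ ≤ ⁅lcs G (j + k), ⊤⁆
    exact Subgroup.commutator_mono ih le_rfl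

theorem twoStep_ne_top {j n : ℕ} (hn : lcs G n = ⊥) (hj : lcs G (j + 1) ≠ ⊥) :
    twoStep G j ≠ ⊤ := by
  intro h
  apply hj
  have h1 : lcs G (j + 1) ≤ lcs G (j + 1 + 1) := by
    show ⁅lcs G j, ⊤⁆ ≤ lcs G (j + 2)
    rw [Subgroup.commutator_le]
    intro y hy g _
    have hg : g ∈ twoStep G j := by rw [h]; trivial
    exact hg y hy
  have h2 := lcs_le_of_le_succ h1 n
  have h3 : lcs G (j + 1 + n) ≤ lcs G n :=
    Subgroup.lowerCentralSeries_antitone _ (by omega)
  rw [hn] at h3
  exact le_bot_iff.mp (h2.trans h3)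

theorem sup_centralizer_lt {j : ℕ} {g : G} (hg : g ∉ twoStep G j) :
    lcs G (j + 1) ⊔ Subgroup.centralizer ({g} : Set G) <
      lcs G j ⊔ Subgroup.centralizer ({g} : Set G) := by
  have hle : lcs G (j + 1) ⊔ Subgroup.centralizer ({g} : Set G) ≤
      lcs G j ⊔ Subgroup.centralizer ({g} : Set G) :=
    sup_le_sup_right (Subgroup.lowerCentralSeries_antitone _ (Nat.le_succ j)) _
  refine lt_of_le_of_ne hle ?_
  intro heq
  apply hg
  intro y hy
  have hy1 : y ∈ lcs G (j + 1) ⊔ Subgroup.centralizer ({g} : Set G) := by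
    rw [heq]; exact (le_sup_left : lcs G j ≤ _) hy
  have hy2 : y ∈ ((lcs G (j + 1) ⊔ Subgroup.centralizer ({g} : Set G) : Subgroup G) : Set G) := hy1
  rw [Subgroup.normal_mul] at hy2
  obtain ⟨z, hz, c, hc, rfl⟩ := Set.mem_mul.mp hy2
  have hcg : g * c = c * g := by
    have := (Subgroup.mem_centralizer_iff.mp hc) g (Set.mem_singleton g)
    exact this
  have e : ⁅z * c, g⁆ = ⁅z, g⁆ := by
    simp only [commutatorElement_def]
    calc z * c * g * (z * c)⁻¹ * g⁻¹ = z * (c * g) * c⁻¹ * z⁻¹ * g⁻¹ := by group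
      _ = z * (g * c) * c⁻¹ * z⁻¹ * g⁻¹ := by rw [hcg]
      _ = z * g * z⁻¹ * g⁻¹ := by group
  rw [e]
  exact Subgroup.commutator_mem_commutator hz (Subgroup.mem_top g)

variable [Finite G] {p : ℕ} [hp : Fact p.Prime]

theorem card_mul_le_of_lt' (hG : IsPGroup p G) {P Q : Subgroup G} (h : P < Q) :
    p * Nat.card P ≤ Nat.card Q := by
  obtain ⟨b, hb⟩ := IsPGroup.iff_card.mp (hG.to_subgroup Q)
  obtain ⟨a, ha⟩ := IsPGroup.iff_card.mp (hG.to_subgroup P)
  have hlt : Nat.card P < Nat.card Q := by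
    by_contra hcon
    push Not at hcon
    exact h.ne (Subgroup.eq_of_le_of_card_ge h.le hcon)
  rw [ha, hb] at hlt ⊢
  have hab : a < b := (Nat.pow_lt_pow_iff_right hp.out.one_lt).mp hlt
  calc p * p ^ a = p ^ (a + 1) := by ring
    _ ≤ p ^ b := Nat.pow_le_pow_right hp.out.pos hab

open Classical in
theorem chain_count (hG : IsPGroup p G) (g : G) (k : ℕ) :
    p ^ (∑ j ∈ Finset.range k, if g ∈ twoStep G j then 0 else 1) *
      Nat.card ↥(lcs G k ⊔ Subgroup.centralizer ({g} : Set G)) ≤ Nat.card G := by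
  induction k with
  | zero =>
    have : lcs G 0 ⊔ Subgroup.centralizer ({g} : Set G) = ⊤ := by
      show (⊤ : Subgroup G) ⊔ _ = ⊤
      exact top_sup_eq _
    rw [this]
    simp
  | succ k ih =>
    rw [Finset.sum_range_succ, pow_add, mul_assoc]
    refine le_trans (Nat.mul_le_mul_left _ ?_) ih
    by_cases hg : g ∈ twoStep G k
    · rw [if_pos hg, pow_zero, one_mul]
      exact Subgroup.card_le_of_le
        (sup_le_sup_right (Subgroup.lowerCentralSeries_antitone _ (Nat.le_succ k)) _)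
    · rw [if_neg hg, pow_one]
      exact card_mul_le_of_lt' hG (sup_centralizer_lt hg)

open Classical in
theorem count_le_breadth (hG : IsPGroup p G) (b : ℕ) (g : G)
    (hb : (Subgroup.centralizer ({g} : Set G)).index ≤ p ^ b) (k : ℕ) :
    (∑ j ∈ Finset.range k, if g ∈ twoStep G j then 0 else 1) ≤ b := by
  have h1 := chain_count hG g k
  have h2 : (Subgroup.centralizer ({g} : Set G)).index *
      Nat.card (Subgroup.centralizer ({g} : Set G)) = Nat.card G := Subgroup.index_mul_card _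
  have h3 : Nat.card (Subgroup.centralizer ({g} : Set G)) ≤
      Nat.card ↥(lcs G k ⊔ Subgroup.centralizer ({g} : Set G)) :=
    Subgroup.card_le_of_le le_sup_right
  have hpos : 0 < Nat.card ↥(lcs G k ⊔ Subgroup.centralizer ({g} : Set G)) := Nat.card_pos
  have h4 : p ^ (∑ j ∈ Finset.range k, if g ∈ twoStep G j then 0 else 1) *
      Nat.card ↥(lcs G k ⊔ Subgroup.centralizer ({g} : Set G)) ≤
      p ^ b * Nat.card ↥(lcs G k ⊔ Subgroup.centralizer ({g} : Set G)) := by
    calc _ ≤ Nat.card G := h1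
      _ = (Subgroup.centralizer ({g} : Set G)).index *
          Nat.card (Subgroup.centralizer ({g} : Set G)) := h2.symm
      _ ≤ p ^ b * Nat.card ↥(lcs G k ⊔ Subgroup.centralizer ({g} : Set G)) :=
          Nat.mul_le_mul hb h3
  have h5 := Nat.le_of_mul_le_mul_right h4 hpos
  exact (Nat.pow_le_pow_iff_right hp.out.one_lt).mp h5

open Classical in
theorem class_breadth_bound (hG : IsPGroup p G) (b : ℕ)
    (hb : ∀ x : G, (Subgroup.centralizer ({x} : Set G)).index ≤ p ^ b) (hb0 : b ≠ 0) (c : ℕ)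
    (hc : lcs G c = ⊥) (hmin : ∀ m < c, lcs G m ≠ ⊥) : (c - 1) * (p - 1) < b * p := by
  have hp2 := hp.out.two_le
  have hbpos : 0 < b := Nat.pos_of_ne_zero hb0
  rcases c with _ | _ | c
  · simp only [Nat.zero_sub, zero_mul]; positivity
  · simp only [Nat.sub_self, zero_mul]; positivity
  have hFin : Fintype G := Fintype.ofFinite G
  obtain ⟨q, rfl⟩ : ∃ q, p = q + 1 := ⟨p - 1, by omega⟩
  have hq : 1 ≤ q := by omega
  simp only [Nat.add_sub_cancel]
  show (c + 1) * q < b * (q + 1)
  set f : G → ℕ → ℕ := fun g j => if g ∈ twoStep G j then 0 else 1 with hf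
  set n := Nat.card G with hn
  have hnpos : 0 < n := Nat.card_pos
  -- each element contributes at most `b`, the identity contributes `0`
  have hI : ∀ g : G, ∑ j ∈ Finset.range (c + 1), f g j ≤ b := fun g =>
    count_le_breadth hG b g (hb g) (c + 1)
  have hI1 : ∑ j ∈ Finset.range (c + 1), f 1 j = 0 := by
    apply Finset.sum_eq_zero
    intro j _
    simp only [hf]
    rw [if_pos (Subgroup.one_mem _)]
  have hsum1 : ∑ g : G, ∑ j ∈ Finset.range (c + 1), f g j ≤ (n - 1) * b := by
    rw [← Finset.add_sum_erase Finset.univ _ (Finset.mem_univ (1 : G)), hI1, zero_add]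
    have h1 : ∑ g ∈ Finset.univ.erase (1 : G), ∑ j ∈ Finset.range (c + 1), f g j ≤
        (Finset.univ.erase (1 : G)).card • b :=
      Finset.sum_le_card_nsmul _ _ _ (fun g _ => hI g)
    rw [Finset.card_erase_of_mem (Finset.mem_univ _), Finset.card_univ, smul_eq_mul,
      ← Nat.card_eq_fintype_card] at h1
    exact h1
  -- each two-step centralizer is proper
  have hsum2 : ∀ j ∈ Finset.range (c + 1), (q + 1) * n ≤ (q + 1) * ∑ g : G, f g j + n := by
    intro j hj
    rw [Finset.mem_range] at hj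
    have hne : twoStep G j ≠ ⊤ := twoStep_ne_top hc (hmin (j + 1) (by omega))
    have hlt : twoStep G j < ⊤ := lt_top_iff_ne_top.mpr hne
    have h1 : (q + 1) * Nat.card (twoStep G j) ≤ Nat.card (⊤ : Subgroup G) :=
      card_mul_le_of_lt' hG hlt
    rw [Subgroup.card_top] at h1
    have h2 : ∑ g : G, f g j + Nat.card (twoStep G j) = n := by
      have h3 : Nat.card (twoStep G j) = ∑ g : G, if g ∈ twoStep G j then 1 else 0 := by
        rw [Finset.sum_boole, Nat.card_eq_fintype_card, Fintype.card_subtype]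
        simp
      rw [h3, ← Finset.sum_add_distrib]
      have h4 : ∀ g : G, f g j + (if g ∈ twoStep G j then 1 else 0) = 1 := by
        intro g
        simp only [hf]
        by_cases hg : g ∈ twoStep G j
        · rw [if_pos hg, if_pos hg]
        · rw [if_neg hg, if_neg hg]
      rw [Finset.sum_congr rfl (fun g _ => h4 g)]
      simp [hn, Nat.card_eq_fintype_card]
    calc (q + 1) * n = (q + 1) * (∑ g : G, f g j + Nat.card (twoStep G j)) := by rw [h2]
      _ = (q + 1) * ∑ g : G, f g j + (q + 1) * Nat.card (twoStep G j) := by ring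
      _ ≤ (q + 1) * ∑ g : G, f g j + n := Nat.add_le_add_left h1 _
  have hsum3 : (c + 1) * ((q + 1) * n) ≤
      (q + 1) * ∑ g : G, ∑ j ∈ Finset.range (c + 1), f g j + (c + 1) * n := by
    have h1 := Finset.sum_le_sum hsum2
    rw [Finset.sum_const, Finset.card_range, smul_eq_mul, Finset.sum_add_distrib,
      Finset.sum_const, Finset.card_range, smul_eq_mul, ← Finset.mul_sum,
      Finset.sum_comm] at h1
    exact h1
  set T := ∑ g : G, ∑ j ∈ Finset.range (c + 1), f g j with hT
  obtain ⟨m, hm⟩ : ∃ m, n = m + 1 := ⟨n - 1, by omega⟩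
  rw [hm] at hsum1 hsum3
  simp only [Nat.add_sub_cancel] at hsum1
  by_contra hcon
  push Not at hcon
  -- `(q+1) T ≥ (c+1) q (m+1)` and `T ≤ m b`, `b (q+1) ≤ (c+1) q`
  have h1 : (c + 1) * q * (m + 1) ≤ (q + 1) * T := by nlinarith
  have h2 : (q + 1) * T ≤ (q + 1) * (m * b) := Nat.mul_le_mul_left _ hsum1
  have h3 : (q + 1) * (m * b) = m * (b * (q + 1)) := by ring
  have h4 : m * (b * (q + 1)) ≤ m * ((c + 1) * q) := Nat.mul_le_mul_left _ hcon
  have h5 : 0 < (c + 1) * q := by positivity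
  nlinarith

end breadth

end Cfsg.Agent.Lib.Helper67
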