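import Mathlib
import Cfsg.Prelude.Def_Local
import Cfsg.Agent.Lib.Helper75.ClassProd
import Cfsg.Agent.Lib.Helper15.PSolv
import Cfsg.Agent.Lib.Helper01.PCore
import Cfsg.Agent.Lib.Helper01.PPrimeCore

set_option autoImplicit false
set_option linter.style.haveILetI false
set_option linter.unusedSectionVars false
set_option linter.unusedVariables false

/-!
# Spanning orbits in modular representations of `p`-soluble groups (coprime orbit sizes)
-/

namespace Cfsg.Agent.Lib.Helper67.CopOrb

open Cfsg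

universe u v w

section Basic

variable {k : Type u} {V : Type v} {H : Type w} [Field k] [AddCommGroup V] [Module k V] [Group H]

/-- the orbit of `a` -/
def orb (ρ : Representation k H V) (a : V) : Set V := {u : V | ∃ h : H, ρ h a = u}

theorem rho_mul_apply (ρ : Representation k H V) (g h : H) (v : V) :
    ρ (g * h) v = ρ g (ρ h v) := by
  rw [map_mul, Module.End.mul_apply]

theorem rho_one_apply (ρ : Representation k H V) (v : V) : ρ 1 v = v := by
  rw [map_one, Module.End.one_apply]

theorem rho_inv_apply (ρ : Representation k H V) (h : H) (v : V) : ρ h⁻¹ (ρ h v) = v := by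
  rw [← rho_mul_apply, inv_mul_cancel, rho_one_apply]

theorem rho_apply_inv (ρ : Representation k H V) (h : H) (v : V) : ρ h (ρ h⁻¹ v) = v := by
  rw [← rho_mul_apply, mul_inv_cancel, rho_one_apply]

/-- the stabilizer of `a` -/
def stab (ρ : Representation k H V) (a : V) : Subgroup H where
  carrier := {h | ρ h a = a}
  mul_mem' := by
    intro x y hx hy
    simp only [Set.mem_ofPred_eq] at *
    rw [rho_mul_apply, hy, hx]
  one_mem' := by simp
  inv_mem' := by
    intro x hx
    simp only [Set.mem_ofPred_eq] at *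
    have := rho_inv_apply ρ x a
    rw [hx] at this
    exact this

theorem mem_stab {ρ : Representation k H V} {a : V} {h : H} : h ∈ stab ρ a ↔ ρ h a = a := Iff.rfl

theorem orb_eq_range (ρ : Representation k H V) (a : V) :
    orb ρ a = Set.range (fun h : H => ρ h a) := by
  ext u; simp [orb]

theorem orb_finite [Finite H] (ρ : Representation k H V) (a : V) : (orb ρ a).Finite := by
  rw [orb_eq_range]; exact Set.finite_range _

theorem card_orb [Finite H] (ρ : Representation k H V) (a : V) :
    Nat.card (orb ρ a) = (stab ρ a).index := by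
  letI : MulAction H V := MulAction.compHom V (ρ : H →* Module.End k V)
  have h1 : orb ρ a = MulAction.orbit H a := by
    rw [orb_eq_range]; rfl
  have h2 : stab ρ a = MulAction.stabilizer H a := by
    ext h; rfl
  rw [h1, h2, MulAction.index_stabilizer, Nat.card_coe_set_eq]

theorem card_orb_dvd [Finite H] (ρ : Representation k H V) (a b : V)
    (h : stab ρ a ≤ stab ρ b) : Nat.card (orb ρ b) ∣ Nat.card (orb ρ a) := by
  rw [card_orb, card_orb]
  exact Subgroup.index_dvd_of_le h

/-- finite set of elements of a subgroup -/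
noncomputable def fs [Finite H] (K : Subgroup H) : Finset H := (Set.toFinite (K : Set H)).toFinset

@[simp] theorem mem_fs [Finite H] {K : Subgroup H} {x : H} : x ∈ fs K ↔ x ∈ K := by
  simp [fs]

theorem card_fs [Finite H] (K : Subgroup H) : (fs K).card = Nat.card K := by
  rw [fs, ← Set.ncard_eq_toFinset_card, ← Nat.card_coe_set_eq]
  rfl

/-- the trace operator of a subgroup -/
noncomputable def T [Finite H] (ρ : Representation k H V) (K : Subgroup H) : V →ₗ[k] V :=
  ∑ y ∈ fs K, ρ y

theorem T_apply [Finite H] (ρ : Representation k H V) (K : Subgroup H) (v : V) :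
    T ρ K v = ∑ y ∈ fs K, ρ y v := by
  rw [T, LinearMap.sum_apply]

theorem T_fixed [Finite H] (ρ : Representation k H V) (K : Subgroup H) (v : V)
    (hv : ∀ y ∈ K, ρ y v = v) : T ρ K v = (Nat.card K : k) • v := by
  rw [T_apply, Finset.sum_congr rfl (fun y hy => hv y (mem_fs.1 hy)), Finset.sum_const, card_fs,
    Nat.cast_smul_eq_nsmul]

theorem T_comm [Finite H] (ρ : Representation k H V) (K : Subgroup H) (g : H)
    (hg : ∀ y ∈ K, g * y * g⁻¹ ∈ K ∧ g⁻¹ * y * g ∈ K) (w : V) :
    T ρ K (ρ g w) = ρ g (T ρ K w) := by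
  rw [T_apply, T_apply, map_sum]
  refine Finset.sum_nbij' (fun y => g⁻¹ * y * g) (fun y => g * y * g⁻¹) ?_ ?_ ?_ ?_ ?_
  · intro y hy; rw [mem_fs] at hy ⊢; exact (hg y hy).2
  · intro y hy; rw [mem_fs] at hy ⊢; exact (hg y hy).1
  · intro y _; group
  · intro y _; group
  · intro y _
    rw [← rho_mul_apply, ← rho_mul_apply]
    congr 2; group

theorem T_left [Finite H] (ρ : Representation k H V) (K : Subgroup H) (n : H) (hn : n ∈ K)
    (v : V) : ρ n (T ρ K v) = T ρ K v := by
  rw [T_apply, map_sum]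
  refine Finset.sum_nbij' (fun y => n * y) (fun y => n⁻¹ * y) ?_ ?_ ?_ ?_ ?_
  · intro y hy; rw [mem_fs] at hy ⊢; exact K.mul_mem hn hy
  · intro y hy; rw [mem_fs] at hy ⊢; exact K.mul_mem (K.inv_mem hn) hy
  · intro y _; group
  · intro y _; group
  · intro y _
    rw [← rho_mul_apply]

/-- the product map `K × L → H` has all fibres over `K * L` of the same size -/
theorem card_fiber_eq [Finite H] [DecidableEq H] (K L : Subgroup H) (y₀ z₀ : H) (hy₀ : y₀ ∈ K)
    (hz₀ : z₀ ∈ L) :
    ((fs K ×ˢ fs L).filter (fun q => q.1 * q.2 = y₀ * z₀)).card =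
      ((fs K ×ˢ fs L).filter (fun q => q.1 * q.2 = 1)).card := by
  refine Finset.card_nbij' (fun q => (y₀⁻¹ * q.1, q.2 * z₀⁻¹)) (fun q => (y₀ * q.1, q.2 * z₀))
    ?_ ?_ ?_ ?_
  · intro q hq
    simp only [Finset.coe_filter, Finset.mem_product, mem_fs, Set.mem_ofPred_eq] at hq ⊢
    refine ⟨⟨K.mul_mem (K.inv_mem hy₀) hq.1.1, L.mul_mem hq.1.2 (L.inv_mem hz₀)⟩, ?_⟩
    calc y₀⁻¹ * q.1 * (q.2 * z₀⁻¹) = y₀⁻¹ * (q.1 * q.2) * z₀⁻¹ := by group
      _ = 1 := by rw [hq.2]; group
  · intro q hq
    simp only [Finset.coe_filter, Finset.mem_product, mem_fs, Set.mem_ofPred_eq] at hq ⊢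
    refine ⟨⟨K.mul_mem hy₀ hq.1.1, L.mul_mem hq.1.2 hz₀⟩, ?_⟩
    calc y₀ * q.1 * (q.2 * z₀) = y₀ * (q.1 * q.2) * z₀ := by group
      _ = y₀ * z₀ := by rw [hq.2]; group
  · intro q _
    ext <;> simp
  · intro q _
    ext <;> simp

/-- **(★')**: if `N = K L`, `v` is `L`-fixed and `T_N v = 0`, then `T_K v = 0`
(provided `|L|` is invertible). -/
theorem T_eq_zero_of_prod [Finite H] (ρ : Representation k H V) (N K L : Subgroup H)
    (hK : K ≤ N) (hL : L ≤ N) (hN : ∀ x ∈ N, ∃ y ∈ K, ∃ z ∈ L, x = y * z)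
    (v : V) (hv : ∀ z ∈ L, ρ z v = v) (hT : T ρ N v = 0) (hcL : (Nat.card L : k) ≠ 0) :
    T ρ K v = 0 := by
  classical
  have h1 : ∑ q ∈ fs K ×ˢ fs L, ρ (q.1 * q.2) v = (Nat.card L : k) • T ρ K v := by
    rw [Finset.sum_product, T_apply, Finset.smul_sum]
    refine Finset.sum_congr rfl (fun y _ => ?_)
    have hz : ∀ z ∈ fs L, ρ ((y, z).1 * (y, z).2) v = ρ y v := fun z hz => by
      dsimp only; rw [rho_mul_apply, hv z (mem_fs.1 hz)]
    rw [Finset.sum_congr rfl hz, Finset.sum_const, card_fs, Nat.cast_smul_eq_nsmul]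
  have h2 : ∑ q ∈ fs K ×ˢ fs L, ρ (q.1 * q.2) v =
      ((fs K ×ˢ fs L).filter (fun q => q.1 * q.2 = 1)).card • T ρ N v := by
    rw [← Finset.sum_fiberwise_of_maps_to (s := fs K ×ˢ fs L) (t := fs N)
      (g := fun q => q.1 * q.2)]
    · rw [T_apply, Finset.smul_sum]
      refine Finset.sum_congr rfl (fun x hx => ?_)
      obtain ⟨y₀, hy₀, z₀, hz₀, rfl⟩ := hN x (mem_fs.1 hx)
      rw [← card_fiber_eq K L y₀ z₀ hy₀ hz₀, ← Finset.sum_const]
      refine Finset.sum_congr rfl (fun q hq => ?_)
      rw [(Finset.mem_filter.1 hq).2]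
    · intro q hq
      rw [Finset.mem_product, mem_fs, mem_fs] at hq
      exact mem_fs.2 (N.mul_mem (hK hq.1) (hL hq.2))
  rw [h2, hT, smul_zero] at h1
  exact (smul_eq_zero.1 h1.symm).resolve_left hcL

end Basic

section LemmaB

variable {k : Type u} {V : Type v} {H : Type w} [Field k] [AddCommGroup V] [Module k V] [Group H]
  [Finite H]

theorem cast_ne_zero_of_coprime (k : Type u) [Field k] (p : ℕ) [Fact p.Prime] [CharP k p] {n : ℕ}
    (h : n.Coprime p) : (n : k) ≠ 0 := by
  intro h0
  rw [CharP.cast_eq_zero_iff k p] at h0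
  have h1 : p ∣ Nat.gcd n p := Nat.dvd_gcd h0 dvd_rfl
  rw [Nat.Coprime] at h
  rw [h] at h1
  exact (Fact.out : p.Prime).one_lt.ne' (Nat.dvd_one.1 h1)

/-- **Lemma B**: the key vanishing lemma. -/
theorem lemmaB (p : ℕ) [Fact p.Prime] [CharP k p] (ρ : Representation k H V) (N : Subgroup H)
    [hNn : N.Normal] (hN : (Nat.card N).Coprime p) (a₁ b₁ : V) (hT : T ρ N a₁ = 0)
    (hb : b₁ ∈ Submodule.span k (orb ρ a₁))
    (hcop : (stab ρ a₁).index.Coprime (stab ρ b₁).index) : b₁ = 0 := by
  set A₁ := stab ρ a₁ with hA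
  set B₁ := stab ρ b₁ with hB
  set K := B₁ ⊓ N with hKdef
  set L := A₁ ⊓ N with hLdef
  have hKN : K ≤ N := inf_le_right
  have hLN : L ≤ N := inf_le_right
  have hprod : ∀ x ∈ N, ∃ y ∈ K, ∃ z ∈ L, x = y * z := by
    intro x hx
    have h1 : (A₁.subgroupOf N).index ∣ A₁.index :=
      Helper75.ClassProd.relIndex_dvd_index_of_normal_right A₁ N
    have h2 : (B₁.subgroupOf N).index ∣ B₁.index :=
      Helper75.ClassProd.relIndex_dvd_index_of_normal_right B₁ N
    have hc : (A₁.subgroupOf N).index.Coprime (B₁.subgroupOf N).index :=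
      Nat.Coprime.coprime_dvd_left h1 (Nat.Coprime.coprime_dvd_right h2 hcop)
    obtain ⟨y, hy, z, hz, hxyz⟩ := Helper75.ClassProd.exists_mul_of_coprime_index
      (A₁.subgroupOf N) (B₁.subgroupOf N) hc ⟨x, hx⟩
    refine ⟨y.1, ⟨hy, y.2⟩, z.1, ⟨hz, z.2⟩, ?_⟩
    have := congrArg Subtype.val hxyz
    simpa using this
  have hcard_dvd : ∀ M : Subgroup H, M ≤ N → (Nat.card M : k) ≠ 0 := by
    intro M hM
    apply cast_ne_zero_of_coprime k p
    exact Nat.Coprime.coprime_dvd_left (Subgroup.card_dvd_of_le hM) hN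
  have hTK : T ρ K a₁ = 0 :=
    T_eq_zero_of_prod ρ N K L hKN hLN hprod a₁ (fun z hz => hz.1) hT (hcard_dvd L hLN)
  have hkill : ∀ u ∈ orb ρ a₁, T ρ K u = 0 := by
    rintro u ⟨h, rfl⟩
    obtain ⟨β, hβ, α, hα, rfl⟩ := Helper75.ClassProd.exists_mul_of_coprime_index A₁ B₁ hcop h
    have hnorm : ∀ y ∈ K, β * y * β⁻¹ ∈ K ∧ β⁻¹ * y * β ∈ K := by
      intro y hy
      refine ⟨⟨B₁.mul_mem (B₁.mul_mem hβ hy.1) (B₁.inv_mem hβ), hNn.conj_mem y hy.2 β⟩,
        ⟨B₁.mul_mem (B₁.mul_mem (B₁.inv_mem hβ) hy.1) hβ, ?_⟩⟩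
      have := hNn.conj_mem y hy.2 β⁻¹
      simpa using this
    rw [rho_mul_apply, (mem_stab.1 hα), T_comm ρ K β hnorm, hTK, map_zero]
  have hspan : Submodule.span k (orb ρ a₁) ≤ LinearMap.ker (T ρ K) := by
    rw [Submodule.span_le]
    intro u hu
    exact hkill u hu
  have h0 : T ρ K b₁ = 0 := hspan hb
  rw [T_fixed ρ K b₁ (fun y hy => hy.1)] at h0
  exact (smul_eq_zero.1 h0).resolve_left (hcard_dvd K hKN)

end LemmaB

section Quot

variable {k : Type u} {V : Type v} {H : Type w} [Field k] [AddCommGroup V] [Module k V] [Group H]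

/-- the `N`-invariants -/
def inv0 (ρ : Representation k H V) (N : Subgroup H) : Submodule k V where
  carrier := {v | ∀ n ∈ N, ρ n v = v}
  add_mem' := by
    intro x y hx hy n hn
    rw [map_add, hx n hn, hy n hn]
  zero_mem' := by
    intro n hn
    rw [map_zero]
  smul_mem' := by
    intro c x hx n hn
    rw [map_smul, hx n hn]

theorem mem_inv0 {ρ : Representation k H V} {N : Subgroup H} {v : V} :
    v ∈ inv0 ρ N ↔ ∀ n ∈ N, ρ n v = v := Iff.rfl

theorem inv0_stable (ρ : Representation k H V) (N : Subgroup H) [hNn : N.Normal] (h : H) (v : V)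
    (hv : v ∈ inv0 ρ N) : ρ h v ∈ inv0 ρ N := by
  intro n hn
  have h1 : h⁻¹ * n * h ∈ N := by
    have := hNn.conj_mem n hn h⁻¹
    simpa using this
  have h2 : n * h = h * (h⁻¹ * n * h) := by group
  rw [← rho_mul_apply, h2, rho_mul_apply, hv _ h1]

/-- the action of `H` on the `N`-invariants -/
def qrep0 (ρ : Representation k H V) (N : Subgroup H) [N.Normal] :
    H →* Module.End k (inv0 ρ N) where
  toFun h := (ρ h).restrict (fun v hv => inv0_stable ρ N h v hv)
  map_one' := by
    ext v
    simp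
  map_mul' := by
    intro g h
    ext v
    simp

/-- the representation of `H ⧸ N` on the `N`-invariants -/
def qrep (ρ : Representation k H V) (N : Subgroup H) [N.Normal] :
    Representation k (H ⧸ N) (inv0 ρ N) :=
  QuotientGroup.lift N (qrep0 ρ N) (by
    intro n hn
    rw [MonoidHom.mem_ker]
    ext v
    exact v.2 n hn)

theorem qrep_mk_val (ρ : Representation k H V) (N : Subgroup H) [N.Normal] (h : H)
    (w : inv0 ρ N) : ((qrep ρ N (QuotientGroup.mk h) w : inv0 ρ N) : V) = ρ h (w : V) := rfl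

theorem orb_qrep_val (ρ : Representation k H V) (N : Subgroup H) [N.Normal] (w : inv0 ρ N) :
    Subtype.val '' (orb (qrep ρ N) w) = orb ρ (w : V) := by
  ext u
  constructor
  · rintro ⟨x, ⟨q, rfl⟩, rfl⟩
    obtain ⟨h, rfl⟩ := QuotientGroup.mk_surjective q
    exact ⟨h, rfl⟩
  · rintro ⟨h, rfl⟩
    exact ⟨qrep ρ N (QuotientGroup.mk h) w, ⟨_, rfl⟩, rfl⟩

theorem card_orb_qrep (ρ : Representation k H V) (N : Subgroup H) [N.Normal] (w : inv0 ρ N) :
    Nat.card (orb (qrep ρ N) w) = Nat.card (orb ρ (w : V)) := by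
  rw [← orb_qrep_val]
  exact (Nat.card_image_of_injective Subtype.val_injective _).symm

theorem span_qrep (ρ : Representation k H V) (N : Subgroup H) [N.Normal] (a : V)
    (e : V →ₗ[k] V) (he1 : ∀ h v, e (ρ h v) = ρ h (e v)) (he2 : ∀ v, e v ∈ inv0 ρ N)
    (he3 : ∀ v ∈ inv0 ρ N, e v = v) (hspan : Submodule.span k (orb ρ a) = ⊤) :
    Submodule.span k (orb (qrep ρ N) ⟨e a, he2 a⟩) = ⊤ := by
  set E : V →ₗ[k] inv0 ρ N := e.codRestrict (inv0 ρ N) he2 with hEdef
  have hE : E '' (orb ρ a) = orb (qrep ρ N) ⟨e a, he2 a⟩ := by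
    ext w
    constructor
    · rintro ⟨u, ⟨h, rfl⟩, rfl⟩
      exact ⟨QuotientGroup.mk h, Subtype.ext (by rw [qrep_mk_val]; exact (he1 h a).symm)⟩
    · rintro ⟨q, rfl⟩
      obtain ⟨h, rfl⟩ := QuotientGroup.mk_surjective q
      exact ⟨ρ h a, ⟨h, rfl⟩, Subtype.ext (he1 h a)⟩
  rw [← hE, ← Submodule.map_span, hspan, Submodule.map_top, LinearMap.range_eq_top]
  intro w
  exact ⟨w, Subtype.ext (he3 w w.2)⟩

theorem sylow_qrep [Finite H] (p : ℕ) [Fact p.Prime] (ρ : Representation k H V) (N : Subgroup H)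
    [N.Normal] (w : inv0 ρ N) (P : Sylow p H)
    (hP : ∀ x ∈ (P : Subgroup H), ρ x (w : V) = w) :
    ∃ Q : Sylow p (H ⧸ N), ∀ x : H ⧸ N, x ∈ (Q : Subgroup (H ⧸ N)) → qrep ρ N x w = w := by
  refine ⟨P.mapSurjective (QuotientGroup.mk'_surjective N), ?_⟩
  intro x hx
  rw [Sylow.coe_mapSurjective] at hx
  obtain ⟨y, hy, rfl⟩ := hx
  exact Subtype.ext (hP y hy)

theorem finrank_inv_le (ρ : Representation k H V) (N : Subgroup H) [N.Normal]
    [Module.Finite k V] :
    Module.finrank k ρ.invariants ≤ Module.finrank k (qrep ρ N).invariants := by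
  let f : ρ.invariants →ₗ[k] (qrep ρ N).invariants :=
    { toFun := fun v => ⟨⟨v.1, fun n _ => v.2 n⟩, by
        intro q
        obtain ⟨h, rfl⟩ := QuotientGroup.mk_surjective q
        exact Subtype.ext (v.2 h)⟩
      map_add' := by intro x y; rfl
      map_smul' := by intro c x; rfl }
  apply LinearMap.finrank_le_finrank_of_injective (f := f)
  intro x y hxy
  have := congrArg (fun z : (qrep ρ N).invariants => ((z : inv0 ρ N) : V)) hxy
  exact Subtype.ext this

/-- the conclusion -/
def Concl (ρ : Representation k H V) (a : V) : Prop :=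
  Module.finrank k ρ.invariants ≤ 1 ∧
    ∀ b : V, (Nat.card (orb ρ a)).Coprime (Nat.card (orb ρ b)) → ∀ h : H, ρ h b = b

theorem reduce [Finite H] (ρ : Representation k H V) (N : Subgroup H) [N.Normal] (a : V)
    (e : V →ₗ[k] V) (he1 : ∀ h v, e (ρ h v) = ρ h (e v)) (he2 : ∀ v, e v ∈ inv0 ρ N)
    (he3 : ∀ v ∈ inv0 ρ N, e v = v) (hspan : Submodule.span k (orb ρ a) = ⊤)
    (hQ : Concl (qrep ρ N) ⟨e a, he2 a⟩) :
    Module.finrank k ρ.invariants ≤ 1 ∧
      ∀ b : V, (Nat.card (orb ρ a)).Coprime (Nat.card (orb ρ b)) → ∀ h : H, ρ h (e b) = e b := by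
  haveI : Module.Finite k V := by
    rw [Module.finite_def, ← hspan]
    exact Submodule.fg_span (orb_finite ρ a)
  have hst : ∀ v : V, stab ρ v ≤ stab ρ (e v) := by
    intro v h hh
    rw [mem_stab] at *
    rw [← he1, hh]
  refine ⟨(finrank_inv_le ρ N).trans hQ.1, ?_⟩
  intro b hcop h
  have hc : (Nat.card (orb (qrep ρ N) ⟨e a, he2 a⟩)).Coprime
      (Nat.card (orb (qrep ρ N) ⟨e b, he2 b⟩)) := by
    rw [card_orb_qrep, card_orb_qrep]
    exact Nat.Coprime.coprime_dvd_left (card_orb_dvd ρ a (e a) (hst a))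
      (Nat.Coprime.coprime_dvd_right (card_orb_dvd ρ b (e b) (hst b)) hcop)
  have := hQ.2 ⟨e b, he2 b⟩ hc (QuotientGroup.mk h)
  exact congrArg Subtype.val this

end Quot

section Main

/-- The main theorem, by induction on `|H|`. -/
theorem main_aux (k : Type u) [Field k] (p : ℕ) [Fact p.Prime] [CharP k p] (n : ℕ) :
    ∀ (H : Type w) (V : Type v) [Group H] [Finite H] [AddCommGroup V] [Module k V],
      Nat.card H = n → IsPSolvable p H → ∀ (ρ : Representation k H V) (a : V),
      (∃ P : Sylow p H, ∀ x : H, x ∈ (P : Subgroup H) → ρ x a = a) →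
      Submodule.span k (orb ρ a) = ⊤ → Concl ρ a := by
  induction n using Nat.strong_induction_on with
  | _ n IH =>
    intro H V _ _ _ _ hcard hsol ρ a hfix hspan
    obtain ⟨P, hP⟩ := hfix
    haveI : Module.Finite k V := by
      rw [Module.finite_def, ← hspan]
      exact Submodule.fg_span (orb_finite ρ a)
    have key : ∀ (N : Subgroup H) [N.Normal], N ≠ ⊥ → ∀ e : V →ₗ[k] V,
        (∀ h v, e (ρ h v) = ρ h (e v)) → (∀ v, e v ∈ inv0 ρ N) → (∀ v ∈ inv0 ρ N, e v = v) →
        Module.finrank k ρ.invariants ≤ 1 ∧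
        ∀ b : V, (Nat.card (orb ρ a)).Coprime (Nat.card (orb ρ b)) →
          ∀ h : H, ρ h (e b) = e b := by
      intro N _ hN e he1 he2 he3
      apply reduce ρ N a e he1 he2 he3 hspan
      have hlt : Nat.card (H ⧸ N) < n := by
        rw [← hcard, Subgroup.card_eq_card_quotient_mul_card_subgroup N]
        have h1 : 1 < Nat.card N := (Subgroup.one_lt_card_iff_ne_bot N).2 hN
        have h2 : 0 < Nat.card (H ⧸ N) := Nat.card_pos
        exact lt_mul_of_one_lt_right h2 h1
      refine IH _ hlt (H ⧸ N) (inv0 ρ N) rfl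
        (Helper15.IsPSolvable.of_surjective Fact.out hsol (QuotientGroup.mk' N)
          (QuotientGroup.mk'_surjective N)) (qrep ρ N) ⟨e a, he2 a⟩ ?_
        (span_qrep ρ N a e he1 he2 he3 hspan)
      exact sylow_qrep p ρ N ⟨e a, he2 a⟩ P (fun x hx => by
        show ρ x (e a) = e a
        rw [← he1, hP x hx])
    by_cases hO : pCore p H = ⊥
    · by_cases hO' : pPrimeCore p H = ⊥
      · -- the trivial group
        have htriv : ∀ h : H, h = 1 := by
          intro h
          have h1 := Helper81.centralizer_pCore_le hsol hO'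
          rw [hO] at h1
          have h2 : h ∈ Subgroup.centralizer ((⊥ : Subgroup H) : Set H) := by
            rw [Subgroup.mem_centralizer_iff]
            intro g hg
            have hg1 : g = 1 := Subgroup.mem_bot.1 hg
            rw [hg1, one_mul, mul_one]
          exact Subgroup.mem_bot.1 (h1 h2)
        have horb : orb ρ a = {a} := by
          ext u
          constructor
          · rintro ⟨h, rfl⟩
            rw [htriv h, rho_one_apply]
            rfl
          · rintro rfl
            exact ⟨1, rho_one_apply ρ _⟩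
        refine ⟨?_, fun b _ h => by rw [htriv h, rho_one_apply]⟩
        calc Module.finrank k ρ.invariants ≤ Module.finrank k V := Submodule.finrank_le _
          _ = Module.finrank k (⊤ : Submodule k V) := (finrank_top k V).symm
          _ = Module.finrank k (Submodule.span k ({a} : Set V)) := by rw [← hspan, horb]
          _ ≤ 1 := by
              have := finrank_span_finset_le_card (R := k) ({a} : Finset V)
              rw [Finset.coe_singleton, Finset.card_singleton] at this
              exact this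
      · -- the `p'`-core is nontrivial
        set N := pPrimeCore p H with hNdef
        haveI hNn : N.Normal := Helper01.pPrimeCore_normal p
        have hNc : (Nat.card N).Coprime p := Helper01.pPrimeCore_card_coprime p
        have hc : (Nat.card N : k) ≠ 0 := cast_ne_zero_of_coprime k p hNc
        set e : V →ₗ[k] V := (Nat.card N : k)⁻¹ • T ρ N with hedef
        have he1 : ∀ h v, e (ρ h v) = ρ h (e v) := by
          intro h v
          simp only [hedef, LinearMap.smul_apply]
          rw [T_comm ρ N h (fun y hy => ⟨hNn.conj_mem y hy h, by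
            simpa using hNn.conj_mem y hy h⁻¹⟩), map_smul]
        have he2 : ∀ v, e v ∈ inv0 ρ N := by
          intro v n hn
          simp only [hedef, LinearMap.smul_apply]
          rw [map_smul, T_left ρ N n hn]
        have he3 : ∀ v ∈ inv0 ρ N, e v = v := by
          intro v hv
          simp only [hedef, LinearMap.smul_apply]
          rw [T_fixed ρ N v hv, smul_smul, inv_mul_cancel₀ hc, one_smul]
        obtain ⟨h1, h2⟩ := key N hO' e he1 he2 he3
        refine ⟨h1, ?_⟩
        intro b hcop h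
        have hsub : ∀ v : V, stab ρ v ≤ stab ρ (v - e v) := by
          intro v g hg
          rw [mem_stab] at *
          rw [map_sub, ← he1, hg]
        have hT : T ρ N (a - e a) = 0 := by
          rw [map_sub, T_fixed ρ N (e a) (he2 a)]
          simp only [hedef, LinearMap.smul_apply]
          rw [smul_smul, mul_inv_cancel₀ hc, one_smul, sub_self]
        have hb₁ : b - e b ∈ Submodule.span k (orb ρ (a - e a)) := by
          set D : V →ₗ[k] V := LinearMap.id - e with hD
          have hDb : D b ∈ Submodule.map D (Submodule.span k (orb ρ a)) :=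
            ⟨b, by rw [hspan]; trivial, rfl⟩
          rw [Submodule.map_span] at hDb
          refine Submodule.span_mono ?_ hDb
          rintro _ ⟨u, ⟨g, rfl⟩, rfl⟩
          refine ⟨g, ?_⟩
          simp only [hD, LinearMap.sub_apply, LinearMap.id_apply]
          rw [map_sub, he1]
        have hcop' : (stab ρ (a - e a)).index.Coprime (stab ρ (b - e b)).index := by
          rw [← card_orb, ← card_orb]
          exact Nat.Coprime.coprime_dvd_left (card_orb_dvd ρ a _ (hsub a))
            (Nat.Coprime.coprime_dvd_right (card_orb_dvd ρ b _ (hsub b)) hcop)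
        have hb0 := lemmaB p ρ N hNc (a - e a) (b - e b) hT hb₁ hcop'
        have hb : b = e b := sub_eq_zero.1 hb0
        rw [hb]
        exact h2 b hcop h
    · -- the `p`-core is nontrivial
      haveI hNn : (pCore p H).Normal := Helper01.pCore_normal p
      have hNfix : ∀ v : V, v ∈ inv0 ρ (pCore p H) := by
        have hle : Submodule.span k (orb ρ a) ≤ inv0 ρ (pCore p H) := by
          rw [Submodule.span_le]
          rintro u ⟨h, rfl⟩
          apply inv0_stable
          intro n hn
          exact hP n (Helper01.pCore_le_sylow P hn)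
        intro v
        apply hle
        rw [hspan]
        trivial
      exact key (pCore p H) hO LinearMap.id (fun _ _ => rfl) (fun v => hNfix v) (fun v _ => rfl)

end Main

end Cfsg.Agent.Lib.Helper67.CopOrb
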