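import Cfsg.Agent.Lib.Helper67.Transv
import Cfsg.Agent.Lib.Helper67.ExpPLen3

set_option autoImplicit false

namespace Cfsg.Agent.Lib.Helper67

open Cfsg

/-- a normal subgroup `R` of `G` with an abelian quotient `V` of `R` on which `G` acts compatibly,
with kernel `R` -/
structure ActSetup {G : Type*} (V : Type*) [Group G] [CommGroup V] (R : Subgroup G)
    [hRn : R.Normal] where
  π : ↥R →* V
  hπ : Function.Surjective π
  a₀ : G →* MulAut V
  compat : ∀ (g : G) (u : ↥R), a₀ g (π u) = π ⟨g * u * g⁻¹, hRn.conj_mem _ u.2 g⟩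
  ker : ∀ g : G, (∀ v, a₀ g v = v) → g ∈ R

namespace ActSetup

variable {G V : Type*} [Group G] [CommGroup V] {R : Subgroup G} [hRn : R.Normal]
  (S : ActSetup V R)

theorem le_ker : R ≤ S.a₀.ker := by
  intro g hg
  rw [MonoidHom.mem_ker]
  ext v
  obtain ⟨u, rfl⟩ := S.hπ v
  rw [S.compat]
  have : (⟨g * u * g⁻¹, hRn.conj_mem _ u.2 g⟩ : ↥R) = ⟨g, hg⟩ * u * ⟨g, hg⟩⁻¹ := rfl
  rw [this, map_mul, map_mul, map_inv, mul_inv_cancel_comm]
  rfl

/-- the induced action of `G / R` -/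
def ab : G ⧸ R →* MulAut V := QuotientGroup.lift R S.a₀ S.le_ker

theorem ab_mk (g : G) : S.ab (g : G ⧸ R) = S.a₀ g := rfl

theorem ab_injective : Function.Injective S.ab := by
  rw [injective_iff_map_eq_one]
  intro x hx
  obtain ⟨g, rfl⟩ := QuotientGroup.mk_surjective x
  rw [QuotientGroup.eq_one_iff]
  apply S.ker
  intro v
  rw [← S.ab_mk, hx]
  rfl

/-- telescoping: `(u x) ^ k = w x ^ k` with `π w` the partial norm -/
theorem pow_mul_eq (x : G) (u : ↥R) (k : ℕ) :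
    ∃ w : ↥R, ((u : G) * x) ^ k = (w : G) * x ^ k ∧
      S.π w = ∏ i ∈ Finset.range k, S.a₀ (x ^ i) (S.π u) := by
  induction k with
  | zero => exact ⟨1, by simp, by simp⟩
  | succ k ih =>
    obtain ⟨w, hw1, hw2⟩ := ih
    refine ⟨w * ⟨x ^ k * u * (x ^ k)⁻¹, hRn.conj_mem _ u.2 _⟩, ?_, ?_⟩
    · rw [pow_succ, hw1]
      simp only [Subgroup.coe_mul]
      rw [pow_succ]; group
    · rw [Finset.prod_range_succ, ← hw2, map_mul, S.compat]

end ActSetup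

/-- the norm of a quadratically acting element vanishes for odd `p` -/
theorem prod_quadratic {Γ V : Type*} [Group Γ] [CommGroup V] {p : ℕ} [hp : Fact p.Prime]
    (hp2 : p ≠ 2) (hV : ∀ v : V, v ^ p = 1) (φ : Γ →* MulAut V) (g : Γ) (β : V)
    (h1 : ∀ v, φ g v / v ∈ Subgroup.zpowers β) (h2 : φ g β = β) (v : V) :
    ∏ i ∈ Finset.range p, φ (g ^ i) v = 1 := by
  set e := φ g v / v with he
  have hge : φ g e = e := by
    obtain ⟨k, hk⟩ := Subgroup.mem_zpowers_iff.mp (h1 v)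
    have hek : e = β ^ k := by rw [he, hk]
    rw [hek, map_zpow, h2]
  have hi : ∀ i : ℕ, φ (g ^ i) v = v * e ^ i := by
    intro i
    exact ab_pow_apply φ g v e (by rw [he]; simp) hge i
  simp only [hi]
  rw [Finset.prod_mul_distrib, Finset.prod_const, Finset.card_range, hV, one_mul,
    Finset.prod_pow_eq_pow_sum, Finset.sum_range_id]
  have hodd : 2 ∣ p - 1 := by
    rcases hp.out.eq_two_or_odd with h | h
    · exact absurd h hp2
    · omega
  obtain ⟨m, hm⟩ := hodd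
  rw [hm, ← mul_assoc, mul_comm p 2, mul_assoc, Nat.mul_div_cancel_left _ (by norm_num : 0 < 2),
    pow_mul, hV, one_pow]

section core

variable {G V : Type*} [Group G] [Finite G] [CommGroup V] {p : ℕ} [hp : Fact p.Prime]
  {R : Subgroup G} [hRn : R.Normal]

/-- basic facts on the "transvection" `a` -/
theorem transv_facts (S : ActSetup V R) (a : G) (hapR : a ^ p ∈ R)
    (hcomm : ∀ r ∈ R, r * a * r⁻¹ * a⁻¹ ∈ Subgroup.zpowers (a ^ p)) :
    (∀ v, S.a₀ a v / v ∈ Subgroup.zpowers (S.π ⟨a ^ p, hapR⟩)) ∧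
      S.a₀ a (S.π ⟨a ^ p, hapR⟩) = S.π ⟨a ^ p, hapR⟩ := by
  constructor
  · intro v
    obtain ⟨u, rfl⟩ := S.hπ v
    rw [S.compat, ← map_div]
    have h1 := hcomm u u.2
    have h2 : a * u * a⁻¹ * (u : G)⁻¹ = ((u : G) * a * (u : G)⁻¹ * a⁻¹)⁻¹ := by group
    have h3 : a * u * a⁻¹ * (u : G)⁻¹ ∈ Subgroup.zpowers (a ^ p) := by
      rw [h2]; exact Subgroup.inv_mem _ h1
    obtain ⟨k, hk⟩ := Subgroup.mem_zpowers_iff.mp h3
    rw [Subgroup.mem_zpowers_iff]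
    refine ⟨k, ?_⟩
    rw [← map_zpow]
    congr 1
    apply Subtype.ext
    simp only [Subgroup.coe_zpow, div_eq_mul_inv]
    exact hk
  · rw [S.compat]
    congr 1
    apply Subtype.ext
    show a * a ^ p * a⁻¹ = a ^ p
    rw [← pow_succ', pow_succ]; group

/-- the odd case: no such `a` exists -/
theorem cyc_core_odd (S : ActSetup V R) (hp2 : p ≠ 2) (hV : ∀ v : V, v ^ p = 1)
    (hΓsol : IsPSolvable p (G ⧸ R)) (hΓOp : pCore p (G ⧸ R) = ⊥)
    (a : G) (haR : a ∉ R) (hapR : a ^ p ∈ R)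
    (hcomm : ∀ r ∈ R, r * a * r⁻¹ * a⁻¹ ∈ Subgroup.zpowers (a ^ p)) : False := by
  obtain ⟨h1, h2⟩ := transv_facts S a hapR hcomm
  set bbar := S.π ⟨a ^ p, hapR⟩ with hbbar
  have habar1 : (a : G ⧸ R) ≠ 1 := by
    intro h; exact haR ((QuotientGroup.eq_one_iff a).mp h)
  have habarp : (a : G ⧸ R) ^ p ^ 1 = 1 := by
    rw [pow_one, ← QuotientGroup.mk_pow]; exact (QuotientGroup.eq_one_iff _).mpr hapR
  obtain ⟨q, hq, hqp, Q, hQ, hxQ, t, ht, hne⟩ :=
    exists_q_sub hΓsol hΓOp (a : G ⧸ R) (a : G ⧸ R)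
      (isPGroup_zpowers_of_pow_eq_one _ 1 habarp) (Subgroup.mem_zpowers _) habar1
  obtain ⟨z, hz1, hz2⟩ := exists_inverting S.ab S.ab_injective hqp hV (a : G ⧸ R) bbar
    h1 h2 Q hQ hxQ t ht hne
  obtain ⟨zh, rfl⟩ := QuotientGroup.mk_surjective z
  have hr : zh * a * zh⁻¹ * a⁻¹ ∈ R := by
    rw [← QuotientGroup.eq_one_iff]
    have : ((zh * a * zh⁻¹ * a⁻¹ : G) : G ⧸ R) =
        ((zh : G ⧸ R) * (a : G ⧸ R)) * ((a : G ⧸ R) * (zh : G ⧸ R))⁻¹ := by
      simp only [QuotientGroup.mk_mul, QuotientGroup.mk_inv]; group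
    rw [this, hz1, mul_inv_cancel]
  obtain ⟨w, hw1, hw2⟩ := S.pow_mul_eq a ⟨_, hr⟩ p
  rw [prod_quadratic hp2 hV S.a₀ a bbar h1 h2] at hw2
  have e1 : ((⟨zh * a * zh⁻¹ * a⁻¹, hr⟩ : ↥R) : G) * a = zh * a * zh⁻¹ := by
    show zh * a * zh⁻¹ * a⁻¹ * a = zh * a * zh⁻¹
    group
  rw [e1, conj_pow] at hw1
  have hzb : S.a₀ zh bbar = bbar := by
    rw [hbbar, S.compat]
    have : (⟨zh * (a ^ p) * zh⁻¹, hRn.conj_mem _ hapR zh⟩ : ↥R) = w * ⟨a ^ p, hapR⟩ := by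
      apply Subtype.ext
      exact hw1
    show S.π ⟨zh * (a ^ p) * zh⁻¹, _⟩ = _
    rw [this, map_mul, hw2, one_mul]
  have hz2' : S.a₀ zh bbar = bbar⁻¹ := hz2
  rw [hzb] at hz2'
  have hb2 : bbar ^ 2 = 1 := by
    rw [pow_two]
    nth_rewrite 2 [hz2']
    exact mul_inv_cancel _
  have hb1 : bbar = 1 := by
    have hg : bbar ^ Nat.gcd 2 p = 1 := pow_gcd_eq_one.mpr ⟨hb2, hV bbar⟩
    have hc : Nat.Coprime 2 p := (Nat.coprime_primes Nat.prime_two hp.out).mpr (Ne.symm hp2)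
    rw [hc, pow_one] at hg
    exact hg
  apply haR
  apply S.ker
  intro v
  have := h1 v
  rw [hb1, Subgroup.zpowers_one_eq_bot, Subgroup.mem_bot, div_eq_one] at this
  exact this

end core

end Cfsg.Agent.Lib.Helper67
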