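import Cfsg.Agent.Lib.Helper67.CycNormal
import Cfsg.Agent.Lib.Helper11.CoxA3

set_option autoImplicit false

namespace Cfsg.Agent.Lib.Helper67

open Cfsg

section two

variable {G V : Type*} [Group G] [CommGroup V] {R : Subgroup G} [hRn : R.Normal]

/-- fixed points of an automorphism -/
def fixedSub (φ : MulAut V) : Subgroup V where
  carrier := {v | φ v = v}
  one_mem' := map_one φ
  mul_mem' := by
    intro a b ha hb
    change φ a = a at ha
    change φ b = b at hb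
    change φ (a * b) = a * b
    rw [map_mul, ha, hb]
  inv_mem' := by
    intro a ha
    change φ a = a at ha
    change φ a⁻¹ = a⁻¹
    rw [map_inv, ha]

theorem mem_fixedSub (φ : MulAut V) (v : V) : v ∈ fixedSub φ ↔ φ v = v := Iff.rfl

/-- preimage in `R ≤ G` of a subgroup of `V` -/
def preSub (S : ActSetup V R) (W' : Subgroup V) : Subgroup G := (W'.comap S.π).map R.subtype

theorem mem_preSub (S : ActSetup V R) (W' : Subgroup V) (g : G) :
    g ∈ preSub S W' ↔ ∃ hg : g ∈ R, S.π ⟨g, hg⟩ ∈ W' := by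
  constructor
  · rintro ⟨u, hu, rfl⟩
    exact ⟨u.2, hu⟩
  · rintro ⟨hg, h⟩
    exact ⟨⟨g, hg⟩, h, rfl⟩

theorem preSub_le (S : ActSetup V R) (W' : Subgroup V) : preSub S W' ≤ R := by
  intro g hg
  obtain ⟨h, -⟩ := (mem_preSub S W' g).mp hg
  exact h

/-- an element of `G` whose action preserves `W'` (both ways) normalizes the preimage of `W'` -/
theorem mem_normalizer_preSub (S : ActSetup V R) (W' : Subgroup V) (g : G)
    (h1 : ∀ v ∈ W', S.a₀ g v ∈ W') (h2 : ∀ v ∈ W', S.a₀ g⁻¹ v ∈ W') :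
    g ∈ Subgroup.normalizer (preSub S W' : Set G) := by
  rw [Subgroup.mem_normalizer_iff]
  intro r
  constructor
  · intro hr
    obtain ⟨hrR, hr'⟩ := (mem_preSub S W' r).mp hr
    rw [mem_preSub]
    refine ⟨hRn.conj_mem _ hrR g, ?_⟩
    have := S.compat g ⟨r, hrR⟩
    rw [← this]
    exact h1 _ hr'
  · intro hr
    obtain ⟨hrR, hr'⟩ := (mem_preSub S W' _).mp hr
    rw [mem_preSub]
    have hrR' : r ∈ R := by
      have := hRn.conj_mem _ hrR g⁻¹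
      simpa [mul_assoc] using this
    refine ⟨hrR', ?_⟩
    have := S.compat g⁻¹ ⟨g * r * g⁻¹, hrR⟩
    have e : (⟨g⁻¹ * (g * r * g⁻¹) * g⁻¹⁻¹, hRn.conj_mem _ hrR g⁻¹⟩ : ↥R) = ⟨r, hrR'⟩ := by
      apply Subtype.ext
      simp [mul_assoc]
    rw [e] at this
    rw [← this]
    exact h2 _ hr'

/-- the case `p = 2`: an `S₄`-section -/
theorem cyc_core_two [Finite G] (S : ActSetup V R) (hV : ∀ v : V, v ^ 2 = 1)
    (hΓsol : IsPSolvable 2 (G ⧸ R)) (hΓOp : pCore 2 (G ⧸ R) = ⊥)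
    (a : G) (haR : a ∉ R) (hapR : a ^ 2 ∈ R)
    (hcomm : ∀ r ∈ R, r * a * r⁻¹ * a⁻¹ ∈ Subgroup.zpowers (a ^ 2)) :
    Involves (Equiv.Perm (Fin 4)) G := by
  have hp : Fact (Nat.Prime 2) := ⟨Nat.prime_two⟩
  obtain ⟨h1, h2⟩ := transv_facts (p := 2) S a hapR hcomm
  obtain ⟨bR, hbR⟩ : ∃ bR : ↥R, bR = ⟨a ^ 2, hapR⟩ := ⟨_, rfl⟩
  rw [← hbR] at h1 h2
  obtain ⟨bbar, hbbar⟩ : ∃ bbar : V, bbar = S.π bR := ⟨_, rfl⟩
  rw [← hbbar] at h1 h2
  have habar1 : (a : G ⧸ R) ≠ 1 := by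
    intro h; exact haR ((QuotientGroup.eq_one_iff a).mp h)
  have ha2 : (a : G ⧸ R) * (a : G ⧸ R) = 1 := by
    rw [← QuotientGroup.mk_mul, ← pow_two]; exact (QuotientGroup.eq_one_iff _).mpr hapR
  have habarp : (a : G ⧸ R) ^ 2 ^ 1 = 1 := by rw [pow_one, pow_two]; exact ha2
  obtain ⟨q, hq, hq2, Q, hQ, hxQ, t, ht, hne⟩ :=
    exists_q_sub (p := 2) hΓsol hΓOp (a : G ⧸ R) (a : G ⧸ R)
      (isPGroup_zpowers_of_pow_eq_one _ 1 habarp) (Subgroup.mem_zpowers _) habar1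
  obtain ⟨th, rfl⟩ := QuotientGroup.mk_surjective t
  obtain ⟨F1, F2, F3, F4, F5⟩ := two_facts S.ab S.ab_injective hq2 hV (a : G ⧸ R) bbar h1 h2 ha2
    Q hQ hxQ (th : G ⧸ R) ht hne
  have F6 := conj_transv_fix S.ab (a : G ⧸ R) bbar h2 (th : G ⧸ R)
  obtain ⟨ch, hch⟩ : ∃ ch : G, ch = th * a * th⁻¹ := ⟨_, rfl⟩
  have hmkch : (th : G ⧸ R) * (a : G ⧸ R) * (th : G ⧸ R)⁻¹ = (ch : G ⧸ R) := by
    rw [hch]; rfl
  rw [hmkch] at F2 F3 F5 F6
  obtain ⟨b'R, hb'R⟩ : ∃ b'R : ↥R, b'R = ⟨th * a ^ 2 * th⁻¹, hRn.conj_mem _ hapR th⟩ := ⟨_, rfl⟩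
  obtain ⟨b', hb'⟩ : ∃ b' : V, b' = S.π b'R := ⟨_, rfl⟩
  have hb'eq : S.ab (th : G ⧸ R) bbar = b' := by
    rw [hb', hb'R, hbbar, hbR]
    exact S.compat th ⟨a ^ 2, hapR⟩
  rw [hb'eq] at F1 F2 F4 F6
  -- facts in terms of `a₀`
  have A1 : S.a₀ a bbar = bbar := h2
  have A2 : S.a₀ a b' = b' * bbar := F1
  have C1 : S.a₀ ch bbar = bbar * b' := F2
  have C2 : S.a₀ ch b' = b' := F6
  have hbb : bbar * bbar = 1 := by rw [← pow_two]; exact hV bbar
  have hb'b' : b' * b' = 1 := by rw [← pow_two]; exact hV b'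
  have hch2 : ch ^ 2 = th * a ^ 2 * th⁻¹ := by rw [hch, conj_pow]
  have hch2R : ch ^ 2 ∈ R := by rw [hch2]; exact hRn.conj_mem _ hapR th
  have hπch2 : S.π ⟨ch ^ 2, hch2R⟩ = b' := by
    rw [hb', hb'R]; congr 1; exact Subtype.ext hch2
  have hπa2 : S.π ⟨a ^ 2, hapR⟩ = bbar := by rw [hbbar, hbR]
  -- σ
  obtain ⟨s, hs⟩ : ∃ s : G, s = a * ch := ⟨_, rfl⟩
  have hmks : (s : G ⧸ R) = (a : G ⧸ R) * (ch : G ⧸ R) := by rw [hs]; rfl
  rw [← hmks] at F3
  have hsb : S.a₀ s bbar = b' := by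
    rw [hs, map_mul, MulAut.mul_apply, C1, map_mul, A1, A2]
    calc bbar * (b' * bbar) = b' * (bbar * bbar) := by
          rw [mul_comm b' bbar, ← mul_assoc, ← mul_assoc, mul_comm (bbar * bbar) b', mul_assoc]
      _ = b' := by rw [hbb, mul_one]
  have hainv : (a : G ⧸ R)⁻¹ = (a : G ⧸ R) := inv_eq_of_mul_eq_one_right ha2
  have hc2 : (ch : G ⧸ R) * (ch : G ⧸ R) = 1 := by
    rw [← QuotientGroup.mk_mul, ← pow_two]; exact (QuotientGroup.eq_one_iff _).mpr hch2R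
  have hcinv : (ch : G ⧸ R)⁻¹ = (ch : G ⧸ R) := inv_eq_of_mul_eq_one_right hc2
  have hsinv : (s : G ⧸ R)⁻¹ = (ch : G ⧸ R) * (a : G ⧸ R) := by
    rw [hmks, mul_inv_rev, hainv, hcinv]
  have hconj_a : (a : G ⧸ R) * (s : G ⧸ R) * (a : G ⧸ R)⁻¹ = (s : G ⧸ R)⁻¹ := by
    rw [hsinv, hmks, hainv, ← mul_assoc, ha2, one_mul]
  have hconj_c : (ch : G ⧸ R) * (s : G ⧸ R) * (ch : G ⧸ R)⁻¹ = (s : G ⧸ R)⁻¹ := by
    rw [hsinv, hmks, hcinv, mul_assoc, mul_assoc, hc2, mul_one]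
  -- the fixed points of σ and their preimage
  set W' : Subgroup V := fixedSub (S.a₀ s) with hW'
  set R2 : Subgroup G := preSub S W' with hR2
  have hinvW : ∀ γ : G ⧸ R, γ * (s : G ⧸ R) * γ⁻¹ = (s : G ⧸ R)⁻¹ → ∀ v ∈ W', S.ab γ v ∈ W' := by
    intro γ hγ v hv
    have hv' : S.ab (s : G ⧸ R) v = v := hv
    have hv'' : S.ab (s : G ⧸ R)⁻¹ v = v := by
      rw [map_inv]
      calc (S.ab (s : G ⧸ R))⁻¹ v = (S.ab (s : G ⧸ R))⁻¹ (S.ab (s : G ⧸ R) v) := by rw [hv']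
        _ = v := MulAut.inv_apply_self _ _ _
    show S.ab (s : G ⧸ R) (S.ab γ v) = S.ab γ v
    have e : (s : G ⧸ R) * γ = γ * (s : G ⧸ R)⁻¹ := by
      have h3 : (s : G ⧸ R) = γ * (s : G ⧸ R)⁻¹ * γ⁻¹ := by
        calc (s : G ⧸ R) = ((s : G ⧸ R)⁻¹)⁻¹ := (inv_inv _).symm
          _ = (γ * (s : G ⧸ R) * γ⁻¹)⁻¹ := by rw [hγ]
          _ = γ * (s : G ⧸ R)⁻¹ * γ⁻¹ := by group
      calc (s : G ⧸ R) * γ = (γ * (s : G ⧸ R)⁻¹ * γ⁻¹) * γ := by rw [← h3]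
        _ = γ * (s : G ⧸ R)⁻¹ := by group
    rw [← MulAut.mul_apply, ← map_mul, e, map_mul, MulAut.mul_apply, hv'']
  have hnorm_of : ∀ g : G, ((g : G ⧸ R) = (a : G ⧸ R) ∨ (g : G ⧸ R) = (ch : G ⧸ R)) →
      g ∈ Subgroup.normalizer (R2 : Set G) := by
    intro g hg
    apply mem_normalizer_preSub S W' g
    · intro v hv
      rw [← S.ab_mk]
      rcases hg with hg | hg
      · rw [hg]; exact hinvW _ hconj_a v hv
      · rw [hg]; exact hinvW _ hconj_c v hv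
    · intro v hv
      rw [← S.ab_mk, QuotientGroup.mk_inv]
      rcases hg with hg | hg
      · rw [hg, hainv]; exact hinvW _ hconj_a v hv
      · rw [hg, hcinv]; exact hinvW _ hconj_c v hv
  -- the three generators
  obtain ⟨xh, hxh⟩ : ∃ xh : G, xh = (bR : G) * ((b'R : G) * a) := ⟨_, rfl⟩
  obtain ⟨zh, hzh⟩ : ∃ zh : G, zh = (b'R : G) * a := ⟨_, rfl⟩
  obtain ⟨yh, hyh⟩ : ∃ yh : G, yh = (bR : G) * ch := ⟨_, rfl⟩
  have hxz : xh = (bR : G) * zh := by rw [hxh, hzh]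
  have hmkR : ∀ (u : ↥R) (g : G), (((u : G) * g : G) : G ⧸ R) = (g : G ⧸ R) := by
    intro u g
    rw [QuotientGroup.mk_mul, (QuotientGroup.eq_one_iff (u : G)).mpr u.2, one_mul]
  have hmkz : (zh : G ⧸ R) = (a : G ⧸ R) := by rw [hzh]; exact hmkR _ _
  have hmkx : (xh : G ⧸ R) = (a : G ⧸ R) := by rw [hxz, hmkR, hmkz]
  have hmky : (yh : G ⧸ R) = (ch : G ⧸ R) := by rw [hyh]; exact hmkR _ _
  have ha₀z : S.a₀ zh = S.a₀ a := by rw [← S.ab_mk, hmkz, S.ab_mk]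
  have ha₀x : S.a₀ xh = S.a₀ a := by rw [← S.ab_mk, hmkx, S.ab_mk]
  have ha₀y : S.a₀ yh = S.a₀ ch := by rw [← S.ab_mk, hmky, S.ab_mk]
  -- squares
  have hsq : ∀ (u : ↥R) (g : G) (hg2 : g ^ 2 ∈ R),
      S.π u * S.a₀ g (S.π u) * S.π ⟨g ^ 2, hg2⟩ = 1 → ((u : G) * g) * ((u : G) * g) ∈ R2 := by
    intro u g hg2 h
    rw [hR2, mem_preSub]
    have e : ((u : G) * g) * ((u : G) * g) =
        (u : G) * (g * u * g⁻¹) * g ^ 2 := by rw [pow_two]; group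
    have hmem : ((u : G) * g) * ((u : G) * g) ∈ R := by
      rw [e]
      exact R.mul_mem (R.mul_mem u.2 (hRn.conj_mem _ u.2 g)) hg2
    refine ⟨hmem, ?_⟩
    have e2 : (⟨((u : G) * g) * ((u : G) * g), hmem⟩ : ↥R) =
        u * ⟨g * u * g⁻¹, hRn.conj_mem _ u.2 g⟩ * ⟨g ^ 2, hg2⟩ := Subtype.ext e
    rw [e2, map_mul, map_mul, ← S.compat, h]
    exact Subgroup.one_mem _
  have hπbR : S.π bR = bbar := hbbar.symm
  have hπb'R : S.π b'R = b' := hb'.symm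
  have hzz : zh * zh ∈ R2 := by
    rw [hzh]
    apply hsq b'R a hapR
    rw [hπb'R, hπa2, A2]
    calc b' * (b' * bbar) * bbar = (b' * b') * (bbar * bbar) := by
          rw [mul_assoc, mul_assoc, mul_assoc]
      _ = 1 := by rw [hb'b', hbb, mul_one]
  have hxx : xh * xh ∈ R2 := by
    have e : xh = ((bR * b'R : ↥R) : G) * a := by rw [hxh, Subgroup.coe_mul, mul_assoc]
    rw [e]
    apply hsq (bR * b'R) a hapR
    rw [map_mul, hπbR, hπb'R, hπa2, map_mul, A1, A2]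
    calc bbar * b' * (bbar * (b' * bbar)) * bbar
        = (bbar * bbar) * (b' * b') * (bbar * bbar) := by
          rw [mul_comm b' bbar]
          simp only [mul_assoc]
          rw [mul_left_comm b' bbar (bbar * (b' * bbar))]
          simp only [mul_left_comm b' bbar]
      _ = 1 := by rw [hb'b', hbb, mul_one, mul_one]
  have hyy : yh * yh ∈ R2 := by
    rw [hyh]
    apply hsq bR ch hch2R
    rw [hπbR, hπch2, C1]
    calc bbar * (bbar * b') * b' = (bbar * bbar) * (b' * b') := by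
          rw [mul_assoc, mul_assoc, mul_assoc]
      _ = 1 := by rw [hb'b', hbb, mul_one]
  -- commutation of x and z
  have hxzcomm : (xh * zh) * (zh * xh)⁻¹ ∈ R2 := by
    rw [hR2, mem_preSub]
    have e : (xh * zh) * (zh * xh)⁻¹ = (bR : G) * (zh * bR * zh⁻¹)⁻¹ := by
      rw [hxz]; group
    have hmem : (xh * zh) * (zh * xh)⁻¹ ∈ R := by
      rw [e]; exact R.mul_mem bR.2 (R.inv_mem (hRn.conj_mem _ bR.2 zh))
    refine ⟨hmem, ?_⟩
    have e2 : (⟨(xh * zh) * (zh * xh)⁻¹, hmem⟩ : ↥R) =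
        bR * (⟨zh * bR * zh⁻¹, hRn.conj_mem _ bR.2 zh⟩ : ↥R)⁻¹ := Subtype.ext e
    rw [e2, map_mul, map_inv, ← S.compat, ha₀z, hπbR, A1, mul_inv_cancel]
    exact Subgroup.one_mem _
  -- cubes
  have hcube : ∀ g : G, (g : G ⧸ R) = (s : G ⧸ R) → g ^ 3 ∈ R2 := by
    intro g hg
    rw [hR2, mem_preSub]
    have hmem : g ^ 3 ∈ R := by
      rw [← QuotientGroup.eq_one_iff, QuotientGroup.mk_pow, hg]; exact F3
    refine ⟨hmem, ?_⟩
    show S.a₀ s (S.π ⟨g ^ 3, hmem⟩) = S.π ⟨g ^ 3, hmem⟩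
    rw [← S.ab_mk, ← hg, S.ab_mk, S.compat]
    congr 1
    apply Subtype.ext
    show g * g ^ 3 * g⁻¹ = g ^ 3
    rw [← pow_succ', pow_succ]; group
  have hxy3 : (xh * yh) ^ 3 ∈ R2 := by
    apply hcube
    rw [QuotientGroup.mk_mul, hmkx, hmky, hmks]
  have hzy3 : (zh * yh) ^ 3 ∈ R2 := by
    apply hcube
    rw [QuotientGroup.mk_mul, hmkz, hmky, hmks]
  -- non-membership
  have hbRnot : (bR : G) ∉ R2 := by
    intro h
    rw [hR2, mem_preSub] at h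
    obtain ⟨hg, h⟩ := h
    have h' : S.a₀ s (S.π bR) = S.π bR := h
    rw [hπbR, hsb] at h'
    exact F4 h'
  have hxynot : xh * yh ∉ R := by
    intro h
    have h' := (QuotientGroup.eq_one_iff _).mpr h
    rw [QuotientGroup.mk_mul, hmkx, hmky] at h'
    apply F5
    have h3 : (ch : G ⧸ R) = (a : G ⧸ R)⁻¹ := eq_inv_of_mul_eq_one_right h'
    rw [h3, hainv]
  -- the section
  obtain ⟨C, hC⟩ : ∃ C : Subgroup G, C = Subgroup.closure ({xh, yh, zh} : Set G) := ⟨_, rfl⟩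
  obtain ⟨K, hK⟩ : ∃ K : Subgroup G, K = R2 ⊔ C := ⟨_, rfl⟩
  have hxC : xh ∈ C := by rw [hC]; exact Subgroup.subset_closure (by simp)
  have hyC : yh ∈ C := by rw [hC]; exact Subgroup.subset_closure (by simp)
  have hzC : zh ∈ C := by rw [hC]; exact Subgroup.subset_closure (by simp)
  have hCn : C ≤ Subgroup.normalizer (R2 : Set G) := by
    rw [hC, Subgroup.closure_le]
    intro g hg
    simp only [Set.mem_insert_iff, Set.mem_singleton_iff] at hg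
    rcases hg with rfl | rfl | rfl
    · exact hnorm_of _ (Or.inl hmkx)
    · exact hnorm_of _ (Or.inr hmky)
    · exact hnorm_of _ (Or.inl hmkz)
  have hKn : K ≤ Subgroup.normalizer (R2 : Set G) := by
    rw [hK]; exact sup_le Subgroup.le_normalizer hCn
  have hR2K : R2 ≤ K := by rw [hK]; exact le_sup_left
  have hCK : C ≤ K := by rw [hK]; exact le_sup_right
  have hnormal : (R2.subgroupOf K).Normal :=
    (Subgroup.normal_subgroupOf_iff_le_normalizer hR2K).mpr hKn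
  have hmk1 : ∀ (g : G) (hg : g ∈ K),
      (QuotientGroup.mk (⟨g, hg⟩ : ↥K) : ↥K ⧸ R2.subgroupOf K) = 1 ↔ g ∈ R2 := by
    intro g hg
    rw [QuotientGroup.eq_one_iff, Subgroup.mem_subgroupOf]
  obtain ⟨x, hx⟩ : ∃ x : ↥K ⧸ R2.subgroupOf K, x = QuotientGroup.mk ⟨xh, hCK hxC⟩ := ⟨_, rfl⟩
  obtain ⟨y, hy⟩ : ∃ y : ↥K ⧸ R2.subgroupOf K, y = QuotientGroup.mk ⟨yh, hCK hyC⟩ := ⟨_, rfl⟩
  obtain ⟨z, hz⟩ : ∃ z : ↥K ⧸ R2.subgroupOf K, z = QuotientGroup.mk ⟨zh, hCK hzC⟩ := ⟨_, rfl⟩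
  have hxx' : x * x = 1 := by
    rw [hx, ← QuotientGroup.mk_mul]
    exact (hmk1 (xh * xh) (K.mul_mem (hCK hxC) (hCK hxC))).mpr hxx
  have hyy' : y * y = 1 := by
    rw [hy, ← QuotientGroup.mk_mul]
    exact (hmk1 (yh * yh) (K.mul_mem (hCK hyC) (hCK hyC))).mpr hyy
  have hzz' : z * z = 1 := by
    rw [hz, ← QuotientGroup.mk_mul]
    exact (hmk1 (zh * zh) (K.mul_mem (hCK hzC) (hCK hzC))).mpr hzz
  have hxzc : x * z = z * x := by
    rw [← mul_inv_eq_one, hx, hz, ← QuotientGroup.mk_mul, ← QuotientGroup.mk_mul,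
      ← QuotientGroup.mk_inv, ← QuotientGroup.mk_mul]
    exact (hmk1 ((xh * zh) * (zh * xh)⁻¹) (K.mul_mem (K.mul_mem (hCK hxC) (hCK hzC))
      (K.inv_mem (K.mul_mem (hCK hzC) (hCK hxC))))).mpr hxzcomm
  have hxy3' : (x * y) ^ 3 = 1 := by
    rw [hx, hy, ← QuotientGroup.mk_mul, ← QuotientGroup.mk_pow]
    exact (hmk1 ((xh * yh) ^ 3) (K.pow_mem (K.mul_mem (hCK hxC) (hCK hyC)) 3)).mpr hxy3
  have hzy3' : (z * y) ^ 3 = 1 := by
    rw [hz, hy, ← QuotientGroup.mk_mul, ← QuotientGroup.mk_pow]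
    exact (hmk1 ((zh * yh) ^ 3) (K.pow_mem (K.mul_mem (hCK hzC) (hCK hyC)) 3)).mpr hzy3
  have braid : ∀ u v : ↥K ⧸ R2.subgroupOf K, u * u = 1 → v * v = 1 → (u * v) ^ 3 = 1 →
      u * v * u = v * u * v := by
    intro u v hu hv h
    have hui : u⁻¹ = u := inv_eq_of_mul_eq_one_right hu
    have hvi : v⁻¹ = v := inv_eq_of_mul_eq_one_right hv
    have h1 : (u * v * u) * (v * u * v) = 1 := by
      rw [← h, pow_succ, pow_two]; group
    calc u * v * u = (v * u * v)⁻¹ := eq_inv_of_mul_eq_one_left h1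
      _ = v⁻¹ * u⁻¹ * v⁻¹ := by group
      _ = v * u * v := by rw [hui, hvi]
  have hrel : Cfsg.Agent.Lib.Helper11.CoxA3.Rel x y z :=
    { aa := hxx'
      bb := hyy'
      cc := hzz'
      ac := hxzc
      aba := braid x y hxx' hyy' hxy3'
      bcb := (braid z y hzz' hyy' hzy3').symm }
  have hab : x * y ≠ y * x := by
    intro h
    have h2' : (x * y) ^ 2 = 1 := by
      rw [pow_two]
      calc x * y * (x * y) = x * (y * x) * y := by group
        _ = x * (x * y) * y := by rw [h]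
        _ = (x * x) * (y * y) := by group
        _ = 1 := by rw [hxx', hyy', one_mul]
    have h3' : x * y = 1 := by
      have := hxy3'
      rw [pow_succ, h2', one_mul] at this
      exact this
    rw [hx, hy, ← QuotientGroup.mk_mul] at h3'
    have := (hmk1 (xh * yh) (K.mul_mem (hCK hxC) (hCK hyC))).mp h3'
    exact hxynot (preSub_le S W' this)
  have hac : x ≠ z := by
    intro h
    have h3' : x * z⁻¹ = 1 := by rw [h, mul_inv_cancel]
    rw [hx, hz, ← QuotientGroup.mk_inv, ← QuotientGroup.mk_mul] at h3'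
    have := (hmk1 (xh * zh⁻¹) (K.mul_mem (hCK hxC) (K.inv_mem (hCK hzC)))).mp h3'
    apply hbRnot
    have e : (bR : G) = xh * zh⁻¹ := by rw [hxz]; group
    rw [e]; exact this
  have hgen : Subgroup.closure ({x, y, z} : Set (↥K ⧸ R2.subgroupOf K)) = ⊤ := by
    rw [eq_top_iff]
    intro τ _
    obtain ⟨⟨k, hk⟩, rfl⟩ := QuotientGroup.mk_surjective τ
    have hk' : k ∈ C ⊔ R2 := by rw [sup_comm, ← hK]; exact hk
    obtain ⟨c', hc', r, hr, rfl⟩ := mem_sup_of_le_normalizer hCn hk'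
    have e : (QuotientGroup.mk (⟨c' * r, hk⟩ : ↥K) : ↥K ⧸ R2.subgroupOf K) =
        QuotientGroup.mk ⟨c', hCK hc'⟩ * QuotientGroup.mk ⟨r, hR2K hr⟩ := rfl
    rw [e, (hmk1 r (hR2K hr)).mpr hr, mul_one]
    have hind : ∀ (g : G) (hg : g ∈ Subgroup.closure ({xh, yh, zh} : Set G)),
        (QuotientGroup.mk (⟨g, hCK (hC ▸ hg)⟩ : ↥K) : ↥K ⧸ R2.subgroupOf K) ∈
          Subgroup.closure ({x, y, z} : Set (↥K ⧸ R2.subgroupOf K)) := by
      intro g hg
      induction hg using Subgroup.closure_induction with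
      | mem g hg =>
        simp only [Set.mem_insert_iff, Set.mem_singleton_iff] at hg
        apply Subgroup.subset_closure
        rcases hg with rfl | rfl | rfl
        · left; exact hx.symm
        · right; left; exact hy.symm
        · right; right; exact hz.symm
      | one => exact Subgroup.one_mem _
      | mul g h hg hh ihg ihh => exact Subgroup.mul_mem _ ihg ihh
      | inv g hg ihg => exact Subgroup.inv_mem _ ihg
    exact hind c' (hC ▸ hc')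
  exact ⟨K, R2, hnormal, hrel.equiv_perm_four hab hac hgen⟩

end two

end Cfsg.Agent.Lib.Helper67
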