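import Mathlib
import Cfsg.Prelude.Def_Local
import Cfsg.Agent.Lib.Helper13.HHBFinal

/-!
# Quadratic elements of order `p` acting on elementary abelian `p`-groups (multiplicative form)

Bridge from `Cfsg.Agent.Lib.Helper13.hh_theoremB_subgroup` (Hall--Higman Theorem B, subgroup form) to
automorphisms of a finite elementary abelian `p`-group written multiplicatively.
-/

set_option autoImplicit false
set_option linter.style.haveILetI false

namespace Cfsg.Agent.Lib.Helper67

open Cfsg

universe u



section quad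

variable {V : Type u} [CommGroup V] [Finite V] {p : ℕ} [hp : Fact p.Prime]

/-- Hall--Higman Theorem B for a quadratic element of order `p`: if it does not centralize an
invariant `q`-group of automorphisms, then `p = 3`, `q = 2` and the `q`-group is not abelian. -/
theorem quad_noncentral (hp2 : p ≠ 2) (hV : ∀ v : V, v ^ p = 1)
    (X : MulAut V) (hX : X ^ p = 1) (hquad : ∀ v, X (X v * v⁻¹) * (X v * v⁻¹)⁻¹ = 1)
    (q : ℕ) [hq : Fact q.Prime] (hqp : q ≠ p)
    (Q : Subgroup (MulAut V)) (hQ : IsPGroup q Q) (hinv : ∀ g ∈ Q, X * g * X⁻¹ ∈ Q)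
    (hnc : ∃ g ∈ Q, X * g ≠ g * X) :
    p = 3 ∧ q = 2 ∧ ∃ g ∈ Q, ∃ g' ∈ Q, g * g' ≠ g' * g := by
  classical
  have hpp : p.Prime := hp.out
  have : NeZero p := ⟨hpp.ne_zero⟩
  have hx0 : ∀ x : Additive V, p • x = 0 := fun x =>
    congrArg Additive.ofMul (hV (Additive.toMul x))
  letI : Module (ZMod p) (Additive V) := AddCommGroup.zmodModule (n := p) hx0
  have : Finite (Additive V) := inferInstanceAs (Finite V)
  have hfd : FiniteDimensional (ZMod p) (Additive V) := Module.Finite.of_finite
  let lin : MulAut V →* (Additive V ≃ₗ[ZMod p] Additive V) :=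
    { toFun := fun φ =>
        { (MonoidHom.toAdditive φ.toMonoidHom).toZModLinearMap p with
          invFun := fun w => Additive.ofMul (φ.symm (Additive.toMul w))
          left_inv := fun w => by
            show Additive.ofMul (φ.symm (φ (Additive.toMul w))) = w
            rw [MulEquiv.symm_apply_apply]
            rfl
          right_inv := fun w => by
            show Additive.ofMul (φ (φ.symm (Additive.toMul w))) = w
            rw [MulEquiv.apply_symm_apply]
            rfl }
      map_one' := by ext w; rfl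
      map_mul' := fun φ ψ => by ext w; rfl }
  have hlinapp : ∀ (φ : MulAut V) (w : Additive V),
      lin φ w = Additive.ofMul (φ (Additive.toMul w)) := fun _ _ => rfl
  have hinj : Function.Injective lin := by
    intro φ ψ h
    ext v
    have := LinearEquiv.congr_fun h (Additive.ofMul v)
    rw [hlinapp, hlinapp] at this
    exact Additive.ofMul.injective this
  set x := lin X with hx
  set Q' := Q.map lin with hQ'
  have hfinM : Finite (MulAut V) :=
    Finite.of_injective (fun φ : MulAut V => (φ : V → V)) (fun φ ψ h => by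
      ext v; exact congrFun h v)
  have hfinQ : Finite Q' := by
    have : Finite (Additive V ≃ₗ[ZMod p] Additive V) :=
      Finite.of_injective (fun φ : Additive V ≃ₗ[ZMod p] Additive V => (φ : Additive V → Additive V))
        (fun φ ψ h => by ext v; exact congrFun h v)
    infer_instance
  have hQ'q : IsPGroup q Q' := hQ.map lin
  have hxp : x ^ p ^ 1 = 1 := by rw [pow_one, hx, ← map_pow, hX, map_one]
  have hQ'inv : ∀ g ∈ Q', x * g * x⁻¹ ∈ Q' := by
    rintro _ ⟨g, hg, rfl⟩
    refine ⟨X * g * X⁻¹, hinv g hg, ?_⟩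
    rw [map_mul, map_mul, map_inv]
  have hNC : ∃ g ∈ Q', x ^ p ^ (1 - 1) * g ≠ g * x ^ p ^ (1 - 1) := by
    obtain ⟨g, hg, hne⟩ := hnc
    refine ⟨lin g, ⟨g, hg, rfl⟩, ?_⟩
    simp only [Nat.sub_self, pow_zero, pow_one]
    rw [hx, ← map_mul, ← map_mul]
    exact fun h => hne (hinj h)
  have hr : ((x : Module.End (ZMod p) (Additive V)) - 1) ^ 2 = 0 := by
    have h1 : ∀ w : Additive V, (x : Module.End (ZMod p) (Additive V)) w =
        Additive.ofMul (X (Additive.toMul w)) := fun _ => rfl
    have h2 : ∀ w : Additive V, ((x : Module.End (ZMod p) (Additive V)) - 1) w =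
        Additive.ofMul (X (Additive.toMul w) * (Additive.toMul w)⁻¹) := by
      intro w
      rw [LinearMap.sub_apply, Module.End.one_apply, h1]
      show Additive.ofMul (X (Additive.toMul w)) - Additive.ofMul (Additive.toMul w) = _
      rw [← ofMul_div, div_eq_mul_inv]
    ext w
    rw [pow_two, Module.End.mul_apply, h2, h2, LinearMap.zero_apply]
    simp only [toMul_ofMul]
    rw [hquad (Additive.toMul w)]
    rfl
  have hmain := Cfsg.Agent.Lib.Helper13.hh_theoremB_subgroup (F := ZMod p) (p := p) x 1 le_rfl hxp q hqp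
    Q' hQ'q hQ'inv hNC 2 hr
  rcases hmain with h | ⟨n₀, m, h1, h2, h3, h4, ⟨a, ha, b, hb, hab⟩, h6⟩
  · exfalso
    rw [pow_one] at h
    have h2 := hpp.two_le
    omega
  · have hn₀ : n₀ = 1 := le_antisymm h2 h1
    subst hn₀
    rw [pow_one] at h4
    simp only [Nat.sub_self, pow_zero, one_mul, pow_one] at h6
    have h2 := hpp.two_le
    have hp3 : p = 3 := by omega
    refine ⟨hp3, ?_, ?_⟩
    · rw [hp3] at h4
      have h22 : q ^ m = 2 := h4.symm
      have hq2 : q ∣ 2 := by
        rw [← h22]; exact dvd_pow_self q (by omega)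
      exact (Nat.prime_dvd_prime_iff_eq hq.out Nat.prime_two).mp hq2
    · obtain ⟨a', ha', rfl⟩ := ha
      obtain ⟨b', hb', rfl⟩ := hb
      refine ⟨a', ha', b', hb', ?_⟩
      intro h
      apply hab
      rw [← map_mul, ← map_mul, h]

/-- a quadratic element of order `p` (`p` odd) centralizes every invariant abelian `q`-group of
automorphisms, `q ≠ p` -/
theorem quad_comm_of_comm (hp2 : p ≠ 2) (hV : ∀ v : V, v ^ p = 1)
    (X : MulAut V) (hX : X ^ p = 1) (hquad : ∀ v, X (X v * v⁻¹) * (X v * v⁻¹)⁻¹ = 1)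
    (q : ℕ) [hq : Fact q.Prime] (hqp : q ≠ p)
    (Q : Subgroup (MulAut V)) (hQ : IsPGroup q Q) (hinv : ∀ g ∈ Q, X * g * X⁻¹ ∈ Q)
    (hab : ∀ g ∈ Q, ∀ g' ∈ Q, g * g' = g' * g) : ∀ g ∈ Q, X * g = g * X := by
  by_contra hcon
  push Not at hcon
  obtain ⟨-, -, g, hg, g', hg', hne⟩ := quad_noncentral hp2 hV X hX hquad q hqp Q hQ hinv hcon
  exact hne (hab g hg g' hg')

end quad

end Cfsg.Agent.Lib.Helper67
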