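import Cfsg.Agent.Lib.Helper67.ExpPLen2
import Cfsg.Agent.Lib.Helper67.Der1

/-!
# General lemmas for the derived-length bound on the `p`-length
-/

set_option autoImplicit false
set_option linter.style.haveILetI false

namespace Cfsg.Agent.Lib.Helper67

open Cfsg
open scoped commutatorElement

section dualHH2

variable {Γ : Type*} [Group Γ] [Finite Γ] {p : ℕ} [hp : Fact p.Prime]

/-- a nontrivial element `y` of a `p`-subgroup `H` acts nontrivially on some `H`-invariant
`q`-subgroup (`p`-solvable group with `O_p = 1`) -/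
theorem exists_q_sub_pgroup (hG : IsPSolvable p Γ) (hOp : pCore p Γ = ⊥) (H : Subgroup Γ)
    (hH : IsPGroup p H) (y : Γ) (hy : y ∈ H) (hy1 : y ≠ 1) :
    ∃ q : ℕ, ∃ _ : Fact q.Prime, q ≠ p ∧ ∃ Q : Subgroup Γ, IsPGroup q Q ∧
      H ≤ Subgroup.normalizer (Q : Set Γ) ∧ ∃ t ∈ Q, y * t ≠ t * y := by
  set K := pPrimeCore p Γ with hKdef
  have hKn : K.Normal := pPrimeCore_normal p Γ
  have hKc : (Nat.card K).Coprime p := Helper81.card_pPrimeCore_coprime p
  have hpK : ¬ p ∣ Nat.card K := (Nat.Prime.coprime_iff_not_dvd hp.out).mp hKc.symm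
  have hcent := centralizer_pPrimeCore_le hG hOp
  have hyK : y ∉ K := by
    intro hyK
    obtain ⟨k, hk⟩ := hH ⟨y, hy⟩
    have hyk : y ^ p ^ k = 1 := by simpa using congrArg Subtype.val hk
    have h2 : y ^ Nat.card K = 1 := by
      have := congrArg Subtype.val (pow_card_eq_one' (G := ↥K) (x := ⟨y, hyK⟩))
      simp only [Subgroup.coe_pow, Subgroup.coe_one] at this
      exact this
    have hg : y ^ Nat.gcd (p ^ k) (Nat.card K) = 1 := pow_gcd_eq_one.mpr ⟨hyk, h2⟩
    have hc : Nat.Coprime (p ^ k) (Nat.card K) := Nat.Coprime.pow_left _ hKc.symm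
    rw [hc, pow_one] at hg
    exact hy1 hg
  by_contra hcon
  push Not at hcon
  apply hyK
  apply hcent
  rw [Subgroup.mem_centralizer_iff]
  intro k hk
  let C : Subgroup ↥K := (Subgroup.centralizer ({y} : Set Γ)).subgroupOf K
  have hCtop : C = ⊤ := by
    have hdvd : Nat.card ↥K ∣ Nat.card C := by
      rw [← Nat.factorization_prime_le_iff_dvd Nat.card_pos.ne' Nat.card_pos.ne']
      intro q hq
      have : Fact q.Prime := ⟨hq⟩
      by_cases hqp : q = p
      · subst hqp
        rw [Nat.factorization_eq_zero_of_not_dvd hpK]; exact Nat.zero_le _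
      · obtain ⟨Q, hQinv⟩ := exists_invariant_sylow (P := H) (N := K) hH hpK q
        have hxn : H ≤ Subgroup.normalizer
            (((Q : Subgroup ↥K).map K.subtype : Subgroup Γ) : Set Γ) := fun h hh =>
          (smul_sylow_eq_iff h Q).mp (hQinv _ (toConjAct_mem_conjCopy hh))
        have hQC : (Q : Subgroup ↥K) ≤ C := by
          intro t ht
          have h1 := hcon q ‹_› hqp ((Q : Subgroup ↥K).map K.subtype) (Q.isPGroup'.map _) hxn
            (t : Γ) (Subgroup.mem_map_of_mem _ ht)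
          show (t : Γ) ∈ Subgroup.centralizer {y}
          rw [Subgroup.mem_centralizer_singleton_iff]
          exact h1.symm
        rw [← Nat.Prime.pow_dvd_iff_le_factorization hq Nat.card_pos.ne', ← Q.card_eq_multiplicity]
        exact Subgroup.card_dvd_of_le hQC
    exact Subgroup.eq_top_of_le_card _ (Nat.le_of_dvd Nat.card_pos hdvd)
  have hkC : (⟨k, hk⟩ : ↥K) ∈ C := by rw [hCtop]; trivial
  have hk2 : k ∈ Subgroup.centralizer ({y} : Set Γ) := hkC
  rw [Subgroup.mem_centralizer_singleton_iff] at hk2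
  exact hk2

end dualHH2

section elem

variable {Γ : Type*} [Group Γ]

/-- conjugation preserves a closure if it maps the generators into the closure -/
theorem conj_mem_closure {S : Set Γ} (h : Γ) (hS : ∀ s ∈ S, h * s * h⁻¹ ∈ Subgroup.closure S) :
    ∀ y ∈ Subgroup.closure S, h * y * h⁻¹ ∈ Subgroup.closure S := by
  intro y hy
  induction hy using Subgroup.closure_induction with
  | mem x hx => exact hS x hx
  | one => simp
  | mul x y _ _ hx hy =>
    have : h * (x * y) * h⁻¹ = (h * x * h⁻¹) * (h * y * h⁻¹) := by group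
    rw [this]; exact Subgroup.mul_mem _ hx hy
  | inv x _ hx =>
    have : h * x⁻¹ * h⁻¹ = (h * x * h⁻¹)⁻¹ := by group
    rw [this]; exact Subgroup.inv_mem _ hx

/-- conjugation preserves a commutator subgroup of invariant subgroups -/
theorem conj_mem_commutator' (A B : Subgroup Γ) (h : Γ) (hA : ∀ x ∈ A, h * x * h⁻¹ ∈ A)
    (hB : ∀ x ∈ B, h * x * h⁻¹ ∈ B) : ∀ y ∈ ⁅A, B⁆, h * y * h⁻¹ ∈ ⁅A, B⁆ := by
  rw [Subgroup.commutator_def]
  apply conj_mem_closure
  rintro _ ⟨x, hx, y, hy, rfl⟩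
  apply Subgroup.subset_closure
  refine ⟨h * x * h⁻¹, hA x hx, h * y * h⁻¹, hB y hy, ?_⟩
  simp only [commutatorElement_def]
  group

/-- coprime action, elementwise: if `y = x⁻¹ (a x a⁻¹)` commutes with `a`, `a ^ n = 1`, `y ^ m = 1`
and `n`, `m` are coprime, then `y = 1` -/
theorem comm_eq_one_of_coprime (a x : Γ) (n m : ℕ) (ha : a ^ n = 1)
    (hcomm : a * (x⁻¹ * (a * x * a⁻¹)) = x⁻¹ * (a * x * a⁻¹) * a)
    (hy : (x⁻¹ * (a * x * a⁻¹)) ^ m = 1) (hnm : Nat.Coprime n m) :
    x⁻¹ * (a * x * a⁻¹) = 1 := by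
  set y := x⁻¹ * (a * x * a⁻¹) with hydef
  have hc : Commute a y := hcomm
  have h1 : ∀ k : ℕ, a ^ k * x * (a ^ k)⁻¹ = x * y ^ k := by
    intro k
    induction k with
    | zero => simp
    | succ k ih =>
      have h2 : a ^ (k + 1) * x * (a ^ (k + 1))⁻¹ = a * (a ^ k * x * (a ^ k)⁻¹) * a⁻¹ := by
        rw [pow_succ']; group
      rw [h2, ih]
      have h3 : a * (x * y ^ k) * a⁻¹ = (a * x * a⁻¹) * (a * y ^ k * a⁻¹) := by group
      have h4 : a * y ^ k * a⁻¹ = y ^ k := by
        rw [(hc.pow_right k).eq]; group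
      have h5 : a * x * a⁻¹ = x * y := by rw [hydef]; group
      rw [h3, h4, h5, pow_succ', mul_assoc]
  have h2 := h1 n
  rw [ha] at h2
  have h3 : y ^ n = 1 := by
    have : x * y ^ n = x := by rw [← h2]; group
    exact mul_eq_left.mp this
  have hg : y ^ Nat.gcd n m = 1 := pow_gcd_eq_one.mpr ⟨h3, hy⟩
  rw [hnm, pow_one] at hg
  exact hg

end elem

section res

variable {Γ : Type*} [Group Γ] {V : Type*} [CommGroup V]

/-- the action of a subgroup stabilizing a subgroup `U` of `V`, restricted to `U` -/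
def resAct (act : Γ →* MulAut V) (U : Subgroup V) (S : Subgroup Γ)
    (hS : ∀ s ∈ S, ∀ u ∈ U, act s u ∈ U) : ↥S →* MulAut ↥U where
  toFun s :=
    { toFun := fun u => ⟨act s u, hS s s.2 u u.2⟩
      invFun := fun u => ⟨act (s : Γ)⁻¹ u, hS _ (S.inv_mem s.2) u u.2⟩
      left_inv := fun u => by
        apply Subtype.ext
        show act (s : Γ)⁻¹ (act s u) = u
        rw [← MulAut.mul_apply, ← map_mul, inv_mul_cancel, map_one]; rfl
      right_inv := fun u => by
        apply Subtype.ext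
        show act s (act (s : Γ)⁻¹ u) = u
        rw [← MulAut.mul_apply, ← map_mul, mul_inv_cancel, map_one]; rfl
      map_mul' := fun u v => by
        apply Subtype.ext
        show act s ((u : V) * v) = act s u * act s v
        rw [map_mul] }
  map_one' := by
    ext u
    show act ((1 : ↥S) : Γ) u = u
    rw [Subgroup.coe_one, map_one]; rfl
  map_mul' s t := by
    ext u
    show act ((s * t : ↥S) : Γ) u = act s (act t u)
    rw [Subgroup.coe_mul, map_mul]; rfl

theorem resAct_apply (act : Γ →* MulAut V) (U : Subgroup V) (S : Subgroup Γ)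
    (hS : ∀ s ∈ S, ∀ u ∈ U, act s u ∈ U) (s : ↥S) (u : ↥U) :
    ((resAct act U S hS s u : ↥U) : V) = act s u := rfl

end res

section quadU

universe u

variable {Γ : Type*} [Group Γ] {V : Type u} [CommGroup V] [Finite V] {p : ℕ} [hp : Fact p.Prime]

/-- Theorem B (abelian case) on an invariant subgroup `U` of `V`: a quadratic element `a` of order
`p` commutes on `U` with every `a`-invariant `q`-subgroup `D` which acts on `U` as an abelian
group. -/
theorem comm_on_of_abelian_on (hp2 : p ≠ 2) (hV : ∀ v : V, v ^ p = 1) (act : Γ →* MulAut V)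
    (U : Subgroup V) (a : Γ) (ha : a ^ p = 1) (haU : ∀ u ∈ U, act a u ∈ U)
    (hquad : ∀ u ∈ U, act a (act a u * u⁻¹) * (act a u * u⁻¹)⁻¹ = 1)
    (q : ℕ) [hq : Fact q.Prime] (hqp : q ≠ p) (D : Subgroup Γ) (hD : IsPGroup q D)
    (hDU : ∀ d ∈ D, ∀ u ∈ U, act d u ∈ U) (hDa : ∀ d ∈ D, a * d * a⁻¹ ∈ D)
    (hab : ∀ d ∈ D, ∀ d' ∈ D, ∀ u ∈ U, act d (act d' u) = act d' (act d u)) :
    ∀ d ∈ D, ∀ u ∈ U, act a (act d u) = act d (act a u) := by
  classical
  have haU' : ∀ s ∈ Subgroup.zpowers a, ∀ u ∈ U, act s u ∈ U := by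
    intro s hs
    have hainv : a⁻¹ = a ^ (p - 1) := by
      have h1 : a ^ (p - 1) * a = 1 := by
        rw [← pow_succ, Nat.sub_add_cancel hp.out.one_le, ha]
      exact (eq_inv_of_mul_eq_one_left h1).symm
    have hnat : ∀ k : ℕ, ∀ u ∈ U, act (a ^ k) u ∈ U := by
      intro k
      induction k with
      | zero => intro u hu; simpa using hu
      | succ k ih =>
        intro u hu
        rw [pow_succ, map_mul, MulAut.mul_apply]
        exact ih _ (haU u hu)
    obtain ⟨k, rfl⟩ := Subgroup.mem_zpowers_iff.mp hs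
    intro u hu
    rcases Int.eq_nat_or_neg k with ⟨n, rfl | rfl⟩
    · rw [zpow_natCast]; exact hnat n u hu
    · rw [zpow_neg, zpow_natCast, ← inv_pow, hainv, ← pow_mul]; exact hnat _ u hu
  let ρa := resAct act U (Subgroup.zpowers a) haU'
  let ρD := resAct act U D hDU
  let X : MulAut ↥U := ρa ⟨a, Subgroup.mem_zpowers a⟩
  have hXapp : ∀ u : ↥U, ((X u : ↥U) : V) = act a u := fun _ => rfl
  have hDapp : ∀ (d : ↥D) (u : ↥U), ((ρD d u : ↥U) : V) = act d u := fun _ _ => rfl
  have hXp : X ^ p = 1 := by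
    show (ρa ⟨a, Subgroup.mem_zpowers a⟩) ^ p = 1
    rw [← map_pow]
    have : (⟨a, Subgroup.mem_zpowers a⟩ : ↥(Subgroup.zpowers a)) ^ p = 1 := by
      apply Subtype.ext
      simp [ha]
    rw [this, map_one]
  have hVU : ∀ u : ↥U, u ^ p = 1 := fun u => by
    apply Subtype.ext
    simp [hV]
  have hXquad : ∀ u : ↥U, X (X u * u⁻¹) * (X u * u⁻¹)⁻¹ = 1 := by
    intro u
    apply Subtype.ext
    have := hquad u u.2
    simpa [hXapp] using this
  have hQ : IsPGroup q ρD.range :=
    IsPGroup.of_surjective hD ρD.rangeRestrict ρD.rangeRestrict_surjective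
  have hinv : ∀ g ∈ ρD.range, X * g * X⁻¹ ∈ ρD.range := by
    rintro _ ⟨d, rfl⟩
    refine ⟨⟨a * d * a⁻¹, hDa d d.2⟩, ?_⟩
    ext u
    rw [hDapp]
    show act (a * (d : Γ) * a⁻¹) u = act a (act d (((X⁻¹ : MulAut ↥U) u : ↥U) : V))
    have h1 : (((X⁻¹ : MulAut ↥U) u : ↥U) : V) = act a⁻¹ u := by
      have h2 : X ((X⁻¹ : MulAut ↥U) u) = u := by
        rw [← MulAut.mul_apply, mul_inv_cancel]; rfl
      have h3 := congrArg Subtype.val h2
      rw [hXapp] at h3
      have h4 : act a⁻¹ (act a (((X⁻¹ : MulAut ↥U) u : ↥U) : V)) = act a⁻¹ (u : V) := by rw [h3]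
      rw [← MulAut.mul_apply, ← map_mul, inv_mul_cancel, map_one] at h4
      exact h4
    rw [h1, map_mul, map_mul]
    rfl
  have habQ : ∀ g ∈ ρD.range, ∀ g' ∈ ρD.range, g * g' = g' * g := by
    rintro _ ⟨d, rfl⟩ _ ⟨d', rfl⟩
    ext u
    show act d (act d' u) = act d' (act d u)
    exact hab d d.2 d' d'.2 u u.2
  have hmain := quad_comm_of_comm hp2 hVU X hXp hXquad q hqp ρD.range hQ hinv habQ
  intro d hd u hu
  have h1 := hmain (ρD ⟨d, hd⟩) ⟨⟨d, hd⟩, rfl⟩
  have h2 := congrArg (fun g : MulAut ↥U => ((g ⟨u, hu⟩ : ↥U) : V)) h1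
  exact h2

end quadU

end Cfsg.Agent.Lib.Helper67
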