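import Cfsg.Agent.Lib.Helper67.Der2

/-!
# The minimal configuration for the derived-length bound: group-theoretic structure
-/

set_option autoImplicit false
set_option linter.style.haveILetI false
set_option linter.unusedSectionVars false
set_option linter.unusedVariables false
set_option linter.unnecessarySimpa false

namespace Cfsg.Agent.Lib.Helper67

open Cfsg
open scoped commutatorElement

/-- the minimal configuration: a `3`-group `H` with `a ∈ Z(H) ∩ H'` of order `3`, a minimal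
`H`-invariant `2`-group `Q` not centralized by `a`, acting faithfully on the elementary abelian
`3`-group `V` with `a` quadratic and `[V, H, H] ≤ C_V(a)` -/
structure DCfg {Γ V : Type*} [Group Γ] [CommGroup V] (act : Γ →* MulAut V) where
  H : Subgroup Γ
  Q : Subgroup Γ
  a : Γ
  hH3 : IsPGroup 3 H
  hQ2 : IsPGroup 2 Q
  haH' : a ∈ ⁅H, H⁆
  hacent : ∀ h ∈ H, a * h = h * a
  ha3 : a ^ 3 = 1
  hHQ : ∀ h ∈ H, ∀ x ∈ Q, h * x * h⁻¹ ∈ Q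
  hnc : ∃ x ∈ Q, a * x ≠ x * a
  hmin : ∀ Q' : Subgroup Γ, Q' ≤ Q → (∀ h ∈ H, ∀ x ∈ Q', h * x * h⁻¹ ∈ Q') →
    (∃ x ∈ Q', a * x ≠ x * a) → Q' = Q
  hV : ∀ v : V, v ^ 3 = 1
  hR : ∀ h ∈ H, ∀ h' ∈ H, ∀ v : V,
    act a (act h' (act h v * v⁻¹) * (act h v * v⁻¹)⁻¹) =
      act h' (act h v * v⁻¹) * (act h v * v⁻¹)⁻¹
  hquad : ∀ v : V, act a (act a v * v⁻¹) * (act a v * v⁻¹)⁻¹ = 1
  hfaith : Function.Injective act

theorem conj_cgen {Γ : Type*} [Group Γ] (a h x : Γ) (hah : a * h = h * a) :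
    h * (x⁻¹ * (a * x * a⁻¹)) * h⁻¹ = (h * x * h⁻¹)⁻¹ * (a * (h * x * h⁻¹) * a⁻¹) := by
  have ha : h * a * h⁻¹ = a := by rw [← hah, mul_inv_cancel_right]
  calc h * (x⁻¹ * (a * x * a⁻¹)) * h⁻¹
      = (h * x * h⁻¹)⁻¹ * ((h * a * h⁻¹) * (h * x * h⁻¹) * (h * a * h⁻¹)⁻¹) := by group
    _ = _ := by rw [ha]

namespace DCfg

variable {Γ V : Type*} [Group Γ] [Finite Γ] [CommGroup V] {act : Γ →* MulAut V} (c : DCfg act)

theorem haH : c.a ∈ c.H :=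
  (Subgroup.commutator_le.mpr (fun g₁ h₁ g₂ h₂ =>
    c.H.mul_mem (c.H.mul_mem (c.H.mul_mem h₁ h₂) (c.H.inv_mem h₁)) (c.H.inv_mem h₂))) c.haH'

/-- `C_Q(a)` -/
def Z : Subgroup Γ := c.Q ⊓ Subgroup.centralizer {c.a}

theorem mem_Z {z : Γ} : z ∈ c.Z ↔ z ∈ c.Q ∧ c.a * z = z * c.a := by
  unfold Z
  rw [Subgroup.mem_inf, Subgroup.mem_centralizer_singleton_iff, eq_comm]

theorem Z_le : c.Z ≤ c.Q := inf_le_left

theorem aconj_mem {x : Γ} (hx : x ∈ c.Q) : c.a * x * c.a⁻¹ ∈ c.Q := c.hHQ _ c.haH x hx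

theorem Z_conj {h : Γ} (hh : h ∈ c.H) {z : Γ} (hz : z ∈ c.Z) : h * z * h⁻¹ ∈ c.Z := by
  rw [mem_Z] at hz ⊢
  refine ⟨c.hHQ h hh z hz.1, ?_⟩
  have hah : Commute c.a h := c.hacent h hh
  have haz : Commute c.a z := hz.2
  exact ((hah.mul_right haz).mul_right hah.inv_right).eq

theorem le_Z_of_ne {Q' : Subgroup Γ} (hle : Q' ≤ c.Q)
    (hinv : ∀ h ∈ c.H, ∀ x ∈ Q', h * x * h⁻¹ ∈ Q') (hne : Q' ≠ c.Q) : Q' ≤ c.Z := by
  intro x hx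
  rw [mem_Z]
  refine ⟨hle hx, ?_⟩
  by_contra hcon
  exact hne (c.hmin Q' hle hinv ⟨x, hx, hcon⟩)

theorem pow_two_pow_eq_one {x : Γ} (hx : x ∈ c.Q) : ∃ k : ℕ, x ^ 2 ^ k = 1 := by
  obtain ⟨k, hk⟩ := c.hQ2 ⟨x, hx⟩
  exact ⟨k, by simpa using congrArg Subtype.val hk⟩

/-- coprime action: if `x⁻¹ (a x a⁻¹)` commutes with `a` then `a` centralizes `x` -/
theorem comm_of_cgen_comm {x : Γ} (hx : x ∈ c.Q)
    (h : c.a * (x⁻¹ * (c.a * x * c.a⁻¹)) = x⁻¹ * (c.a * x * c.a⁻¹) * c.a) :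
    c.a * x = x * c.a := by
  have hy : x⁻¹ * (c.a * x * c.a⁻¹) ∈ c.Q := c.Q.mul_mem (c.Q.inv_mem hx) (c.aconj_mem hx)
  obtain ⟨k, hk⟩ := c.pow_two_pow_eq_one hy
  have hcop : Nat.Coprime 3 (2 ^ k) := Nat.Coprime.pow_right _ (by norm_num)
  have h1 := comm_eq_one_of_coprime c.a x 3 (2 ^ k) c.ha3 h hk hcop
  have h2 : x = c.a * x * c.a⁻¹ := inv_mul_eq_one.mp h1
  exact (mul_inv_eq_iff_eq_mul.mp h2.symm)

theorem mem_Z_of_cgen_mem {x : Γ} (hx : x ∈ c.Q) (h : x⁻¹ * (c.a * x * c.a⁻¹) ∈ c.Z) :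
    x ∈ c.Z := by
  rw [mem_Z] at h ⊢
  exact ⟨hx, c.comm_of_cgen_comm hx h.2⟩

/-- `[Q, a] = Q` -/
theorem closure_cgen_eq :
    Subgroup.closure {y : Γ | ∃ x ∈ c.Q, y = x⁻¹ * (c.a * x * c.a⁻¹)} = c.Q := by
  apply c.hmin
  · rw [Subgroup.closure_le]
    rintro _ ⟨x, hx, rfl⟩
    exact c.Q.mul_mem (c.Q.inv_mem hx) (c.aconj_mem hx)
  · intro h hh
    apply conj_mem_closure
    rintro _ ⟨x, hx, rfl⟩
    apply Subgroup.subset_closure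
    exact ⟨h * x * h⁻¹, c.hHQ h hh x hx, conj_cgen c.a h x (c.hacent h hh)⟩
  · by_contra hcon
    push Not at hcon
    obtain ⟨x, hx, hne⟩ := c.hnc
    apply hne
    apply c.comm_of_cgen_comm hx
    exact hcon _ (Subgroup.subset_closure ⟨x, hx, rfl⟩)

theorem le_of_cgen_mem (N : Subgroup Γ) (h : ∀ x ∈ c.Q, x⁻¹ * (c.a * x * c.a⁻¹) ∈ N) :
    c.Q ≤ N := by
  rw [← c.closure_cgen_eq, Subgroup.closure_le]
  rintro _ ⟨x, hx, rfl⟩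
  exact h x hx

theorem comm_le_Z : ⁅c.Q, c.Q⁆ ≤ c.Z := by
  apply c.le_Z_of_ne
  · exact Subgroup.commutator_le.mpr (fun g₁ h₁ g₂ h₂ =>
      c.Q.mul_mem (c.Q.mul_mem (c.Q.mul_mem h₁ h₂) (c.Q.inv_mem h₁)) (c.Q.inv_mem h₂))
  · intro h hh
    exact conj_mem_commutator' c.Q c.Q h (c.hHQ h hh) (c.hHQ h hh)
  · intro heq
    obtain ⟨x, hx, hne⟩ := c.hnc
    have hx1 : x ≠ 1 := by
      rintro rfl
      simp at hne
    haveI : Nontrivial ↥c.Q := (Subgroup.nontrivial_iff_exists_ne_one c.Q).mpr ⟨x, hx, hx1⟩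
    haveI : Fact (Nat.Prime 2) := ⟨Nat.prime_two⟩
    haveI : Group.IsNilpotent ↥c.Q := c.hQ2.isNilpotent
    have hlt := Group.IsSolvable.commutator_lt_top_of_nontrivial ↥c.Q
    have h1 : (_root_.commutator ↥c.Q).map c.Q.subtype = (⊤ : Subgroup ↥c.Q).map c.Q.subtype := by
      rw [Subgroup.map_subtype_commutator, heq, ← MonoidHom.range_eq_map, Subgroup.range_subtype]
    exact hlt.ne (Subgroup.map_injective c.Q.subtype_injective h1)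

theorem comm_mem_Z {x y : Γ} (hx : x ∈ c.Q) (hy : y ∈ c.Q) : ⁅x, y⁆ ∈ c.Z :=
  c.comm_le_Z (Subgroup.commutator_mem_commutator hx hy)

/-- `Z` is central in `Q` -/
theorem Z_central {z : Γ} (hz : z ∈ c.Z) {x : Γ} (hx : x ∈ c.Q) : z * x = x * z := by
  have hQle : c.Q ≤ c.Q ⊓ Subgroup.centralizer (c.Z : Set Γ) := by
    apply c.le_of_cgen_mem
    intro x hx
    rw [Subgroup.mem_inf]
    refine ⟨c.Q.mul_mem (c.Q.inv_mem hx) (c.aconj_mem hx), ?_⟩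
    rw [Subgroup.mem_centralizer_iff]
    intro z hz
    set y := x⁻¹ * (c.a * x * c.a⁻¹) with hy
    have hzQ : z ∈ c.Q := c.Z_le hz
    have haz : c.a * z * c.a⁻¹ = z := by
      have := (c.mem_Z.mp hz).2
      rw [this, mul_inv_cancel_right]
    have hc0 : c.a * ⁅x, z⁆ * c.a⁻¹ = ⁅x, z⁆ := by
      have := (c.mem_Z.mp (c.comm_mem_Z hx hzQ)).2
      rw [this, mul_inv_cancel_right]
    have hxy : c.a * x * c.a⁻¹ = x * y := by rw [hy]; group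
    have E : x * y * z * (x * y)⁻¹ * z⁻¹ = x * z * x⁻¹ * z⁻¹ := by
      have h1 : c.a * ⁅x, z⁆ * c.a⁻¹ = ⁅c.a * x * c.a⁻¹, c.a * z * c.a⁻¹⁆ := by
        simp only [commutatorElement_def]; group
      rw [hc0, haz, hxy] at h1
      simp only [commutatorElement_def] at h1
      exact h1.symm
    have h : x⁻¹ * (x * y * z * (x * y)⁻¹ * z⁻¹) * z * x =
        x⁻¹ * (x * z * x⁻¹ * z⁻¹) * z * x := by rw [E]
    have l : x⁻¹ * (x * y * z * (x * y)⁻¹ * z⁻¹) * z * x = y * z * y⁻¹ := by group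
    have r : x⁻¹ * (x * z * x⁻¹ * z⁻¹) * z * x = z := by group
    rw [l, r] at h
    exact (mul_inv_eq_iff_eq_mul.mp h).symm
  have := (Subgroup.mem_inf.mp (hQle hx)).2
  rw [Subgroup.mem_centralizer_iff] at this
  exact this z hz

theorem conj_Z {z : Γ} (hz : z ∈ c.Z) {x : Γ} (hx : x ∈ c.Q) : x * z * x⁻¹ = z := by
  rw [← c.Z_central hz hx, mul_inv_cancel_right]

theorem aconj_Z {z : Γ} (hz : z ∈ c.Z) : c.a * z * c.a⁻¹ = z := by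
  rw [(c.mem_Z.mp hz).2, mul_inv_cancel_right]

theorem comm_mul_left {x y z : Γ} (hx : x ∈ c.Q) (hy : y ∈ c.Q) (hz : z ∈ c.Q) :
    ⁅x * y, z⁆ = ⁅x, z⁆ * ⁅y, z⁆ := by
  have e : ⁅x * y, z⁆ = (x * ⁅y, z⁆ * x⁻¹) * ⁅x, z⁆ := by
    simp only [commutatorElement_def]; group
  rw [e, c.conj_Z (c.comm_mem_Z hy hz) hx]
  exact c.Z_central (c.comm_mem_Z hy hz) (c.Z_le (c.comm_mem_Z hx hz))

theorem comm_mul_right {x y z : Γ} (hx : x ∈ c.Q) (hy : y ∈ c.Q) (hz : z ∈ c.Q) :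
    ⁅x, y * z⁆ = ⁅x, y⁆ * ⁅x, z⁆ := by
  have e : ⁅x, y * z⁆ = ⁅x, y⁆ * (y * ⁅x, z⁆ * y⁻¹) := by
    simp only [commutatorElement_def]; group
  rw [e, c.conj_Z (c.comm_mem_Z hx hz) hy]

theorem comm_Z_left {z y : Γ} (hz : z ∈ c.Z) (hy : y ∈ c.Q) : ⁅z, y⁆ = 1 :=
  commutatorElement_eq_one_iff_commute.mpr (c.Z_central hz hy)

theorem comm_Z_right {x z : Γ} (hx : x ∈ c.Q) (hz : z ∈ c.Z) : ⁅x, z⁆ = 1 :=
  commutatorElement_eq_one_iff_commute.mpr (c.Z_central hz hx).symm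

/-- squares lie in `Z` -/
theorem sq_mem_Z {x : Γ} (hx : x ∈ c.Q) : x * x ∈ c.Z := by
  let R : Subgroup Γ :=
    { carrier := {x | x ∈ c.Q ∧ x * x ∈ c.Z}
      one_mem' := ⟨c.Q.one_mem, by simpa using c.Z.one_mem⟩
      mul_mem' := by
        rintro x y ⟨hx, hx2⟩ ⟨hy, hy2⟩
        refine ⟨c.Q.mul_mem hx hy, ?_⟩
        have e : x * y * (x * y) = (x * x) * ⁅x⁻¹, y⁆ * (y * y) := by
          simp only [commutatorElement_def]; group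
        rw [e]
        exact c.Z.mul_mem (c.Z.mul_mem hx2 (c.comm_mem_Z (c.Q.inv_mem hx) hy)) hy2
      inv_mem' := by
        rintro x ⟨hx, hx2⟩
        refine ⟨c.Q.inv_mem hx, ?_⟩
        have e : x⁻¹ * x⁻¹ = (x * x)⁻¹ := by group
        rw [e]; exact c.Z.inv_mem hx2 }
  have hRle : R ≤ c.Q := fun x hx => hx.1
  have hRinv : ∀ h ∈ c.H, ∀ x ∈ R, h * x * h⁻¹ ∈ R := by
    rintro h hh x ⟨hx, hx2⟩
    refine ⟨c.hHQ h hh x hx, ?_⟩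
    have e : h * x * h⁻¹ * (h * x * h⁻¹) = h * (x * x) * h⁻¹ := by group
    rw [e]; exact c.Z_conj hh hx2
  have hReq : R = c.Q := by
    by_contra hne
    have hRZ := c.le_Z_of_ne hRle hRinv hne
    obtain ⟨x₀, hx₀, hne₀⟩ := c.hnc
    have hx₀Z : x₀ ∉ c.Z := fun h => hne₀ (c.mem_Z.mp h).2
    classical
    have hex : ∃ k : ℕ, x₀ ^ 2 ^ k ∈ c.Z := by
      obtain ⟨k, hk⟩ := c.pow_two_pow_eq_one hx₀
      exact ⟨k, by rw [hk]; exact c.Z.one_mem⟩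
    have hk0 : Nat.find hex ≠ 0 := by
      intro h0
      have := Nat.find_spec hex
      rw [h0, pow_zero, pow_one] at this
      exact hx₀Z this
    obtain ⟨k, hk⟩ := Nat.exists_eq_succ_of_ne_zero hk0
    have hnot : x₀ ^ 2 ^ k ∉ c.Z := Nat.find_min hex (by rw [hk]; exact Nat.lt_succ_self k)
    have hin : x₀ ^ 2 ^ k * x₀ ^ 2 ^ k ∈ c.Z := by
      have := Nat.find_spec hex
      rw [hk, Nat.succ_eq_add_one, pow_succ, pow_mul, pow_two] at this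
      exact this
    exact hnot (hRZ ⟨c.Q.pow_mem hx₀ _, hin⟩)
  have : x ∈ R := by rw [hReq]; exact hx
  exact this.2

theorem comm_sq {x y : Γ} (hx : x ∈ c.Q) (hy : y ∈ c.Q) : ⁅x, y⁆ * ⁅x, y⁆ = 1 := by
  rw [← c.comm_mul_left hx hx hy]
  exact c.comm_Z_left (c.sq_mem_Z hx) hy

theorem comm_inv_eq {x y : Γ} (hx : x ∈ c.Q) (hy : y ∈ c.Q) : ⁅x, y⁆⁻¹ = ⁅x, y⁆ :=
  inv_eq_of_mul_eq_one_left (c.comm_sq hx hy)

theorem comm_symm {x y : Γ} (hx : x ∈ c.Q) (hy : y ∈ c.Q) : ⁅y, x⁆ = ⁅x, y⁆ := by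
  rw [← commutatorElement_inv, c.comm_inv_eq hx hy]

theorem comm_aconj {x y : Γ} (hx : x ∈ c.Q) (hy : y ∈ c.Q) :
    ⁅c.a * x * c.a⁻¹, c.a * y * c.a⁻¹⁆ = ⁅x, y⁆ := by
  have h1 : ⁅c.a * x * c.a⁻¹, c.a * y * c.a⁻¹⁆ = c.a * ⁅x, y⁆ * c.a⁻¹ := by
    simp only [commutatorElement_def]; group
  rw [h1, c.aconj_Z (c.comm_mem_Z hx hy)]

theorem Z_ne : c.Z ≠ c.Q := by
  intro h
  obtain ⟨x, hx, hne⟩ := c.hnc
  rw [← h] at hx
  exact hne (c.mem_Z.mp hx).2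

end DCfg

end Cfsg.Agent.Lib.Helper67
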