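import Cfsg.Agent.Lib.Helper67.Der3

/-!
# The minimal configuration: a minimal submodule, central involutions
-/

set_option autoImplicit false
set_option linter.style.haveILetI false
set_option linter.unusedSectionVars false
set_option linter.unusedVariables false
set_option linter.unnecessarySimpa false

namespace Cfsg.Agent.Lib.Helper67

open Cfsg
open scoped commutatorElement

section addalg

/-- additive algebra for Step F -/
theorem add_algebra_tri {M : Type*} [AddCommGroup M] (u x₀ x₁ x₂ : M) (h3 : ∀ m : M, 3 • m = 0)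
    (e1 : u + x₀ = x₁ + x₂) (e2 : u + x₁ = x₂ + x₀) (e3 : u + x₂ = x₀ + x₁) : x₀ = u := by
  have hX : x₀ + x₁ + x₂ = 0 := by
    have h := h3 u
    have e : (x₀ + x₁ + x₂) = 3 • u := by
      have e' : (u + x₀) + (u + x₁) + (u + x₂) = (x₁ + x₂) + (x₂ + x₀) + (x₀ + x₁) := by
        rw [e1, e2, e3]
      have l : (u + x₀) + (u + x₁) + (u + x₂) = 3 • u + (x₀ + x₁ + x₂) := by abel
      have r : (x₁ + x₂) + (x₂ + x₀) + (x₀ + x₁) = (x₀ + x₁ + x₂) + (x₀ + x₁ + x₂) := by abel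
      rw [l, r] at e'
      have := add_right_cancel e'
      exact this.symm
    rw [e, h]
  have h1 : x₁ + x₂ = -x₀ := by
    have : x₀ + (x₁ + x₂) = 0 := by rw [← add_assoc]; exact hX
    exact (neg_eq_of_add_eq_zero_right this).symm
  rw [h1] at e1
  have h2 : u = -x₀ - x₀ := by
    have := eq_sub_of_add_eq e1
    exact this
  have h4 := h3 x₀
  have h5 : (3 : ℕ) • x₀ = x₀ + x₀ + x₀ := by abel
  rw [h5] at h4
  rw [h2]
  have : x₀ = -x₀ - x₀ + (x₀ + x₀ + x₀) := by abel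
  rw [h4, add_zero] at this
  exact this

theorem mul_algebra_tri {V : Type*} [CommGroup V] (u x₀ x₁ x₂ : V) (h3 : ∀ m : V, m ^ 3 = 1)
    (e1 : u * x₀ = x₁ * x₂) (e2 : u * x₁ = x₂ * x₀) (e3 : u * x₂ = x₀ * x₁) : x₀ = u := by
  have := add_algebra_tri (M := Additive V) (Additive.ofMul u) (Additive.ofMul x₀)
    (Additive.ofMul x₁) (Additive.ofMul x₂)
    (fun m => congrArg Additive.ofMul (h3 (Additive.toMul m)))
    (congrArg Additive.ofMul e1) (congrArg Additive.ofMul e2) (congrArg Additive.ofMul e3)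
  exact Additive.ofMul.injective this

theorem eq_one_of_sq_of_cube {V : Type*} [Group V] (d : V) (h2 : d * d = 1) (h3 : d ^ 3 = 1) :
    d = 1 := by
  have : d ^ 3 = d * d * d := by rw [pow_succ, pow_two]
  rw [this, h2, one_mul] at h3
  exact h3

theorem split_pm {V : Type*} [CommGroup V] (u w : V) (h3 : u ^ 3 = 1) :
    (u * w) ^ 2 * (u * w⁻¹) ^ 2 = u := by
  rw [← mul_pow]
  have h1 : u * w * (u * w⁻¹) = u ^ 2 := by
    rw [mul_mul_mul_comm, mul_inv_cancel, mul_one, pow_two]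
  rw [h1, ← pow_mul]
  have : u ^ (2 * 2) = u ^ 3 * u := by rw [← pow_succ]
  rw [this, h3, one_mul]

end addalg

section act

variable {Γ V : Type*} [Group Γ] [CommGroup V] (act : Γ →* MulAut V)

theorem act_mul_apply (g g' : Γ) (v : V) : act (g * g') v = act g (act g' v) := by
  rw [map_mul]; rfl

theorem act_inv_apply_apply (g : Γ) (v : V) : act g⁻¹ (act g v) = v := by
  rw [← act_mul_apply, inv_mul_cancel, map_one]; rfl

theorem act_apply_inv_apply (g : Γ) (v : V) : act g (act g⁻¹ v) = v := by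
  rw [← act_mul_apply, mul_inv_cancel, map_one]; rfl

theorem act_comm_of_comm {g g' : Γ} (h : g * g' = g' * g) (v : V) :
    act g (act g' v) = act g' (act g v) := by
  rw [← act_mul_apply, h, act_mul_apply]

/-- the pointwise fixer of a subgroup of `V` -/
def fixer (U : Subgroup V) : Subgroup Γ where
  carrier := {g | ∀ u ∈ U, act g u = u}
  one_mem' := by intro u _; rw [map_one]; rfl
  mul_mem' := by
    intro g g' hg hg' u hu
    rw [act_mul_apply, hg' u hu, hg u hu]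
  inv_mem' := by
    intro g hg u hu
    have := hg u hu
    conv_lhs => rw [← this]
    exact act_inv_apply_apply act g u

theorem mem_fixer {U : Subgroup V} {g : Γ} : g ∈ fixer act U ↔ ∀ u ∈ U, act g u = u := Iff.rfl

end act

namespace DCfg

variable {Γ V : Type*} [Group Γ] [Finite Γ] [CommGroup V] {act : Γ →* MulAut V} (c : DCfg act)

/-- invariance under `Q` and `H` -/
def Inv (U : Subgroup V) : Prop :=
  (∀ x ∈ c.Q, ∀ u ∈ U, act x u ∈ U) ∧ (∀ h ∈ c.H, ∀ u ∈ U, act h u ∈ U)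

/-- `Q` acts trivially -/
def Triv (U : Subgroup V) : Prop := ∀ x ∈ c.Q, ∀ u ∈ U, act x u = u

/-- a minimal invariant subgroup on which `Q` acts nontrivially -/
structure MinMod (U : Subgroup V) : Prop where
  inv : c.Inv U
  ntriv : ¬ c.Triv U
  min : ∀ U' : Subgroup V, U' ≤ U → c.Inv U' → U' ≠ U → c.Triv U'

theorem exists_minMod [Finite V] : ∃ U : Subgroup V, c.MinMod U := by
  classical
  have hex : ∃ n : ℕ, ∃ U : Subgroup V, c.Inv U ∧ ¬ c.Triv U ∧ Nat.card U = n := by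
    refine ⟨_, ⊤, ⟨fun _ _ _ _ => Subgroup.mem_top _, fun _ _ _ _ => Subgroup.mem_top _⟩, ?_, rfl⟩
    intro htriv
    obtain ⟨x, hx, hne⟩ := c.hnc
    apply hne
    have : x = 1 := by
      apply c.hfaith
      ext v
      rw [htriv x hx v (Subgroup.mem_top _), map_one]; rfl
    rw [this, mul_one, one_mul]
  obtain ⟨U, hinv, hnt, hcard⟩ := Nat.find_spec hex
  refine ⟨U, hinv, hnt, ?_⟩
  intro U' hle hinv' hne
  by_contra hnt'
  have hlt : Nat.card U' < Nat.card U := by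
    by_contra hge
    push Not at hge
    exact hne (Subgroup.eq_of_le_of_card_ge hle hge)
  rw [hcard] at hlt
  exact Nat.find_min hex hlt ⟨U', hinv', hnt', rfl⟩

variable {c} {U : Subgroup V}

theorem MinMod.a_mem (hU : c.MinMod U) {u : V} (hu : u ∈ U) : act c.a u ∈ U :=
  hU.inv.2 _ c.haH u hu

theorem MinMod.ainv_mem (hU : c.MinMod U) {u : V} (hu : u ∈ U) : act c.a⁻¹ u ∈ U :=
  hU.inv.2 _ (c.H.inv_mem c.haH) u hu

theorem MinMod.Z_mem (hU : c.MinMod U) {z : Γ} (hz : z ∈ c.Z) {u : V} (hu : u ∈ U) :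
    act z u ∈ U := hU.inv.1 _ (c.Z_le hz) u hu

/-- the kernel of `Q` on `U` -/
def kerU (c : DCfg act) (U : Subgroup V) : Subgroup Γ := c.Q ⊓ fixer act U

theorem mem_kerU {x : Γ} : x ∈ c.kerU U ↔ x ∈ c.Q ∧ ∀ u ∈ U, act x u = u := by
  unfold kerU
  rw [Subgroup.mem_inf]; rfl

theorem MinMod.kerU_le_Z (hU : c.MinMod U) : c.kerU U ≤ c.Z := by
  have hle : c.kerU U ≤ c.Q := inf_le_left
  apply c.le_Z_of_ne hle
  · intro h hh x hx
    rw [mem_kerU] at hx ⊢
    refine ⟨c.hHQ h hh x hx.1, ?_⟩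
    intro u hu
    rw [act_mul_apply, act_mul_apply, hx.2 _ (hU.inv.2 _ (c.H.inv_mem hh) u hu),
      act_apply_inv_apply]
  · intro heq
    apply hU.ntriv
    intro x hx u hu
    rw [← heq] at hx
    exact (mem_kerU.mp hx).2 u hu

/-- if `a` acts trivially on a `Q`- and `a`-invariant subgroup `U₀`, so does `Q` -/
theorem triv_of_a_triv (c : DCfg act) (U₀ : Subgroup V) (hQ : ∀ x ∈ c.Q, ∀ u ∈ U₀, act x u ∈ U₀)
    (ha : ∀ u ∈ U₀, act c.a u = u) : ∀ x ∈ c.Q, ∀ u ∈ U₀, act x u = u := by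
  have hle : c.Q ≤ fixer act U₀ := by
    apply c.le_of_cgen_mem
    intro x hx u hu
    have h1 : act c.a⁻¹ u = u := by
      conv_lhs => rw [← ha u hu]
      exact act_inv_apply_apply act c.a u
    rw [act_mul_apply, act_mul_apply, act_mul_apply, h1, ha _ (hQ x hx u hu),
      act_inv_apply_apply]
  exact fun x hx => hle hx

/-- the cyclic triple of central involutions in Step F -/
structure Tri (c : DCfg act) (U : Subgroup V) (s₀ s₁ s₂ h : Γ) : Prop where
  hs₀ : s₀ ∈ c.Z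
  hs₁ : s₁ ∈ c.Z
  hs₂ : s₂ ∈ c.Z
  hh : h ∈ c.H
  sq₀ : ∀ u ∈ U, act s₀ (act s₀ u) = u
  sq₁ : ∀ u ∈ U, act s₁ (act s₁ u) = u
  sq₂ : ∀ u ∈ U, act s₂ (act s₂ u) = u
  m01 : ∀ u ∈ U, act s₀ (act s₁ u) = act s₂ u
  m12 : ∀ u ∈ U, act s₁ (act s₂ u) = act s₀ u
  m20 : ∀ u ∈ U, act s₂ (act s₀ u) = act s₁ u
  c0 : ∀ u ∈ U, act h (act s₀ u) = act s₁ (act h u)
  c1 : ∀ u ∈ U, act h (act s₁ u) = act s₂ (act h u)
  c2 : ∀ u ∈ U, act h (act s₂ u) = act s₀ (act h u)

theorem Tri.rot {s₀ s₁ s₂ h : Γ} (T : Tri c U s₀ s₁ s₂ h) : Tri c U s₁ s₂ s₀ h :=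
  ⟨T.hs₁, T.hs₂, T.hs₀, T.hh, T.sq₁, T.sq₂, T.sq₀, T.m12, T.m20, T.m01, T.c1, T.c2, T.c0⟩

theorem Z_comm (c : DCfg act) {z z' : Γ} (hz : z ∈ c.Z) (hz' : z' ∈ c.Z) : z * z' = z' * z :=
  c.Z_central hz (c.Z_le hz')

/-- the `(+,-)`-eigenspace of `(s₀, s₁)` is trivial -/
theorem Tri.eigen_trivial (hU : c.MinMod U) {s₀ s₁ s₂ h : Γ} (T : Tri c U s₀ s₁ s₂ h) :
    ∀ u ∈ U, act s₀ u = u → act s₁ u = u⁻¹ → u = 1 := by
  let U₀ : Subgroup V :=
    { carrier := {u | u ∈ U ∧ act s₀ u = u ∧ act s₁ u = u⁻¹}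
      one_mem' := ⟨U.one_mem, by simp, by simp⟩
      mul_mem' := by
        rintro u v ⟨hu, hu0, hu1⟩ ⟨hv, hv0, hv1⟩
        refine ⟨U.mul_mem hu hv, ?_, ?_⟩
        · rw [map_mul, hu0, hv0]
        · rw [map_mul, hu1, hv1, mul_inv]
      inv_mem' := by
        rintro u ⟨hu, hu0, hu1⟩
        refine ⟨U.inv_mem hu, ?_, ?_⟩
        · rw [map_inv, hu0]
        · rw [map_inv, hu1] }
  have hU₀Q : ∀ x ∈ c.Q, ∀ u ∈ U₀, act x u ∈ U₀ := by
    rintro x hx u ⟨hu, hu0, hu1⟩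
    refine ⟨hU.inv.1 x hx u hu, ?_, ?_⟩
    · rw [act_comm_of_comm act (c.Z_central T.hs₀ hx), hu0]
    · rw [act_comm_of_comm act (c.Z_central T.hs₁ hx), hu1, map_inv]
  have hah : c.a * h = h * c.a := c.hacent h T.hh
  -- Step 1: `a` acts trivially on `U₀`
  have hstep1 : ∀ u ∈ U₀, act c.a u = u := by
    rintro u ⟨hu, hu0, hu1⟩
    set d := act c.a u * u⁻¹ with hd
    have hdU : d ∈ U := U.mul_mem (hU.a_mem hu) (U.inv_mem hu)
    have hd0 : act s₀ d = d := by
      rw [hd, map_mul, map_inv, hu0,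
        act_comm_of_comm act (c.mem_Z.mp T.hs₀).2.symm, hu0]
    have hd1 : act s₁ d = d⁻¹ := by
      rw [hd, map_mul, map_inv, hu1,
        act_comm_of_comm act (c.mem_Z.mp T.hs₁).2.symm, hu1, map_inv, mul_inv]
    have hd2 : act s₂ d = d⁻¹ := by
      rw [← T.m01 d hdU, hd1, map_inv, hd0]
    set A := act h d with hA
    set B := act h A with hB
    have hAU : A ∈ U := hU.inv.2 h T.hh d hdU
    -- from the relation `(a-1)(h-1)^2 = 0`
    have E1 : B * A⁻¹ = A * d⁻¹ := by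
      have hR := c.hR h T.hh h T.hh u
      have hR2 := c.hR h T.hh h T.hh u
      -- cm2 is a homomorphism commuting with `a`
      have key : act h (act h d * d⁻¹) * (act h d * d⁻¹)⁻¹ = 1 := by
        have e1 : act h (act h d * d⁻¹) * (act h d * d⁻¹)⁻¹ =
            act c.a (act h (act h u * u⁻¹) * (act h u * u⁻¹)⁻¹) *
              (act h (act h u * u⁻¹) * (act h u * u⁻¹)⁻¹)⁻¹ := by
          have ea : ∀ v : V, act c.a (act h v) = act h (act c.a v) :=
            fun v => act_comm_of_comm act hah v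
          rw [hd]
          simp only [map_mul, map_inv, ea]
          simp only [mul_inv_rev, inv_inv]
          simp only [mul_comm, mul_left_comm, mul_assoc]
        rw [e1, hR, mul_inv_cancel]
      rw [← hA, map_mul, map_inv, ← hB] at key
      exact mul_inv_eq_one.mp key
    have hA0 : act s₀ A = A⁻¹ := by
      rw [hA, ← T.c2 d hdU, hd2, map_inv]
    have hA2 : act s₂ A = A⁻¹ := by
      rw [hA, ← T.c1 d hdU, hd1, map_inv]
    have hB0 : act s₀ B = B⁻¹ := by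
      rw [hB, ← T.c2 A hAU, hA2, map_inv]
    have E2 : B⁻¹ * A = A⁻¹ * d⁻¹ := by
      have := congrArg (act s₀) E1
      rw [map_mul, map_mul, map_inv, map_inv, hB0, hA0, hd0, inv_inv] at this
      exact this
    have hdd : d * d = 1 := by
      have h1 : (B * A⁻¹) * (B⁻¹ * A) = (A * d⁻¹) * (A⁻¹ * d⁻¹) := by rw [E1, E2]
      rw [mul_mul_mul_comm, mul_inv_cancel, inv_mul_cancel, one_mul, mul_mul_mul_comm,
        mul_inv_cancel, one_mul] at h1
      have h2 : (d * d)⁻¹ = 1 := by rw [mul_inv]; exact h1.symm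
      exact inv_eq_one.mp h2
    have hd1' := eq_one_of_sq_of_cube d hdd (c.hV d)
    rw [hd] at hd1'
    exact mul_inv_eq_one.mp hd1'
  have htriv := c.triv_of_a_triv U₀ hU₀Q hstep1
  intro u hu hu0 hu1
  have h1 := htriv s₁ (c.Z_le T.hs₁) u ⟨hu, hu0, hu1⟩
  rw [hu1] at h1
  have h2 : u * u = 1 := by
    have := mul_inv_cancel u
    rw [h1] at this
    exact this
  exact eq_one_of_sq_of_cube u h2 (c.hV u)

/-- in Step F, `s₀` acts trivially on `U` -/
theorem Tri.s0_trivial (hU : c.MinMod U) {s₀ s₁ s₂ h : Γ} (T : Tri c U s₀ s₁ s₂ h) :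
    ∀ u ∈ U, act s₀ u = u := by
  have key : ∀ {s₀ s₁ s₂ : Γ}, Tri c U s₀ s₁ s₂ h → ∀ u ∈ U,
      u * act s₀ u = act s₁ u * act s₂ u := by
    intro s₀ s₁ s₂ T u hu
    set u' := u * act s₀ u * (act s₁ u)⁻¹ * (act s₂ u)⁻¹ with hu'
    have h0U : act s₀ u ∈ U := hU.Z_mem T.hs₀ hu
    have h1U : act s₁ u ∈ U := hU.Z_mem T.hs₁ hu
    have h2U : act s₂ u ∈ U := hU.Z_mem T.hs₂ hu
    have hu'U : u' ∈ U :=
      U.mul_mem (U.mul_mem (U.mul_mem hu h0U) (U.inv_mem h1U)) (U.inv_mem h2U)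
    have e02 : act s₀ (act s₂ u) = act s₁ u := by
      rw [act_comm_of_comm act (Z_comm c T.hs₀ T.hs₂), T.m20 u hu]
    have e10 : act s₁ (act s₀ u) = act s₂ u := by
      rw [act_comm_of_comm act (Z_comm c T.hs₁ T.hs₀), T.m01 u hu]
    have hfix0 : act s₀ u' = u' := by
      rw [hu']
      simp only [map_mul, map_inv]
      rw [T.sq₀ u hu, T.m01 u hu, e02]
      simp only [mul_comm, mul_left_comm, mul_assoc]
    have hfix1 : act s₁ u' = u'⁻¹ := by
      rw [hu']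
      simp only [map_mul, map_inv]
      rw [T.sq₁ u hu, T.m12 u hu, e10]
      simp only [mul_inv_rev, inv_inv]
      simp only [mul_comm, mul_left_comm, mul_assoc]
    have h1 := T.eigen_trivial hU u' hu'U hfix0 hfix1
    rw [hu'] at h1
    have h2 : u * act s₀ u * ((act s₁ u) * (act s₂ u))⁻¹ = 1 := by
      rw [mul_inv, ← mul_assoc]; exact h1
    exact mul_inv_eq_one.mp h2
  intro u hu
  have e1 := key T u hu
  have e2 := key T.rot u hu
  have e3 := key T.rot.rot u hu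
  exact mul_algebra_tri u (act s₀ u) (act s₁ u) (act s₂ u) c.hV e1 e2 e3

theorem invol_conj (hU : c.MinMod U) {g : Γ} (hg : g ∈ c.H) {t : Γ}
    (ht : ∀ u ∈ U, act t (act t u) = u) :
    ∀ u ∈ U, act (g * t * g⁻¹) (act (g * t * g⁻¹) u) = u := by
  intro u hu
  have h1 : act g⁻¹ u ∈ U := hU.inv.2 _ (c.H.inv_mem hg) u hu
  simp only [act_mul_apply]
  rw [act_inv_apply_apply, ht _ h1, act_apply_inv_apply]

/-- Step F: `H` centralizes (mod the kernel on `U`) the elements of `Z` which are involutions on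
`U` -/
theorem fix_invol (hU : c.MinMod U) : ∀ k : ℕ, ∀ h ∈ c.H, h ^ 3 ^ k = 1 → ∀ t ∈ c.Z,
    (∀ u ∈ U, act t (act t u) = u) → ∀ u ∈ U, act (h * t * h⁻¹) u = act t u := by
  intro k
  induction k with
  | zero =>
    intro h hh h1 t ht hsq u hu
    rw [pow_zero, pow_one] at h1
    rw [h1, one_mul, inv_one, mul_one]
  | succ k ih =>
    intro h hh h1 t ht hsq u hu
    have hh3 : h ^ 3 ∈ c.H := c.H.pow_mem hh 3
    have h13 : (h ^ 3) ^ 3 ^ k = 1 := by rw [← pow_mul, ← pow_succ']; exact h1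
    set t₁ := h * t * h⁻¹ with ht₁
    set t₂ := h * t₁ * h⁻¹ with ht₂
    have ht₁Z : t₁ ∈ c.Z := c.Z_conj hh ht
    have ht₂Z : t₂ ∈ c.Z := c.Z_conj hh ht₁Z
    have hsq₁ : ∀ u ∈ U, act t₁ (act t₁ u) = u := invol_conj hU hh hsq
    have hsq₂ : ∀ u ∈ U, act t₂ (act t₂ u) = u := invol_conj hU hh hsq₁
    have ht₃ : ∀ u ∈ U, act (h * t₂ * h⁻¹) u = act t u := by
      intro u hu
      have e3 : h ^ 3 = h * h * h := by rw [pow_succ, pow_two]
      have e : h * t₂ * h⁻¹ = h ^ 3 * t * (h ^ 3)⁻¹ := by rw [ht₂, ht₁, e3]; group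
      rw [e]
      exact ih (h ^ 3) hh3 h13 t ht hsq u hu
    have c01 := Z_comm c ht ht₁Z
    have c02 := Z_comm c ht ht₂Z
    have c12 := Z_comm c ht₁Z ht₂Z
    have T : Tri c U (t * t₁) (t₁ * t₂) (t₂ * t) h := by
      refine ⟨c.Z.mul_mem ht ht₁Z, c.Z.mul_mem ht₁Z ht₂Z, c.Z.mul_mem ht₂Z ht, hh,
        ?_, ?_, ?_, ?_, ?_, ?_, ?_, ?_, ?_⟩
      · intro u hu
        simp only [act_mul_apply]
        rw [act_comm_of_comm act c01.symm (act t₁ u), hsq _ (hU.Z_mem ht₁Z (hU.Z_mem ht₁Z hu)),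
          hsq₁ u hu]
      · intro u hu
        simp only [act_mul_apply]
        rw [act_comm_of_comm act c12.symm (act t₂ u), hsq₁ _ (hU.Z_mem ht₂Z (hU.Z_mem ht₂Z hu)),
          hsq₂ u hu]
      · intro u hu
        simp only [act_mul_apply]
        rw [act_comm_of_comm act c02 (act t u), hsq₂ _ (hU.Z_mem ht (hU.Z_mem ht hu)),
          hsq u hu]
      · intro u hu
        simp only [act_mul_apply]
        rw [hsq₁ _ (hU.Z_mem ht₂Z hu), act_comm_of_comm act c02 u]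
      · intro u hu
        simp only [act_mul_apply]
        rw [hsq₂ _ (hU.Z_mem ht hu), act_comm_of_comm act c01.symm u]
      · intro u hu
        simp only [act_mul_apply]
        rw [hsq _ (hU.Z_mem ht₁Z hu), act_comm_of_comm act c12.symm u]
      · intro u hu
        have e : t₁ * t₂ * h = h * (t * t₁) := by rw [ht₂, ht₁]; group
        rw [← act_mul_apply, ← act_mul_apply, e]
      · intro u hu
        have e : h * (t₁ * t₂) = t₂ * (h * t₂ * h⁻¹) * h := by rw [ht₂]; group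
        rw [← act_mul_apply, e, act_mul_apply, act_mul_apply, ht₃ _ (hU.inv.2 h hh u hu),
          ← act_mul_apply]
      · intro u hu
        have e : h * (t₂ * t) = (h * t₂ * h⁻¹) * t₁ * h := by rw [ht₁]; group
        rw [← act_mul_apply, e, act_mul_apply, act_mul_apply,
          ht₃ _ (hU.Z_mem ht₁Z (hU.inv.2 h hh u hu)), ← act_mul_apply]
    have h0 := T.s0_trivial hU u hu
    rw [act_mul_apply] at h0
    have h2 := hsq _ (hU.Z_mem ht₁Z hu)
    rw [h0] at h2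
    exact h2.symm

theorem fix_invol' (hU : c.MinMod U) {h : Γ} (hh : h ∈ c.H) {t : Γ} (ht : t ∈ c.Z)
    (hsq : ∀ u ∈ U, act t (act t u) = u) : ∀ u ∈ U, act (h * t * h⁻¹) u = act t u := by
  obtain ⟨k, hk⟩ := c.hH3 ⟨h, hh⟩
  have hk' : h ^ 3 ^ k = 1 := by simpa using congrArg Subtype.val hk
  exact fix_invol hU k h hh hk' t ht hsq

/-- Step G: an element of `Z` which is an involution on `U` acts as `1` or as `-1` -/
theorem invol_pm (hU : c.MinMod U) {t : Γ} (ht : t ∈ c.Z)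
    (hsq : ∀ u ∈ U, act t (act t u) = u) :
    (∀ u ∈ U, act t u = u) ∨ (∀ u ∈ U, act t u = u⁻¹) := by
  have hcomm : ∀ h ∈ c.H, ∀ u ∈ U, act t (act h u) = act h (act t u) := by
    intro h hh u hu
    have h1 := fix_invol' hU (c.H.inv_mem hh) ht hsq u hu
    rw [inv_inv, act_mul_apply, act_mul_apply] at h1
    have h2 := congrArg (act h) h1
    rw [act_apply_inv_apply] at h2
    exact h2
  let Up : Subgroup V :=
    { carrier := {u | u ∈ U ∧ act t u = u}
      one_mem' := ⟨U.one_mem, by simp⟩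
      mul_mem' := by
        rintro u v ⟨hu, hu0⟩ ⟨hv, hv0⟩
        exact ⟨U.mul_mem hu hv, by rw [map_mul, hu0, hv0]⟩
      inv_mem' := by
        rintro u ⟨hu, hu0⟩
        exact ⟨U.inv_mem hu, by rw [map_inv, hu0]⟩ }
  let Um : Subgroup V :=
    { carrier := {u | u ∈ U ∧ act t u = u⁻¹}
      one_mem' := ⟨U.one_mem, by simp⟩
      mul_mem' := by
        rintro u v ⟨hu, hu0⟩ ⟨hv, hv0⟩
        exact ⟨U.mul_mem hu hv, by rw [map_mul, hu0, hv0, mul_inv]⟩
      inv_mem' := by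
        rintro u ⟨hu, hu0⟩
        exact ⟨U.inv_mem hu, by rw [map_inv, hu0]⟩ }
  have hUp : c.Inv Up := by
    constructor
    · rintro x hx u ⟨hu, hu0⟩
      exact ⟨hU.inv.1 x hx u hu, by rw [act_comm_of_comm act (c.Z_central ht hx), hu0]⟩
    · rintro h hh u ⟨hu, hu0⟩
      exact ⟨hU.inv.2 h hh u hu, by rw [hcomm h hh u hu, hu0]⟩
  have hUm : c.Inv Um := by
    constructor
    · rintro x hx u ⟨hu, hu0⟩
      exact ⟨hU.inv.1 x hx u hu, by rw [act_comm_of_comm act (c.Z_central ht hx), hu0, map_inv]⟩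
    · rintro h hh u ⟨hu, hu0⟩
      exact ⟨hU.inv.2 h hh u hu, by rw [hcomm h hh u hu, hu0, map_inv]⟩
  by_cases hp : Up = U
  · left
    intro u hu
    have : u ∈ Up := by rw [hp]; exact hu
    exact this.2
  by_cases hm : Um = U
  · right
    intro u hu
    have : u ∈ Um := by rw [hm]; exact hu
    exact this.2
  exfalso
  have tp := hU.min Up (fun u hu => hu.1) hUp hp
  have tm := hU.min Um (fun u hu => hu.1) hUm hm
  apply hU.ntriv
  intro x hx u hu
  have htu : act t u ∈ U := hU.Z_mem ht hu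
  have hup : (u * act t u) ^ 2 ∈ Up := by
    refine ⟨U.pow_mem (U.mul_mem hu htu) 2, ?_⟩
    rw [map_pow, map_mul, hsq u hu, mul_comm]
  have hum : (u * (act t u)⁻¹) ^ 2 ∈ Um := by
    refine ⟨U.pow_mem (U.mul_mem hu (U.inv_mem htu)) 2, ?_⟩
    rw [map_pow, map_mul, map_inv, hsq u hu, ← inv_pow, mul_inv, inv_inv, mul_comm]
  have hsplit := split_pm u (act t u) (c.hV u)
  conv_lhs => rw [← hsplit]
  rw [map_mul, tp x hx _ hup, tm x hx _ hum, hsplit]

end DCfg

end Cfsg.Agent.Lib.Helper67
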