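import Cfsg.Agent.Lib.Helper67.Der4
import Cfsg.Agent.Lib.Helper06.NormalRankTwo
import Cfsg.Agent.Lib.Helper79.DerRed

/-!
# The minimal configuration does not exist; the core statement `DerKey`
-/

set_option autoImplicit false
set_option linter.style.haveILetI false
set_option linter.unusedSectionVars false
set_option linter.unusedVariables false
set_option linter.unnecessarySimpa false

namespace Cfsg.Agent.Lib.Helper67

open Cfsg
open scoped commutatorElement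

namespace DCfg

variable {Γ V : Type*} [Group Γ] [Finite Γ] [CommGroup V] {act : Γ →* MulAut V} {c : DCfg act}
  {U : Subgroup V}

/-! ### more commutator identities -/

theorem comm_inv_right (c : DCfg act) {x g : Γ} (hx : x ∈ c.Q) (hg : g ∈ c.Q) :
    ⁅x, g⁻¹⁆ = ⁅x, g⁆ := by
  have h1 := c.comm_mul_right hx hg (c.Q.inv_mem hg)
  rw [mul_inv_cancel, commutatorElement_one_right] at h1
  have h2 : ⁅x, g⁻¹⁆ = ⁅x, g⁆⁻¹ := (inv_eq_of_mul_eq_one_right h1.symm).symm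
  rw [h2, c.comm_inv_eq hx hg]

theorem comm_inv_left (c : DCfg act) {x g : Γ} (hx : x ∈ c.Q) (hg : g ∈ c.Q) :
    ⁅x⁻¹, g⁆ = ⁅x, g⁆ := by
  rw [c.comm_symm hg (c.Q.inv_mem hx), c.comm_inv_right hg hx, c.comm_symm hx hg]

theorem aaa_conj (c : DCfg act) (y : Γ) :
    c.a * (c.a * (c.a * y * c.a⁻¹) * c.a⁻¹) * c.a⁻¹ = y := by
  have e : c.a * (c.a * (c.a * y * c.a⁻¹) * c.a⁻¹) * c.a⁻¹ = c.a ^ 3 * y * (c.a ^ 3)⁻¹ := by
    have e3 : c.a ^ 3 = c.a * c.a * c.a := by rw [pow_succ, pow_two]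
    rw [e3]; group
  rw [e, c.ha3, one_mul, inv_one, mul_one]

theorem norm_mem_Z (c : DCfg act) {x : Γ} (hx : x ∈ c.Q) :
    x * (c.a * x * c.a⁻¹) * (c.a * (c.a * x * c.a⁻¹) * c.a⁻¹) ∈ c.Z := by
  set x' := c.a * x * c.a⁻¹ with hx'
  set x'' := c.a * x' * c.a⁻¹ with hx''
  have hx'Q : x' ∈ c.Q := c.aconj_mem hx
  have hx''Q : x'' ∈ c.Q := c.aconj_mem hx'Q
  have hNQ : x * x' * x'' ∈ c.Q := c.Q.mul_mem (c.Q.mul_mem hx hx'Q) hx''Q
  apply c.mem_Z_of_cgen_mem hNQ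
  have h3 : c.a * x'' * c.a⁻¹ = x := c.aaa_conj x
  have e : (x * x' * x'')⁻¹ * (c.a * (x * x' * x'') * c.a⁻¹) = ⁅(x' * x'')⁻¹, x⁻¹⁆ := by
    have e1 : c.a * (x * x' * x'') * c.a⁻¹ =
        (c.a * x * c.a⁻¹) * (c.a * x' * c.a⁻¹) * (c.a * x'' * c.a⁻¹) := by group
    rw [e1, h3, ← hx', ← hx'']
    simp only [commutatorElement_def]; group
  rw [e]
  exact c.comm_mem_Z (c.Q.inv_mem (c.Q.mul_mem hx'Q hx''Q)) (c.Q.inv_mem hx)

/-! ### congruence modulo `Z` and the shift structure -/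

/-- congruence modulo `Z` -/
def Rel (c : DCfg act) (y₁ y₂ : Γ) : Prop := y₁⁻¹ * y₂ ∈ c.Z

theorem Rel.symm' {y₁ y₂ : Γ} (h : c.Rel y₁ y₂) : c.Rel y₂ y₁ := by
  unfold Rel at *
  have := c.Z.inv_mem h
  rwa [mul_inv_rev, inv_inv] at this

theorem Rel.trans' {y₁ y₂ y₃ : Γ} (h : c.Rel y₁ y₂) (h' : c.Rel y₂ y₃) : c.Rel y₁ y₃ := by
  unfold Rel at *
  have := c.Z.mul_mem h h'
  have e : y₁⁻¹ * y₂ * (y₂⁻¹ * y₃) = y₁⁻¹ * y₃ := by group
  rwa [e] at this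

theorem rel_conj {g : Γ} (hg : g ∈ c.H) {y₁ y₂ : Γ} (h : c.Rel y₁ y₂) :
    c.Rel (g * y₁ * g⁻¹) (g * y₂ * g⁻¹) := by
  unfold Rel at *
  have := c.Z_conj hg h
  have e : g * (y₁⁻¹ * y₂) * g⁻¹ = (g * y₁ * g⁻¹)⁻¹ * (g * y₂ * g⁻¹) := by group
  rwa [e] at this

/-- the conjugates of `x` under powers of `a` -/
def X (c : DCfg act) (x : Γ) (n : ℕ) : Γ := c.a ^ n * x * (c.a ^ n)⁻¹

theorem X_zero (x : Γ) : c.X x 0 = x := by simp [X]

theorem X_one (x : Γ) : c.X x 1 = c.a * x * c.a⁻¹ := by simp [X]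

theorem X_two (x : Γ) : c.X x 2 = c.a * (c.a * x * c.a⁻¹) * c.a⁻¹ := by
  unfold X; rw [pow_two]; group

theorem X_add (x : Γ) (i j : ℕ) : c.X x (i + j) = c.a ^ j * c.X x i * (c.a ^ j)⁻¹ := by
  unfold X; rw [add_comm, pow_add]; group

theorem X_three_mul (x : Γ) (n j : ℕ) : c.X x (3 * n + j) = c.X x j := by
  unfold X; rw [pow_add, pow_mul, c.ha3, one_pow, one_mul]

theorem X_conj {g : Γ} (hg : g ∈ c.H) (x : Γ) (j : ℕ) :
    g * c.X x j * g⁻¹ = c.a ^ j * (g * x * g⁻¹) * (c.a ^ j)⁻¹ := by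
  unfold X
  have hc : Commute (c.a ^ j) g := (show Commute c.a g from c.hacent g hg).pow_left j
  calc g * (c.a ^ j * x * (c.a ^ j)⁻¹) * g⁻¹
      = (g * c.a ^ j) * x * (g * c.a ^ j)⁻¹ := by group
    _ = (c.a ^ j * g) * x * (c.a ^ j * g)⁻¹ := by rw [hc.eq]
    _ = _ := by group

/-- `g` shifts the cosets `X j Z` by `i` -/
def Shift (c : DCfg act) (x g : Γ) (i : ℕ) : Prop :=
  ∀ j : ℕ, c.Rel (c.X x (i + j)) (g * c.X x j * g⁻¹)

theorem shift_of_rel {x g : Γ} {i : ℕ} (hg : g ∈ c.H) (h : c.Rel (c.X x i) (g * x * g⁻¹)) :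
    c.Shift x g i := by
  intro j
  rw [X_add, X_conj hg]
  exact rel_conj (c.H.pow_mem c.haH j) h

theorem Shift.mul {x g g' : Γ} {i i' : ℕ} (hg : g ∈ c.H) (h : c.Shift x g i)
    (h' : c.Shift x g' i') : c.Shift x (g * g') (i + i') := by
  intro j
  have h1 := h (i' + j)
  have h2 := rel_conj hg (h' j)
  have e : g * g' * c.X x j * (g * g')⁻¹ = g * (g' * c.X x j * g'⁻¹) * g⁻¹ := by group
  rw [e, add_assoc]
  exact h1.trans' h2

theorem Shift.inv {x g : Γ} {i i' n : ℕ} (hg : g ∈ c.H) (h : c.Shift x g i)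
    (hii : i + i' = 3 * n) : c.Shift x g⁻¹ i' := by
  intro j
  have h1 := h (i' + j)
  rw [← add_assoc, hii, X_three_mul] at h1
  have h2 := rel_conj (c.H.inv_mem hg) h1
  have e : g⁻¹ * (g * c.X x (i' + j) * g⁻¹) * g⁻¹⁻¹ = c.X x (i' + j) := by group
  rw [e] at h2
  exact h2.symm'

theorem shift_one (x : Γ) : c.Shift x 1 0 := by
  intro j
  unfold Rel
  rw [zero_add, one_mul, inv_one, mul_one, inv_mul_cancel]
  exact c.Z.one_mem

/-- some `H`-conjugate of `x ∉ Z` is congruent to none of `x`, `x^a`, `x^{a²}` -/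
theorem exists_outside (c : DCfg act) {x : Γ} (hx : x ∈ c.Q) (hxZ : x ∉ c.Z) :
    ∃ g ∈ c.H, ¬ c.Rel (c.X x 0) (g * x * g⁻¹) ∧ ¬ c.Rel (c.X x 1) (g * x * g⁻¹) ∧
      ¬ c.Rel (c.X x 2) (g * x * g⁻¹) := by
  by_contra hcon
  push Not at hcon
  have hall : ∀ g ∈ c.H, ∃ i : ℕ, i ≤ 2 ∧ c.Shift x g i := by
    intro g hg
    by_cases h0 : c.Rel (c.X x 0) (g * x * g⁻¹)
    · exact ⟨0, by norm_num, shift_of_rel hg h0⟩
    by_cases h1 : c.Rel (c.X x 1) (g * x * g⁻¹)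
    · exact ⟨1, by norm_num, shift_of_rel hg h1⟩
    · exact ⟨2, le_rfl, shift_of_rel hg (hcon g hg h0 h1)⟩
  have hP : ∀ g ∈ ⁅c.H, c.H⁆, g ∈ c.H ∧ ∃ n : ℕ, c.Shift x g (3 * n) := by
    intro g hg
    rw [Subgroup.commutator_def] at hg
    induction hg using Subgroup.closure_induction with
    | mem g hg =>
      obtain ⟨g₁, hg₁, g₂, hg₂, rfl⟩ := hg
      obtain ⟨i, hi, hs₁⟩ := hall g₁ hg₁
      obtain ⟨j, hj, hs₂⟩ := hall g₂ hg₂
      have hs₁' : c.Shift x g₁⁻¹ (3 - i) := hs₁.inv hg₁ (n := 1) (by omega)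
      have hs₂' : c.Shift x g₂⁻¹ (3 - j) := hs₂.inv hg₂ (n := 1) (by omega)
      have h12 : g₁ * g₂ ∈ c.H := c.H.mul_mem hg₁ hg₂
      have h121 : g₁ * g₂ * g₁⁻¹ ∈ c.H := c.H.mul_mem h12 (c.H.inv_mem hg₁)
      refine ⟨c.H.mul_mem h121 (c.H.inv_mem hg₂), 2, ?_⟩
      have := ((hs₁.mul hg₁ hs₂).mul h12 hs₁').mul h121 hs₂'
      have e : i + j + (3 - i) + (3 - j) = 3 * 2 := by omega
      rw [e] at this
      rw [commutatorElement_def]
      exact this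
    | one => exact ⟨c.H.one_mem, 0, shift_one x⟩
    | mul g g' _ _ ihg ihg' =>
      obtain ⟨hgH, n, hn⟩ := ihg
      obtain ⟨hgH', n', hn'⟩ := ihg'
      refine ⟨c.H.mul_mem hgH hgH', n + n', ?_⟩
      rw [mul_add]
      exact hn.mul hgH hn'
    | inv g _ ihg =>
      obtain ⟨hgH, n, hn⟩ := ihg
      refine ⟨c.H.inv_mem hgH, 0, ?_⟩
      exact hn.inv hgH (n := n) (by omega)
  obtain ⟨-, n, hn⟩ := hP c.a c.haH'
  have h0 := hn 0
  rw [X_three_mul, X_zero] at h0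
  exact hxZ (c.mem_Z_of_cgen_mem hx h0)

/-! ### signs of commutators on `U` -/

/-- `g` acts trivially on `U` -/
def Pos (act : Γ →* MulAut V) (U : Subgroup V) (g : Γ) : Prop := ∀ u ∈ U, act g u = u

/-- `g` inverts `U` -/
def Neg (act : Γ →* MulAut V) (U : Subgroup V) (g : Γ) : Prop := ∀ u ∈ U, act g u = u⁻¹

theorem MinMod.exists_ne_one (hU : c.MinMod U) : ∃ u ∈ U, u ≠ 1 := by
  by_contra hcon
  push Not at hcon
  apply hU.ntriv
  intro x hx u hu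
  rw [hcon u hu, map_one]

theorem MinMod.not_pos_neg (hU : c.MinMod U) {g : Γ} (hp : Pos act U g) (hn : Neg act U g) :
    False := by
  obtain ⟨u, hu, hne⟩ := hU.exists_ne_one
  have h1 := hp u hu
  have h2 := hn u hu
  have h3 : u * u = 1 := by
    have := mul_inv_cancel u
    rw [← h2, h1] at this
    exact this
  exact hne (eq_one_of_sq_of_cube u h3 (c.hV u))

theorem comm_pm (hU : c.MinMod U) {x y : Γ} (hx : x ∈ c.Q) (hy : y ∈ c.Q) :
    Pos act U ⁅x, y⁆ ∨ Neg act U ⁅x, y⁆ :=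
  invol_pm hU (c.comm_mem_Z hx hy) (fun u hu => by
    rw [← act_mul_apply, c.comm_sq hx hy, map_one]; rfl)

theorem neg_mul_neg {g g' : Γ} (h : Neg act U g) (h' : Neg act U g') : Pos act U (g * g') := by
  intro u hu
  rw [act_mul_apply, h' u hu, map_inv, h u hu, inv_inv]

theorem pos_mul {g g' : Γ} (h : Pos act U g) (h' : Pos act U g') : Pos act U (g * g') := by
  intro u hu
  rw [act_mul_apply, h' u hu, h u hu]

theorem pos_one : Pos act U (1 : Γ) := by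
  intro u hu
  rw [map_one]; rfl

theorem pos_closure (hU : c.MinMod U) (S : Set Γ) (hS : ∀ s ∈ S, s ∈ c.Q)
    (h : ∀ s ∈ S, ∀ s' ∈ S, Pos act U ⁅s, s'⁆) :
    ∀ d ∈ Subgroup.closure S, ∀ d' ∈ Subgroup.closure S, Pos act U ⁅d, d'⁆ := by
  have hle : Subgroup.closure S ≤ c.Q := (Subgroup.closure_le _).mpr hS
  have stage1 : ∀ d ∈ Subgroup.closure S, ∀ s' ∈ S, Pos act U ⁅d, s'⁆ := by
    intro d hd s' hs'
    induction hd using Subgroup.closure_induction with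
    | mem x hx => exact h x hx s' hs'
    | one => rw [commutatorElement_one_left]; exact pos_one
    | mul x y hx hy ihx ihy =>
      rw [c.comm_mul_left (hle hx) (hle hy) (hS s' hs')]
      exact pos_mul ihx ihy
    | inv x hx ihx =>
      rw [c.comm_inv_left (hle hx) (hS s' hs')]
      exact ihx
  intro d hd d' hd'
  induction hd' using Subgroup.closure_induction with
  | mem x hx => exact stage1 d hd x hx
  | one => rw [commutatorElement_one_right]; exact pos_one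
  | mul x y hx hy ihx ihy =>
    rw [c.comm_mul_right (hle hd) (hle hx) (hle hy)]
    exact pos_mul ihx ihy
  | inv x hx ihx =>
    rw [c.comm_inv_right (hle hd) (hle hx)]
    exact ihx

/-- Step H: the quadratic form `x ↦ [x, x^a]` is isotropic -/
theorem exists_pos_comm (hU : c.MinMod U) :
    ∃ x ∈ c.Q, x ∉ c.Z ∧ Pos act U ⁅x, c.a * x * c.a⁻¹⁆ := by
  by_contra hcon
  push Not at hcon
  have hA : ∀ x ∈ c.Q, x ∉ c.Z → Neg act U ⁅x, c.a * x * c.a⁻¹⁆ := by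
    intro x hx hxZ
    rcases comm_pm hU hx (c.aconj_mem hx) with h | h
    · exact absurd h (hcon x hx hxZ)
    · exact h
  have claim1 : ∀ x ∈ c.Q, ∀ y ∈ c.Q, x ∉ c.Z → y ∉ c.Z → x * y ∉ c.Z → Neg act U ⁅x, y⁆ := by
    intro x hx y hy hxZ hyZ hxyZ
    set x' := c.a * x * c.a⁻¹ with hx'
    set y' := c.a * y * c.a⁻¹ with hy'
    set y'' := c.a * y' * c.a⁻¹ with hy''
    have hx'Q : x' ∈ c.Q := c.aconj_mem hx
    have hy'Q : y' ∈ c.Q := c.aconj_mem hy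
    have hy''Q : y'' ∈ c.Q := c.aconj_mem hy'Q
    have n1 : Neg act U ⁅x, x'⁆ := hA x hx hxZ
    have n4 : Neg act U ⁅y, y'⁆ := hA y hy hyZ
    have nL : Neg act U ⁅x * y, c.a * (x * y) * c.a⁻¹⁆ := hA (x * y) (c.Q.mul_mem hx hy) hxyZ
    have eL : c.a * (x * y) * c.a⁻¹ = x' * y' := by rw [hx', hy']; group
    have e3 : ⁅y, x'⁆ = ⁅x, y'⁆ * ⁅x, y⁆ := by
      have hy3 : c.a * y'' * c.a⁻¹ = y := c.aaa_conj y
      have h1 : ⁅y, x'⁆ = ⁅y'', x⁆ := by
        conv_lhs => rw [← hy3]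
        rw [hx']
        exact c.comm_aconj hy''Q hx
      have hN := c.norm_mem_Z hy
      rw [← hy', ← hy''] at hN
      have h2 : y'' = (y * y')⁻¹ * (y * y' * y'') := by group
      have hyy' : y * y' ∈ c.Q := c.Q.mul_mem hy hy'Q
      rw [h1, c.comm_symm hx hy''Q, h2,
        c.comm_mul_right hx (c.Q.inv_mem hyy') (c.Z_le hN), c.comm_Z_right hx hN, mul_one,
        c.comm_inv_right hx hyy', c.comm_mul_right hx hy hy'Q]
      exact Z_comm c (c.comm_mem_Z hx hy) (c.comm_mem_Z hx hy'Q)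
    have eT : ⁅x * y, x' * y'⁆ = ⁅x, x'⁆ * ⁅x, y⁆ * ⁅y, y'⁆ := by
      rw [c.comm_mul_left hx hy (c.Q.mul_mem hx'Q hy'Q), c.comm_mul_right hx hx'Q hy'Q,
        c.comm_mul_right hy hx'Q hy'Q, e3]
      have ee := c.comm_sq hx hy'Q
      calc ⁅x, x'⁆ * ⁅x, y'⁆ * (⁅x, y'⁆ * ⁅x, y⁆ * ⁅y, y'⁆)
          = ⁅x, x'⁆ * (⁅x, y'⁆ * ⁅x, y'⁆) * ⁅x, y⁆ * ⁅y, y'⁆ := by group
        _ = _ := by rw [ee, mul_one]
    rw [eL, eT] at nL
    intro u hu
    have h1 := nL u hu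
    rw [act_mul_apply, act_mul_apply, n4 u hu, map_inv, map_inv,
      n1 _ (hU.Z_mem (c.comm_mem_Z hx hy) hu), inv_inv] at h1
    exact h1
  obtain ⟨x, hx, hxZ⟩ : ∃ x ∈ c.Q, x ∉ c.Z := by
    by_contra h
    push Not at h
    exact c.Z_ne (le_antisymm c.Z_le h)
  obtain ⟨g, hg, r0, r1, r2⟩ := c.exists_outside hx hxZ
  rw [X_zero] at r0
  rw [X_one] at r1
  rw [X_two] at r2
  set y := g * x * g⁻¹ with hy
  set x' := c.a * x * c.a⁻¹ with hx'
  set x'' := c.a * x' * c.a⁻¹ with hx''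
  have hyQ : y ∈ c.Q := c.hHQ g hg x hx
  have hx'Q : x' ∈ c.Q := c.aconj_mem hx
  have hyZ : y ∉ c.Z := by
    intro h
    apply hxZ
    have := c.Z_conj (c.H.inv_mem hg) h
    have e : g⁻¹ * y * g⁻¹⁻¹ = x := by rw [hy]; group
    rwa [e] at this
  have hx'Z : x' ∉ c.Z := by
    intro h
    apply hxZ
    have := c.Z_conj (c.H.inv_mem c.haH) h
    have e : c.a⁻¹ * x' * c.a⁻¹⁻¹ = x := by rw [hx']; group
    rwa [e] at this
  have prod_notin : ∀ w ∈ c.Q, ¬ c.Rel w y → w * y ∉ c.Z := by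
    intro w hw hr hwy
    apply hr
    unfold Rel
    have e : w⁻¹ * y = (w * w)⁻¹ * (w * y) := by group
    rw [e]
    exact c.Z.mul_mem (c.Z.inv_mem (c.sq_mem_Z hw)) hwy
  have n1 : Neg act U ⁅x, y⁆ := claim1 x hx y hyQ hxZ hyZ (prod_notin x hx r0)
  have n2 : Neg act U ⁅x', y⁆ := claim1 x' hx'Q y hyQ hx'Z hyZ (prod_notin x' hx'Q r1)
  have hxx'Z : x * x' ∉ c.Z := by
    intro h
    apply hxZ
    apply c.mem_Z_of_cgen_mem hx
    have e : x⁻¹ * (c.a * x * c.a⁻¹) = (x * x)⁻¹ * (x * x') := by rw [hx']; group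
    rw [e]
    exact c.Z.mul_mem (c.Z.inv_mem (c.sq_mem_Z hx)) h
  have hxx'Q : x * x' ∈ c.Q := c.Q.mul_mem hx hx'Q
  have hr3 : ¬ c.Rel (x * x') y := by
    intro h
    apply r2
    unfold Rel at h ⊢
    have hN := c.norm_mem_Z hx
    rw [← hx', ← hx''] at hN
    have e : x''⁻¹ * y = (x * x' * x'')⁻¹ * ((x * x') * (x * x')) * ((x * x')⁻¹ * y) := by group
    rw [e]
    exact c.Z.mul_mem (c.Z.mul_mem (c.Z.inv_mem hN) (c.sq_mem_Z hxx'Q)) h
  have n3 : Neg act U ⁅x * x', y⁆ := claim1 (x * x') hxx'Q y hyQ hxx'Z hyZ (prod_notin _ hxx'Q hr3)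
  rw [c.comm_mul_left hx hx'Q hyQ] at n3
  exact hU.not_pos_neg (neg_mul_neg n1 n2) n3

/-- Step I: the minimal configuration does not exist -/
theorem MinMod.false [Finite V] (hU : c.MinMod U) : False := by
  obtain ⟨x, hx, hxZ, hpos⟩ := exists_pos_comm hU
  set x' := c.a * x * c.a⁻¹ with hx'
  set x'' := c.a * x' * c.a⁻¹ with hx''
  have hx'Q : x' ∈ c.Q := c.aconj_mem hx
  have hx''Q : x'' ∈ c.Q := c.aconj_mem hx'Q
  have h3 : c.a * x'' * c.a⁻¹ = x := c.aaa_conj x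
  let S : Set Γ := {x, x', x''}
  have hSQ : ∀ s ∈ S, s ∈ c.Q := by
    rintro s (rfl | rfl | rfl)
    · exact hx
    · exact hx'Q
    · exact hx''Q
  have hDQ : Subgroup.closure S ≤ c.Q := (Subgroup.closure_le _).mpr hSQ
  have hxS : x ∈ S := Or.inl rfl
  have hx'S : x' ∈ S := Or.inr (Or.inl rfl)
  have hx''S : x'' ∈ S := Or.inr (Or.inr rfl)
  have hDa : ∀ d ∈ Subgroup.closure S, c.a * d * c.a⁻¹ ∈ Subgroup.closure S := by
    apply conj_mem_closure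
    rintro s (rfl | rfl | rfl)
    · exact Subgroup.subset_closure hx'S
    · exact Subgroup.subset_closure hx''S
    · rw [h3]; exact Subgroup.subset_closure hxS
  have p01 : Pos act U ⁅x, x'⁆ := hpos
  have p12 : Pos act U ⁅x', x''⁆ := by
    have := c.comm_aconj hx hx'Q
    rw [← hx', ← hx''] at this
    rw [this]; exact p01
  have p20 : Pos act U ⁅x'', x⁆ := by
    have := c.comm_aconj hx'Q hx''Q
    rw [← hx'', h3] at this
    rw [this]; exact p12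
  have pself : ∀ s : Γ, Pos act U ⁅s, s⁆ := by
    intro s
    rw [commutatorElement_self]; exact pos_one
  have hposS : ∀ s ∈ S, ∀ s' ∈ S, Pos act U ⁅s, s'⁆ := by
    rintro s (rfl | rfl | rfl) s' (rfl | rfl | rfl)
    · exact pself _
    · exact p01
    · rw [c.comm_symm hx''Q hx]; exact p20
    · rw [c.comm_symm hx hx'Q]; exact p01
    · exact pself _
    · exact p12
    · exact p20
    · rw [c.comm_symm hx'Q hx''Q]; exact p12
    · exact pself _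
  have hposD := pos_closure hU S hSQ hposS
  have hab : ∀ d ∈ Subgroup.closure S, ∀ d' ∈ Subgroup.closure S, ∀ u ∈ U,
      act d (act d' u) = act d' (act d u) := by
    intro d hd d' hd' u hu
    have e : d * d' = ⁅d, d'⁆ * (d' * d) := by simp only [commutatorElement_def]; group
    rw [← act_mul_apply, e, act_mul_apply, act_mul_apply,
      hposD d hd d' hd' _ (hU.inv.1 d' (hDQ hd') _ (hU.inv.1 d (hDQ hd) u hu))]
  haveI : Fact (Nat.Prime 3) := ⟨Nat.prime_three⟩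
  haveI : Fact (Nat.Prime 2) := ⟨Nat.prime_two⟩
  have hcomm := comm_on_of_abelian_on (p := 3) (by norm_num) c.hV act U c.a c.ha3
    (fun u hu => hU.a_mem hu) (fun u _ => c.hquad u) 2 (by norm_num) (Subgroup.closure S)
    (c.hQ2.to_le hDQ) (fun d hd u hu => hU.inv.1 d (hDQ hd) u hu) hDa hab
  have hxD : x ∈ Subgroup.closure S := Subgroup.subset_closure hxS
  have hk : x⁻¹ * (c.a * x * c.a⁻¹) ∈ c.kerU U := by
    rw [mem_kerU]
    refine ⟨c.Q.mul_mem (c.Q.inv_mem hx) (c.aconj_mem hx), fun u hu => ?_⟩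
    rw [act_mul_apply, act_mul_apply, act_mul_apply, hcomm x hxD _ (hU.ainv_mem hu),
      act_apply_inv_apply, act_inv_apply_apply]
  exact hxZ (c.mem_Z_of_cgen_mem hx (hU.kerU_le_Z hk))

end DCfg

universe u

/-- **the core statement** for the derived-length bound on the `p`-length -/
theorem derKey {p : ℕ} [hp : Fact p.Prime] (hp2 : p ≠ 2) : Helper79.DerRed.DerKey.{u} p := by
  intro Γ V _ _ _ _ hV hsol hOp act hact B hB W₀ h1 h3 h2
  by_contra hne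
  have hne' : _root_.commutator ↥B ≠ ⊥ := by
    intro h
    apply hne
    rw [← Subgroup.map_subtype_commutator, h, Subgroup.map_bot]
  obtain ⟨z, hzN, hz1, hzp, hzc⟩ :=
    Helper06.exists_central_order_p_mem_normal hB (_root_.commutator ↥B) hne'
  have haB' : (z : Γ) ∈ ⁅B, B⁆ := by
    rw [← Subgroup.map_subtype_commutator]
    exact ⟨z, hzN, rfl⟩
  have haB : (z : Γ) ∈ B := z.2
  have ha1 : (z : Γ) ≠ 1 := fun h => hz1 (Subtype.ext h)
  have hap : (z : Γ) ^ p = 1 := by simpa using congrArg Subtype.val hzp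
  have hacent : ∀ h ∈ B, (z : Γ) * h = h * z := by
    intro h hh
    have := Subgroup.mem_center_iff.mp hzc ⟨h, hh⟩
    exact (congrArg Subtype.val this).symm
  have hquad : ∀ v, act z (act z v * v⁻¹) * (act z v * v⁻¹)⁻¹ = 1 := by
    intro v
    rw [h2 z haB' _ (h3 z haB' v), mul_inv_cancel]
  have hR : ∀ h ∈ B, ∀ h' ∈ B, ∀ v : V,
      act z (act h' (act h v * v⁻¹) * (act h v * v⁻¹)⁻¹) =
        act h' (act h v * v⁻¹) * (act h v * v⁻¹)⁻¹ :=
    fun h hh h' hh' v => h2 z haB' _ (h1 h hh h' hh' v)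
  obtain ⟨q, hq, hqp, Q₀, hQ₀, hBQ₀, t, ht, hne_t⟩ :=
    exists_q_sub_pgroup hsol hOp B hB z haB ha1
  haveI := hq
  have hinvQ₀ : ∀ h ∈ B, ∀ x ∈ Q₀, h * x * h⁻¹ ∈ Q₀ := fun h hh x hx =>
    (Subgroup.mem_normalizer_iff.mp (hBQ₀ hh) x).mp hx
  have hTB := quad_noncentral hp2 hV (act z) (by rw [← map_pow, hap, map_one]) hquad q hqp
    (Q₀.map act) (hQ₀.map act)
    (by
      rintro _ ⟨x, hx, rfl⟩
      refine ⟨z * x * (z : Γ)⁻¹, hinvQ₀ z haB x hx, ?_⟩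
      rw [map_mul, map_mul, map_inv])
    ⟨act t, ⟨t, ht, rfl⟩, by
      rw [← map_mul, ← map_mul]
      exact fun h => hne_t (hact h)⟩
  obtain ⟨hp3, hq2, -⟩ := hTB
  subst hp3
  subst hq2
  classical
  have hex : ∃ n : ℕ, ∃ Q' : Subgroup Γ, Q' ≤ Q₀ ∧ (∀ h ∈ B, ∀ x ∈ Q', h * x * h⁻¹ ∈ Q') ∧
      (∃ x ∈ Q', (z : Γ) * x ≠ x * z) ∧ Nat.card Q' = n :=
    ⟨_, Q₀, le_rfl, hinvQ₀, ⟨t, ht, hne_t⟩, rfl⟩
  obtain ⟨Q, hQle, hQinv, hQnc, hQcard⟩ := Nat.find_spec hex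
  have hQmin : ∀ Q' : Subgroup Γ, Q' ≤ Q → (∀ h ∈ B, ∀ x ∈ Q', h * x * h⁻¹ ∈ Q') →
      (∃ x ∈ Q', (z : Γ) * x ≠ x * z) → Q' = Q := by
    intro Q' hle hinv hnc
    by_contra hneq
    have hlt : Nat.card Q' < Nat.card Q := by
      by_contra hge
      push Not at hge
      exact hneq (Subgroup.eq_of_le_of_card_ge hle hge)
    rw [hQcard] at hlt
    exact Nat.find_min hex hlt ⟨Q', hle.trans hQle, hinv, hnc, rfl⟩
  let c : DCfg act :=
    { H := B, Q := Q, a := z, hH3 := hB, hQ2 := hQ₀.to_le hQle, haH' := haB', hacent := hacent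
      ha3 := hap, hHQ := hQinv, hnc := hQnc, hmin := hQmin, hV := hV, hR := hR, hquad := hquad
      hfaith := hact }
  obtain ⟨U, hU⟩ := c.exists_minMod
  exact hU.false

end Cfsg.Agent.Lib.Helper67
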