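import Mathlib

set_option autoImplicit false

namespace Cfsg.Agent.Lib.Helper67

section fpf

variable {Γ : Type*} [Group Γ]

/-- for an abelian subgroup `Q` normalized by `y`, the commutators `t⁻¹ * (y * t * y⁻¹)`, `t ∈ Q`,
form a subgroup -/
theorem exists_commSub (Q : Subgroup Γ) (y : Γ) (hab : ∀ a ∈ Q, ∀ b ∈ Q, a * b = b * a)
    (hy : ∀ t ∈ Q, y * t * y⁻¹ ∈ Q) :
    ∃ N : Subgroup Γ, ∀ s, s ∈ N ↔ ∃ t ∈ Q, s = t⁻¹ * (y * t * y⁻¹) := by
  refine ⟨{ carrier := {s | ∃ t ∈ Q, s = t⁻¹ * (y * t * y⁻¹)}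
            one_mem' := ⟨1, Q.one_mem, by simp⟩
            mul_mem' := ?_
            inv_mem' := ?_ }, fun s => Iff.rfl⟩
  · rintro _ _ ⟨t₁, h₁, rfl⟩ ⟨t₂, h₂, rfl⟩
    refine ⟨t₁ * t₂, Q.mul_mem h₁ h₂, ?_⟩
    have e1 : y * (t₁ * t₂) * y⁻¹ = (y * t₁ * y⁻¹) * (y * t₂ * y⁻¹) := by group
    have c1 : (y * t₁ * y⁻¹) * t₂⁻¹ = t₂⁻¹ * (y * t₁ * y⁻¹) :=
      hab _ (hy t₁ h₁) _ (Q.inv_mem h₂)
    have c2 : t₁⁻¹ * t₂⁻¹ = t₂⁻¹ * t₁⁻¹ := hab _ (Q.inv_mem h₁) _ (Q.inv_mem h₂)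
    rw [e1, mul_inv_rev]
    generalize y * t₁ * y⁻¹ = a at *
    generalize y * t₂ * y⁻¹ = b at *
    calc t₁⁻¹ * a * (t₂⁻¹ * b) = t₁⁻¹ * (a * t₂⁻¹) * b := by group
      _ = t₁⁻¹ * (t₂⁻¹ * a) * b := by rw [c1]
      _ = (t₁⁻¹ * t₂⁻¹) * a * b := by group
      _ = t₂⁻¹ * t₁⁻¹ * (a * b) := by rw [c2]; group
  · rintro _ ⟨t, h, rfl⟩
    refine ⟨t⁻¹, Q.inv_mem h, ?_⟩
    have e1 : y * t⁻¹ * y⁻¹ = (y * t * y⁻¹)⁻¹ := by group
    have c1 : (y * t * y⁻¹)⁻¹ * t = t * (y * t * y⁻¹)⁻¹ :=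
      hab _ (Q.inv_mem (hy t h)) _ h
    rw [e1, inv_inv, mul_inv_rev, inv_inv, c1]

/-- the fixed-point-free subgroup `[Q, y]` inside an abelian `q`-group `Q` normalized by a cyclic
`p`-group `⟨x⟩`, where `y = x ^ p ^ n` generates the subgroup of order `p` -/
theorem exists_fpf_sub {p q : ℕ} [hp : Fact p.Prime] [hq : Fact q.Prime] (hpq : q ≠ p) (x : Γ) (n : ℕ)
    (hx : orderOf x = p ^ (n + 1)) (Q : Subgroup Γ) (hQ : IsPGroup q Q)
    (hab : ∀ a ∈ Q, ∀ b ∈ Q, a * b = b * a) (hxQ : x ∈ Subgroup.normalizer (Q : Set Γ))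
    (t₀ : Γ) (ht₀ : t₀ ∈ Q) (hne : x ^ p ^ n * t₀ ≠ t₀ * x ^ p ^ n) :
    ∃ N : Subgroup Γ, N ≠ ⊥ ∧ N ≤ Q ∧ (∀ h ∈ Subgroup.zpowers x, ∀ k ∈ N, h * k * h⁻¹ ∈ N) ∧
      (∀ k ∈ N, ∀ h ∈ Subgroup.zpowers x, h ≠ 1 → k * h = h * k → k = 1) := by
  set y := x ^ p ^ n with hydef
  have hzn : Subgroup.zpowers x ≤ Subgroup.normalizer (Q : Set Γ) :=
    (Subgroup.zpowers_le).mpr hxQ
  have hconj : ∀ h ∈ Subgroup.zpowers x, ∀ t ∈ Q, h * t * h⁻¹ ∈ Q := by
    intro h hh t ht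
    exact ((Subgroup.mem_normalizer_iff.mp (hzn hh)) t).mp ht
  have hyz : y ∈ Subgroup.zpowers x := Subgroup.pow_mem _ (Subgroup.mem_zpowers x) _
  have hyp : y ^ p = 1 := by
    rw [hydef, ← pow_mul, ← pow_succ, ← hx, pow_orderOf_eq_one]
  have hycomm : ∀ h ∈ Subgroup.zpowers x, h * y = y * h := by
    intro h hh
    obtain ⟨j, rfl⟩ := Subgroup.mem_zpowers_iff.mp hh
    rw [hydef]
    exact ((Commute.refl x).zpow_left j).pow_right _ |>.eq
  obtain ⟨N, hN⟩ := exists_commSub Q y hab (hconj y hyz)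
  refine ⟨N, ?_, ?_, ?_, ?_⟩
  · intro hbot
    have h1 : t₀⁻¹ * (y * t₀ * y⁻¹) ∈ N := (hN _).mpr ⟨t₀, ht₀, rfl⟩
    rw [hbot, Subgroup.mem_bot] at h1
    apply hne
    have : y * t₀ * y⁻¹ = t₀ := by
      have := congrArg (fun z => t₀ * z) h1
      simpa using this
    calc y * t₀ = (y * t₀ * y⁻¹) * y := by group
      _ = t₀ * y := by rw [this]
  · intro s hs
    obtain ⟨t, ht, rfl⟩ := (hN s).mp hs
    exact Q.mul_mem (Q.inv_mem ht) (hconj y hyz t ht)
  · intro h hh k hk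
    obtain ⟨t, ht, rfl⟩ := (hN k).mp hk
    refine (hN _).mpr ⟨h * t * h⁻¹, hconj h hh t ht, ?_⟩
    have hc := hycomm h hh
    have e1 : y * (h * t * h⁻¹) * y⁻¹ = h * (y * t * y⁻¹) * h⁻¹ := by
      calc y * (h * t * h⁻¹) * y⁻¹ = (y * h) * t * (y * h)⁻¹ := by group
        _ = (h * y) * t * (h * y)⁻¹ := by rw [hc]
        _ = h * (y * t * y⁻¹) * h⁻¹ := by group
    rw [e1]; group
  · intro k hk h hh hh1 hkh
    -- `k` commutes with `y`
    have hky : Commute k y := by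
      have hfin : IsOfFinOrder x := by
        rw [← orderOf_pos_iff, hx]; exact pow_pos hp.out.pos _
      obtain ⟨j, rfl⟩ := (Submonoid.mem_powers_iff _ _).mp (hfin.mem_powers_iff_mem_zpowers.mpr hh)
      have hj0 : j ≠ 0 := by
        rintro rfl; exact hh1 (pow_zero x)
      obtain ⟨e, u, hu, hj⟩ := Nat.exists_eq_pow_mul_and_not_dvd hj0 p hp.out.ne_one
      have hen : e ≤ n := by
        by_contra hcon
        push Not at hcon
        apply hh1
        rw [← orderOf_dvd_iff_pow_eq_one, hx, hj]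
        exact Dvd.dvd.mul_right (pow_dvd_pow p hcon) u
      have h1 : (x ^ j) ^ p ^ (n - e) = y ^ u := by
        rw [hydef, ← pow_mul, ← pow_mul, hj]
        congr 1
        have : p ^ n = p ^ e * p ^ (n - e) := by rw [← pow_add]; congr 1; omega
        rw [this]; ring
      have hkyu : Commute k (y ^ u) := by
        rw [← h1]; exact (show Commute k (x ^ j) from hkh).pow_right _
      have hcop : Nat.Coprime u p := (Nat.Prime.coprime_iff_not_dvd hp.out).mpr hu |>.symm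
      obtain ⟨a, -, ha⟩ := Nat.exists_mul_mod_eq_one_of_coprime hcop hp.out.one_lt
      have h2 : (y ^ u) ^ a = y := by
        rw [← pow_mul, pow_eq_pow_mod _ hyp, ha, pow_one]
      rw [← h2]; exact hkyu.pow_right a
    obtain ⟨t, ht, rfl⟩ := (hN k).mp hk
    set s := t⁻¹ * (y * t * y⁻¹) with hs
    have hsQ : s ∈ Q := Q.mul_mem (Q.inv_mem ht) (hconj y hyz t ht)
    have hyt : y * t * y⁻¹ = t * s := by rw [hs]; group
    have hys : ∀ i : ℕ, y * s ^ i * y⁻¹ = s ^ i := by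
      intro i
      have := (hky.pow_left i).eq
      calc y * s ^ i * y⁻¹ = (s ^ i * y) * y⁻¹ := by rw [this]
        _ = s ^ i := by group
    have hind : ∀ i : ℕ, y ^ i * t * (y ^ i)⁻¹ = t * s ^ i := by
      intro i
      induction i with
      | zero => simp
      | succ i ih =>
        calc y ^ (i + 1) * t * (y ^ (i + 1))⁻¹ = y * (y ^ i * t * (y ^ i)⁻¹) * y⁻¹ := by
              rw [pow_succ']; group
          _ = y * (t * s ^ i) * y⁻¹ := by rw [ih]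
          _ = (y * t * y⁻¹) * (y * s ^ i * y⁻¹) := by group
          _ = t * s ^ (i + 1) := by rw [hyt, hys, pow_succ', mul_assoc]
    have hsp : s ^ p = 1 := by
      have := hind p
      rw [hyp] at this
      simpa using this.symm
    obtain ⟨k', hk'⟩ := hQ ⟨s, hsQ⟩
    have hsq : s ^ q ^ k' = 1 := by simpa using congrArg Subtype.val hk'
    have hg : s ^ Nat.gcd (q ^ k') p = 1 := pow_gcd_eq_one.mpr ⟨hsq, hsp⟩
    have hcop : Nat.Coprime (q ^ k') p :=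
      Nat.Coprime.pow_left _ ((Nat.coprime_primes hq.out hp.out).mpr hpq)
    rw [hcop, pow_one] at hg
    exact hg

end fpf

section norm

variable {G V : Type*} [Group G] [CommGroup V]

/-- telescoping: `(u * x) ^ m = w_m * x ^ m` where `w_m` is the ordered product of the conjugates
`x ^ i * u * x ^ (-i)`; read in an abelian quotient `V` of a normal subgroup `R`, this is the norm -/
theorem prod_conj_eq_one (R : Subgroup G) [R.Normal] (π : ↥R →* V) (a : G →* MulAut V)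
    (hcompat : ∀ (g : G) (u : ↥R), a g (π u) = π ⟨g * u * g⁻¹, ‹R.Normal›.conj_mem _ u.2 g⟩)
    (x : G) (m : ℕ) (hxm : x ^ m = 1) (u : ↥R) (hum : ((u : G) * x) ^ m = 1) :
    ∏ i ∈ Finset.range m, a (x ^ i) (π u) = 1 := by
  have key : ∀ k : ℕ, ∃ w : ↥R, ((u : G) * x) ^ k = (w : G) * x ^ k ∧
      ∏ i ∈ Finset.range k, a (x ^ i) (π u) = π w := by
    intro k
    induction k with
    | zero => exact ⟨1, by simp, by simp⟩
    | succ k ih =>
      obtain ⟨w, hw1, hw2⟩ := ih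
      refine ⟨w * ⟨x ^ k * u * (x ^ k)⁻¹, ‹R.Normal›.conj_mem _ u.2 _⟩, ?_, ?_⟩
      · rw [pow_succ, hw1]
        simp only [Subgroup.coe_mul]
        rw [pow_succ]; group
      · rw [Finset.prod_range_succ, hw2, map_mul, hcompat]
  obtain ⟨w, hw1, hw2⟩ := key m
  rw [hw2]
  have : w = 1 := by
    apply Subtype.ext
    rw [hum, hxm, mul_one] at hw1
    exact hw1.symm
  rw [this, map_one]

/-- a product over a finite cyclic subgroup as a product over the exponents -/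
theorem prod_zpowers_eq {Γ : Type*} [Group Γ] (x : Γ) (hx : IsOfFinOrder x)
    [Fintype (Subgroup.zpowers x)] (f : Γ → V) :
    ∏ h : Subgroup.zpowers x, f h = ∏ i ∈ Finset.range (orderOf x), f (x ^ i) := by
  rw [← Fin.prod_univ_eq_prod_range (fun i => f (x ^ i)) (orderOf x)]
  symm
  refine Fintype.prod_equiv (finEquivZPowers hx) _ _ ?_
  intro i
  simp [finEquivZPowers_apply]

/-- if the norm over `N` is the `|N|`-th power map and `|N|` is prime to `|V|`,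
then `N` acts trivially -/
theorem trivial_of_norm_eq_pow {Γ : Type*} [Group Γ] [Finite V] (a : Γ →* MulAut V)
    (N : Subgroup Γ) [Fintype N] (hcop : (Nat.card V).Coprime (Fintype.card N))
    (hnorm : ∀ v : V, ∏ k : N, a k v = v ^ Fintype.card N) :
    ∀ k ∈ N, ∀ v : V, a k v = v := by
  intro k₀ hk₀ w
  obtain ⟨v, rfl⟩ : ∃ v : V, v ^ Fintype.card N = w :=
    (powCoprime hcop).surjective w
  rw [← hnorm v, map_prod]
  refine Fintype.prod_equiv (Equiv.mulLeft (⟨k₀, hk₀⟩ : N)) _ _ ?_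
  intro k
  simp [map_mul, MulAut.mul_apply]

end norm

end Cfsg.Agent.Lib.Helper67
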