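import Cfsg.Agent.Lib.Helper67.ExpPLen
import Cfsg.Agent.Lib.Helper67.PAction
import Cfsg.Agent.Lib.Helper81.PSolvable

set_option autoImplicit false

namespace Cfsg.Agent.Lib.Helper67

open Cfsg
open Cfsg.Agent.Lib.Helper81 (le_pCore le_pPrimeCore isPGroup_pCore card_pPrimeCore_coprime)

/-- all `p`-elements have order dividing `p ^ n` -/
def ExpLE (p n : ℕ) (G : Type*) [Group G] : Prop :=
  ∀ x : G, (∃ k : ℕ, x ^ p ^ k = 1) → x ^ p ^ n = 1

/-- all `q`-subgroups, `q ≠ p`, are abelian -/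
def AbQ (p : ℕ) (G : Type*) [Group G] : Prop :=
  ∀ (q : ℕ) [Fact q.Prime], q ≠ p → ∀ Q : Subgroup G, IsPGroup q Q →
    ∀ a ∈ Q, ∀ b ∈ Q, a * b = b * a

theorem isPGroup_zpowers_of_pow_eq_one {G : Type*} [Group G] {p : ℕ} (x : G) (k : ℕ)
    (hk : x ^ p ^ k = 1) : IsPGroup p (Subgroup.zpowers x) := by
  rintro ⟨y, hy⟩
  obtain ⟨j, rfl⟩ := Subgroup.mem_zpowers_iff.mp hy
  refine ⟨k, Subtype.ext ?_⟩
  simp only [Subgroup.coe_pow, Subgroup.coe_one]
  rw [← zpow_natCast, ← zpow_mul, mul_comm, zpow_mul, zpow_natCast, hk, one_zpow]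

/-- every `q`-subgroup of a quotient is, up to conjugacy, in the image of a Sylow `q`-subgroup -/
theorem exists_sylow_lift {G₁ G₂ : Type*} [Group G₁] [Group G₂] [Finite G₁] {q : ℕ}
    [Fact q.Prime] (f : G₁ →* G₂) (hf : Function.Surjective f) (Q : Subgroup G₂)
    (hQ : IsPGroup q Q) :
    ∃ (T : Sylow q G₁) (g : G₂), ∀ a ∈ Q, ∃ α ∈ (T : Subgroup G₁), a = g * f α * g⁻¹ := by
  have : Finite G₂ := Finite.of_surjective f hf
  obtain ⟨T₂, hQT⟩ := hQ.exists_le_sylow
  let T₁ : Sylow q G₁ := default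
  obtain ⟨g, hg⟩ := MulAction.exists_smul_eq G₂ (T₁.mapSurjective hf) T₂
  refine ⟨T₁, g, fun a ha => ?_⟩
  have ha2 : a ∈ (T₂ : Subgroup G₂) := hQT ha
  rw [← hg, Sylow.coe_subgroup_smul, Subgroup.mem_pointwise_smul_iff_inv_smul_mem,
    Sylow.coe_mapSurjective] at ha2
  obtain ⟨α, hα, hαe⟩ := ha2
  refine ⟨α, hα, ?_⟩
  rw [hαe]
  simp [MulAut.smul_def]
  group

theorem ExpLE.of_surjective {G₁ G₂ : Type*} [Group G₁] [Group G₂] [Finite G₁] {p : ℕ}
    [Fact p.Prime] (f : G₁ →* G₂) (hf : Function.Surjective f) (n : ℕ) (h : ExpLE p n G₁) :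
    ExpLE p n G₂ := by
  rintro x ⟨k, hk⟩
  obtain ⟨T, g, hT⟩ := exists_sylow_lift f hf _ (isPGroup_zpowers_of_pow_eq_one x k hk)
  obtain ⟨α, hα, rfl⟩ := hT x (Subgroup.mem_zpowers x)
  have h1 : α ^ p ^ n = 1 := by
    apply h
    obtain ⟨j, hj⟩ := T.isPGroup' ⟨α, hα⟩
    exact ⟨j, by simpa using congrArg Subtype.val hj⟩
  rw [conj_pow, ← map_pow, h1, map_one, mul_one, mul_inv_cancel]

theorem AbQ.of_surjective {G₁ G₂ : Type*} [Group G₁] [Group G₂] [Finite G₁] {p : ℕ}
    (f : G₁ →* G₂) (hf : Function.Surjective f) (h : AbQ p G₁) : AbQ p G₂ := by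
  intro q hq hqp Q hQ a ha b hb
  obtain ⟨T, g, hT⟩ := exists_sylow_lift f hf Q hQ
  obtain ⟨α, hα, rfl⟩ := hT a ha
  obtain ⟨β, hβ, rfl⟩ := hT b hb
  have h1 : α * β = β * α := h q hqp (T : Subgroup G₁) T.isPGroup' α hα β hβ
  calc g * f α * g⁻¹ * (g * f β * g⁻¹) = g * f (α * β) * g⁻¹ := by rw [map_mul]; group
    _ = g * f (β * α) * g⁻¹ := by rw [h1]
    _ = g * f β * g⁻¹ * (g * f α * g⁻¹) := by rw [map_mul]; group

section dualHH

variable {Γ : Type*} [Group Γ] [Finite Γ] {p : ℕ} [hp : Fact p.Prime]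

/-- dual of Hall--Higman 1.2.3: in a `p`-solvable group with `O_p = 1`, the `p'`-core contains
its centralizer -/
theorem centralizer_pPrimeCore_le (hG : IsPSolvable p Γ) (h : pCore p Γ = ⊥) :
    Subgroup.centralizer (pPrimeCore p Γ : Set Γ) ≤ pPrimeCore p Γ := by
  set K := pPrimeCore p Γ with hKdef
  have hKn : K.Normal := pPrimeCore_normal p Γ
  have hKc : (Nat.card K).Coprime p := card_pPrimeCore_coprime p
  set C := Subgroup.centralizer (K : Set Γ) with hCdef
  have hCn : C.Normal := Subgroup.normal_centralizer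
  by_contra hCK
  have hne : K ≠ C ⊔ K := by
    intro heq
    apply hCK
    rw [heq]; exact le_sup_left
  obtain ⟨Y, hYn, hKY, hYX, hKneY, hidx⟩ :=
    Helper81.IsPSolvable.exists_normal_between hp.out hG K (C ⊔ K) le_sup_right hne
  have hYcard : Nat.card Y = Nat.card K * K.relIndex Y := by
    rw [← Subgroup.relIndex_bot_left, ← Subgroup.relIndex_bot_left,
      Subgroup.relIndex_mul_relIndex ⊥ K Y bot_le hKY]
  rcases hidx with ⟨m, hm⟩ | hcop
  · set D := Y ⊓ C with hDdef
    have hDn : D.Normal := inferInstance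
    have hDK : D ≤ K := by
      let Z : Subgroup D := K.subgroupOf D
      have hZn : Z.Normal := inferInstance
      have hZc : Z ≤ Subgroup.center D := by
        intro z hz
        rw [Subgroup.mem_center_iff]
        intro d
        have hzK : (z : Γ) ∈ K := hz
        have hdC : (d : Γ) ∈ C := d.2.2
        apply Subtype.ext
        simp only [Subgroup.coe_mul]
        exact (hdC (z : Γ) hzK).symm
      have hZidx : Z.index = K.relIndex D := rfl
      have hdvd : K.relIndex D ∣ p ^ m := by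
        rw [← hm]
        exact Helper81.relIndex_dvd_relIndex_of_normal K D Y inf_le_left
      obtain ⟨j, -, hj⟩ := (Nat.dvd_prime_pow hp.out).mp hdvd
      have hq : IsPGroup p (↥D ⧸ Z) :=
        IsPGroup.of_card (n := j) (by rw [← Subgroup.index_eq_card, hZidx, hj])
      have hqn : Group.IsNilpotent (↥D ⧸ Z) := hq.isNilpotent
      have hnil : Group.IsNilpotent ↥D :=
        Subgroup.isNilpotent_of_ker_le_center (QuotientGroup.mk' Z)
          (by rw [QuotientGroup.ker_mk']; exact hZc)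
      let P₀ : Sylow p ↥D := default
      have hiff : Group.IsNilpotent ↥D ↔ ∀ (p : ℕ) (_ : Fact p.Prime) (P : Sylow p ↥D),
          (P : Subgroup ↥D).Normal := (Group.isNilpotent_of_finite_tfae (G := ↥D)).out 0 3
      have hPn : (P₀ : Subgroup ↥D).Normal := hiff.mp hnil p inferInstance P₀
      have hPc : (P₀ : Subgroup ↥D).Characteristic := Sylow.characteristic_of_normal P₀ hPn
      have hPmn : ((P₀ : Subgroup ↥D).map D.subtype).Normal :=
        ConjAct.normal_of_characteristic_of_normal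
      have hPle : (P₀ : Subgroup ↥D).map D.subtype ≤ pCore p Γ :=
        le_pCore hPmn (P₀.isPGroup'.map _)
      rw [h, le_bot_iff] at hPle
      have hP0 : (P₀ : Subgroup ↥D) = ⊥ :=
        (Subgroup.map_eq_bot_iff_of_injective _ D.subtype_injective).mp hPle
      have hDc : (Nat.card D).Coprime p := by
        have h1 := P₀.not_dvd_index
        have h2 := Subgroup.card_mul_index (P₀ : Subgroup ↥D)
        rw [hP0, Subgroup.card_bot, one_mul] at h2
        rw [hP0, h2] at h1
        exact ((Nat.Prime.coprime_iff_not_dvd hp.out).mpr h1).symm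
      exact le_pPrimeCore hDn hDc
    apply hKneY
    apply le_antisymm hKY
    intro g hg
    have hg' := hYX hg
    rw [Subgroup.mem_sup_of_normal_right] at hg'
    obtain ⟨c, hc, k, hk, rfl⟩ := hg'
    have hcY : c ∈ Y := by
      have : c = (c * k) * k⁻¹ := by group
      rw [this]; exact Y.mul_mem hg (Y.inv_mem (hKY hk))
    exact K.mul_mem (hDK ⟨hcY, hc⟩) hk
  · have : (Nat.card Y).Coprime p := by
      rw [hYcard]; exact Nat.Coprime.mul_left hKc hcop
    exact hKneY (le_antisymm hKY (le_pPrimeCore hYn this))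

/-- a nontrivial `p`-element `y` of the cyclic `p`-group `⟨x⟩` acts nontrivially on some
`⟨x⟩`-invariant `q`-subgroup -/
theorem exists_q_sub (hG : IsPSolvable p Γ) (hOp : pCore p Γ = ⊥) (x y : Γ)
    (hxp : IsPGroup p (Subgroup.zpowers x)) (hy : y ∈ Subgroup.zpowers x) (hy1 : y ≠ 1) :
    ∃ q : ℕ, ∃ _ : Fact q.Prime, q ≠ p ∧ ∃ Q : Subgroup Γ, IsPGroup q Q ∧
      x ∈ Subgroup.normalizer (Q : Set Γ) ∧ ∃ t ∈ Q, y * t ≠ t * y := by
  set K := pPrimeCore p Γ with hKdef
  have hKn : K.Normal := pPrimeCore_normal p Γ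
  have hKc : (Nat.card K).Coprime p := card_pPrimeCore_coprime p
  have hpK : ¬ p ∣ Nat.card K := (Nat.Prime.coprime_iff_not_dvd hp.out).mp hKc.symm
  have hcent := centralizer_pPrimeCore_le hG hOp
  have hyK : y ∉ K := by
    intro hyK
    obtain ⟨k, hk⟩ := hxp ⟨y, hy⟩
    have hyk : y ^ p ^ k = 1 := by simpa using congrArg Subtype.val hk
    have h2 : y ^ Nat.card K = 1 := by
      have := congrArg Subtype.val (pow_card_eq_one' (G := ↥K) (x := ⟨y, hyK⟩))
      simp only [Subgroup.coe_pow, Subgroup.coe_one] at this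
      exact this
    have hg : y ^ Nat.gcd (p ^ k) (Nat.card K) = 1 := pow_gcd_eq_one.mpr ⟨hyk, h2⟩
    have hc : Nat.Coprime (p ^ k) (Nat.card K) := Nat.Coprime.pow_left _ hKc.symm
    rw [hc, pow_one] at hg
    exact hy1 hg
  by_contra hcon
  push Not at hcon
  apply hyK
  apply hcent
  rw [Subgroup.mem_centralizer_iff]
  intro k hk
  let C : Subgroup ↥K := (Subgroup.centralizer ({y} : Set Γ)).subgroupOf K
  have hCtop : C = ⊤ := by
    have hdvd : Nat.card ↥K ∣ Nat.card C := by
      rw [← Nat.factorization_prime_le_iff_dvd Nat.card_pos.ne' Nat.card_pos.ne']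
      intro q hq
      have : Fact q.Prime := ⟨hq⟩
      by_cases hqp : q = p
      · subst hqp
        rw [Nat.factorization_eq_zero_of_not_dvd hpK]; exact Nat.zero_le _
      · obtain ⟨Q, hQinv⟩ := exists_invariant_sylow (P := Subgroup.zpowers x) (N := K) hxp hpK q
        have hxn : x ∈ Subgroup.normalizer
            (((Q : Subgroup ↥K).map K.subtype : Subgroup Γ) : Set Γ) :=
          (smul_sylow_eq_iff x Q).mp
            (hQinv _ (toConjAct_mem_conjCopy (Subgroup.mem_zpowers x)))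
        have hQC : (Q : Subgroup ↥K) ≤ C := by
          intro t ht
          have h1 := hcon q ‹_› hqp ((Q : Subgroup ↥K).map K.subtype) (Q.isPGroup'.map _) hxn
            (t : Γ) (Subgroup.mem_map_of_mem _ ht)
          show (t : Γ) ∈ Subgroup.centralizer {y}
          rw [Subgroup.mem_centralizer_singleton_iff]
          exact h1.symm
        rw [← Nat.Prime.pow_dvd_iff_le_factorization hq Nat.card_pos.ne', ← Q.card_eq_multiplicity]
        exact Subgroup.card_dvd_of_le hQC
    exact Subgroup.eq_top_of_le_card _ (Nat.le_of_dvd Nat.card_pos hdvd)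
  have hkC : (⟨k, hk⟩ : ↥K) ∈ C := by rw [hCtop]; trivial
  have hk2 : k ∈ Subgroup.centralizer ({y} : Set Γ) := hkC
  rw [Subgroup.mem_centralizer_singleton_iff] at hk2
  exact hk2

end dualHH

end Cfsg.Agent.Lib.Helper67
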