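import Cfsg.Agent.Lib.Helper21.KRDefs
import Cfsg.Agent.Lib.Helper93.KRF1

/-!
# KR-F2b: the pivot of a chain is unchanged by the flip (S4651)
-/

set_option autoImplicit false
set_option linter.style.haveILetI false
set_option linter.unusedSectionVars false
open Cfsg

namespace Cfsg.Agent.Lib.Helper67.KR

open Cfsg.Agent.Lib.Helper21.KR Cfsg.Agent.Lib.Helper93.KR

universe u

section Chain

variable {G : Type u} [Group G] [Finite G] {p : ℕ} [Fact p.Prime] {x : G}
  {s : Finset (Subgroup G)}

/-- the members not containing `x` are the same before and after the flip -/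
theorem lowOf_flip (x : G) (s : Finset (Subgroup G)) : lowOf x (flip x s) = lowOf x s := by
  classical
  have hxP : x ∈ piv x s := mem_piv x s
  apply le_antisymm
  · apply lowOf_le
    intro Q hQ hxQ
    have hQs : Q ∈ s := by
      unfold Cfsg.Agent.Lib.Helper21.KR.flip at hQ
      split_ifs at hQ with hmem
      · exact Finset.mem_of_mem_erase hQ
      · rcases Finset.mem_insert.1 hQ with rfl | h
        · exact absurd hxP hxQ
        · exact h
    exact le_lowOf hQs hxQ
  · apply lowOf_le
    intro Q hQ hxQ
    have hQs : Q ∈ flip x s := by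
      unfold Cfsg.Agent.Lib.Helper21.KR.flip
      split_ifs with hmem
      · refine Finset.mem_erase.2 ⟨?_, hQ⟩
        rintro rfl
        exact hxQ hxP
      · exact Finset.mem_insert_of_mem hQ
    exact le_lowOf hQs hxQ

theorem topOf_insert' (P : Subgroup G) (s : Finset (Subgroup G)) [DecidableEq (Subgroup G)] :
    topOf (insert P s) = P ⊔ topOf s := by
  unfold topOf
  rw [Finset.sup_insert]
  rfl

set_option linter.unusedVariables false in
theorem piv_flip (hs : IsNChain p s) (hx : x ∈ chainStab s) : piv x (flip x s) = piv x s := by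
  classical
  have hTs : topOf s ∈ s := topOf_mem hs
  show pivot (topOf (flip x s)) (lowOf x (flip x s)) x = piv x s
  rw [lowOf_flip]
  by_cases hmem : piv x s ∈ s
  · -- erase case
    have hflip : flip x s = s.erase (piv x s) := by
      unfold Cfsg.Agent.Lib.Helper21.KR.flip; rw [if_pos hmem]
    by_cases hPT : piv x s = topOf s
    · -- the top is removed
      have hxT : x ∈ topOf s := hPT ▸ mem_piv x s
      have hother : ∀ Q ∈ s.erase (topOf s), x ∉ Q := by
        intro Q hQ hxQ
        have hQs : Q ∈ s := Finset.mem_of_mem_erase hQ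
        have h1 : piv x s ≤ Q := piv_le_of_mem hs hQs hxQ
        have h2 : Q ≤ topOf s := le_topOf hQs
        exact (Finset.ne_of_mem_erase hQ) (le_antisymm h2 (hPT ▸ h1))
      have htop : topOf (s.erase (topOf s)) = lowOf x s := by
        apply le_antisymm
        · apply Finset.sup_le
          intro Q hQ
          exact le_lowOf (Finset.mem_of_mem_erase hQ) (hother Q hQ)
        · apply lowOf_le
          intro Q hQ hxQ
          refine le_topOf (Finset.mem_erase.2 ⟨?_, hQ⟩)
          rintro rfl
          exact hxQ hxT
      rw [hflip, hPT, htop, pivot_self]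
      have hpT : IsPGroup p (topOf s) := (hs.2.2.1 _ hTs).2
      exact sup_zpowers_eq_of_pivot_eq hpT lowOf_le_topOf hxT hPT
    · -- another member is removed
      have htop : topOf (s.erase (piv x s)) = topOf s := by
        apply le_antisymm
        · exact Finset.sup_mono (Finset.erase_subset _ _)
        · exact le_topOf (Finset.mem_erase.2 ⟨fun h => hPT h.symm, hTs⟩)
      rw [hflip, htop]
      rfl
  · -- insert case
    have hflip : flip x s = insert (piv x s) s := by
      unfold Cfsg.Agent.Lib.Helper21.KR.flip; rw [if_neg hmem]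
    have htop : topOf (flip x s) = piv x s ⊔ topOf s := by
      rw [hflip]; exact topOf_insert' _ _
    by_cases hxT : x ∈ topOf s
    · have hle : piv x s ≤ topOf s := piv_le_of_mem hs hTs hxT
      rw [htop, sup_eq_right.2 hle]
      rfl
    · have hP : piv x s = topOf s ⊔ Subgroup.zpowers x := piv_eq_sup_of_not_mem hxT
      have hL : lowOf x s = topOf s := lowOf_eq_topOf_of_not_mem hxT
      rw [htop, hL, hP]
      have : topOf s ⊔ Subgroup.zpowers x ⊔ topOf s = topOf s ⊔ Subgroup.zpowers x :=
        sup_eq_left.2 le_sup_left
      rw [this]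
      exact pivot_sup_zpowers _ _

end Chain

end Cfsg.Agent.Lib.Helper67.KR
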