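import Cfsg.Agent.Lib.Helper94.LCDefs

/-!
# K-LC LEAF A8a (keystone 640615, S0406 pack, architect helper94)

Even vectors of `L` lie in `StdLeech (codeOf L)` after the sign change `ε`.
-/

set_option autoImplicit false
open Matrix

namespace Cfsg.Agent.Lib.Helper67.LC

open Cfsg.Agent.Lib.Helper94.LC

variable (L : AddSubgroup (Fin 24 → ℤ))

/-- LEAF A8a (640615) -/
theorem std_of_mem_even (hL : CoordLattice L) (ε : Fin 24 → ℤ) (hε : ∀ i, ε i = 1 ∨ ε i = -1)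
    (hsum : ∀ v ∈ L, (∀ i, (2 : ℤ) ∣ v i) → (8 : ℤ) ∣ ∑ i, ε i * v i)
    (x : Fin 24 → ℤ) (hx : x ∈ L) (hev : ∀ i, (2 : ℤ) ∣ x i) :
    (fun i => ε i * x i) ∈ StdLeech (codeOf L) := by
  have hxy : (fun i => 2 * (x i / 2)) = x := by
    funext i
    exact Int.mul_ediv_cancel' (hev i)
  refine ⟨0, fun i => ((x i / 2 : ℤ) : ZMod 2), ?_, ?_, ?_⟩
  · rw [mem_codeOf]
    exact ⟨fun i => x i / 2, by rw [hxy]; exact hx, fun i => rfl⟩
  · intro i
    show ε i * x i ≡ 0 + 2 * ((((x i / 2 : ℤ) : ZMod 2)).val : ℤ) [ZMOD 4]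
    rw [ZMod.val_intCast, zero_add]
    obtain ⟨y, hy⟩ := hev i
    rw [hy, Int.mul_ediv_cancel_left _ (by norm_num : (2 : ℤ) ≠ 0)]
    push_cast
    unfold Int.ModEq
    rcases hε i with h | h
    · rw [h]; omega
    · rw [h]; omega
  · show ∑ i, ε i * x i ≡ 4 * 0 [ZMOD 8]
    rw [mul_zero]
    exact (Int.modEq_zero_iff_dvd).2 (hsum x hx hev)

end Cfsg.Agent.Lib.Helper67.LC
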