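import Cfsg.Agent.Lib.Helper67.OElPP
import Cfsg.Agent.Lib.Helper29.OElBRP
import Cfsg.Agent.Lib.Helper40.OElH
import Cfsg.Agent.Lib.Helper93.OElI

/-!
# K-OEl CASE LEAF PP (keystone 598825), hypothesis-free: `case_p_ellP` with the exact spec signature.
-/

set_option autoImplicit false

namespace Cfsg.Agent.Lib.Helper67.OEl

open Module Cfsg.Agent.Lib.Helper98.Elus Cfsg.Agent.Lib.Helper98.Sy Cfsg.Agent.Lib.Helper38.OhP
  Cfsg.Agent.Lib.Helper49.OEl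

universe u
variable {F : Type u} [Field F]

/-- CASE LEAF PP (598825) -/
theorem case_p_ellP [Fintype F] {p : ℕ} [Fact p.Prime] [CharP F p] (d m : ℕ) (hd : 4 ≤ d) (hme : Even m) :
    ∃ x : GL (Fin d ⊕ Fin d) F, x ∈ Cfsg.Geo.omegaGL (Cfsg.quadFormPlus d F) ∧
      (∃ z : F, ((x ^ p : GL (Fin d ⊕ Fin d) F) : Matrix (Fin d ⊕ Fin d) (Fin d ⊕ Fin d) F) =
        z • (1 : Matrix (Fin d ⊕ Fin d) (Fin d ⊕ Fin d) F)) ∧
      (∀ z : F, (x : Matrix (Fin d ⊕ Fin d) (Fin d ⊕ Fin d) F) ≠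
        z • (1 : Matrix (Fin d ⊕ Fin d) (Fin d ⊕ Fin d) F)) ∧
      ∀ W : Submodule F (Fin d ⊕ Fin d → F), IsEllP d m W →
        ¬ W.map (Matrix.toLin' (x : Matrix (Fin d ⊕ Fin d) (Fin d ⊕ Fin d) F)) ≤ W :=
  case_p_ellP_of d m hme (Cfsg.Agent.Lib.Helper29.OEl.isEllP_iff d m)
    (fun E hE u hR hEK hK W hW hWe =>
      Cfsg.Agent.Lib.Helper40.OEl.plusQ_of_unip (Q0 d F) E hE u hR hEK hK W hW hWe)
    (Cfsg.Agent.Lib.Helper93.OEl.exists_unip_plus d hd)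

end Cfsg.Agent.Lib.Helper67.OEl
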