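import Cfsg.Agent.Lib.Helper67.PLen

set_option autoImplicit false

namespace Cfsg.Agent.Lib.Helper67

open Cfsg

section cores

variable {X Y : Type*} [Group X] [Group Y]

/-- the image of the `p'`-core under a map with normal range lies in the `p'`-core -/
theorem map_pPrimeCore_le_of_normal_range [Finite X] [Finite Y] (p : ℕ)
    (φ : X →* Y) (hφ : φ.range.Normal) : (pPrimeCore p X).map φ ≤ pPrimeCore p Y := by
  have h1 : (pPrimeCore p X).map φ = ((pPrimeCore p X).map φ.rangeRestrict).map φ.range.subtype := by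
    rw [Subgroup.map_map]
    rfl
  rw [h1]
  refine (Subgroup.map_mono
    (map_pPrimeCore_le_of_surjective p φ.rangeRestrict φ.rangeRestrict_surjective)).trans ?_
  exact Helper15.map_pPrimeCore_le_of_normal p φ.range

/-- the image of the `p`-core under a map with normal range lies in the `p`-core -/
theorem map_pCore_le_of_normal_range [Finite X] [Finite Y] (p : ℕ) [Fact p.Prime]
    (φ : X →* Y) (hφ : φ.range.Normal) : (pCore p X).map φ ≤ pCore p Y := by
  have h1 : (pCore p X).map φ = ((pCore p X).map φ.rangeRestrict).map φ.range.subtype := by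
    rw [Subgroup.map_map]
    rfl
  rw [h1]
  refine (Subgroup.map_mono
    (map_pCore_le_of_surjective p φ.rangeRestrict φ.rangeRestrict_surjective)).trans ?_
  exact Helper15.map_pCore_le_of_normal p φ.range

end cores

/-- upper `p`-series terms map into upper `p`-series terms under a map with normal range -/
theorem upperPSeries_map_le_of_normal_range {G H : Type*} [Group G] [Group H] [Finite G] [Finite H]
    (p : ℕ) [Fact p.Prime] (f : G →* H) (hf : f.range.Normal) (n : ℕ) :
    (upperPSeries p G n).1.map f ≤ (upperPSeries p H n).1 := by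
  induction n with
  | zero =>
    rw [upperPSeries_zero', Subgroup.map_bot]
    exact bot_le
  | succ n ih =>
    have hle : (upperPSeries p G n).1 ≤ ((upperPSeries p H n).1).comap f :=
      Subgroup.map_le_iff_le_comap.mp ih
    let φ : G ⧸ (upperPSeries p G n).1 →* H ⧸ (upperPSeries p H n).1 :=
      QuotientGroup.map (upperPSeries p G n).1 (upperPSeries p H n).1 f hle
    have hcomp : (QuotientGroup.mk' (upperPSeries p H n).1).comp f =
        φ.comp (QuotientGroup.mk' (upperPSeries p G n).1) := by
      ext x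
      rfl
    have hrange : φ.range = f.range.map (QuotientGroup.mk' (upperPSeries p H n).1) := by
      ext y
      constructor
      · rintro ⟨x, rfl⟩
        obtain ⟨g, rfl⟩ := QuotientGroup.mk'_surjective _ x
        exact ⟨f g, ⟨g, rfl⟩, rfl⟩
      · rintro ⟨_, ⟨g, rfl⟩, rfl⟩
        exact ⟨QuotientGroup.mk' _ g, rfl⟩
    have hφ : φ.range.Normal := by
      rw [hrange]
      exact Subgroup.Normal.map hf _ (QuotientGroup.mk'_surjective _)
    by_cases hn : Even n
    · rw [Helper15.upperPSeries_succ_even p n hn, Helper15.upperPSeries_succ_even p n hn,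
        Subgroup.map_le_iff_le_comap, Subgroup.comap_comap, hcomp, ← Subgroup.comap_comap]
      apply Subgroup.comap_mono
      rw [← Subgroup.map_le_iff_le_comap]
      exact map_pPrimeCore_le_of_normal_range p φ hφ
    · rw [Helper15.upperPSeries_succ_odd p n hn, Helper15.upperPSeries_succ_odd p n hn,
        Subgroup.map_le_iff_le_comap, Subgroup.comap_comap, hcomp, ← Subgroup.comap_comap]
      apply Subgroup.comap_mono
      rw [← Subgroup.map_le_iff_le_comap]
      exact map_pCore_le_of_normal_range p φ hφ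

/-- for a normal subgroup `N`, `U_n(N) ≤ U_n(G)` -/
theorem upperPSeries_subtype_le {G : Type*} [Group G] [Finite G] (p : ℕ) [Fact p.Prime]
    (N : Subgroup G) [hN : N.Normal] (n : ℕ) :
    (upperPSeries p ↥N n).1.map N.subtype ≤ (upperPSeries p G n).1 := by
  apply upperPSeries_map_le_of_normal_range
  rw [Subgroup.range_subtype]
  exact hN

section absorb

variable {G : Type*} [Group G] [Finite G] (p : ℕ)

/-- absorption, `p'` version -/
theorem le_comap_pPrimeCore_of_relIndex (V A B : Subgroup G) [V.Normal] [B.Normal] (hAB : A ≤ B)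
    (h1 : (V.relIndex A).Coprime p) (h2 : (A.relIndex B).Coprime p) :
    B ≤ (pPrimeCore p (G ⧸ V)).comap (QuotientGroup.mk' V) := by
  rw [← Subgroup.map_le_iff_le_comap]
  have hn : (B.map (QuotientGroup.mk' V)).Normal :=
    Subgroup.Normal.map inferInstance _ (QuotientGroup.mk'_surjective V)
  apply Cfsg.Agent.Lib.Helper81.le_pPrimeCore hn
  have hcard : Nat.card (B.map (QuotientGroup.mk' V)) = V.relIndex B := by
    have := Subgroup.relIndex_ker (K := B) (QuotientGroup.mk' V)
    rw [QuotientGroup.ker_mk'] at this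
    exact this.symm
  rw [hcard]
  have hd1 : V.relIndex B ∣ (A ⊓ V).relIndex B := Subgroup.relIndex_dvd_of_le_left B inf_le_right
  have hd2 : (A ⊓ V).relIndex B = (A ⊓ V).relIndex A * A.relIndex B :=
    (Subgroup.relIndex_mul_relIndex (A ⊓ V) A B inf_le_left hAB).symm
  have hd3 : (A ⊓ V).relIndex A = V.relIndex A := Subgroup.inf_relIndex_left A V
  rw [hd2, hd3] at hd1
  exact Nat.Coprime.coprime_dvd_left hd1 (Nat.Coprime.mul_left h1 h2)

/-- absorption, `p` version -/
theorem le_comap_pCore_of_relIndex [hp : Fact p.Prime] (V A B : Subgroup G) [V.Normal] [B.Normal]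
    (hAB : A ≤ B) (h1 : ∃ a, V.relIndex A = p ^ a) (h2 : ∃ b, A.relIndex B = p ^ b) :
    B ≤ (pCore p (G ⧸ V)).comap (QuotientGroup.mk' V) := by
  rw [← Subgroup.map_le_iff_le_comap]
  have hn : (B.map (QuotientGroup.mk' V)).Normal :=
    Subgroup.Normal.map inferInstance _ (QuotientGroup.mk'_surjective V)
  apply Cfsg.Agent.Lib.Helper81.le_pCore hn
  have hcard : Nat.card (B.map (QuotientGroup.mk' V)) = V.relIndex B := by
    have := Subgroup.relIndex_ker (K := B) (QuotientGroup.mk' V)
    rw [QuotientGroup.ker_mk'] at this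
    exact this.symm
  have hd1 : V.relIndex B ∣ (A ⊓ V).relIndex B := Subgroup.relIndex_dvd_of_le_left B inf_le_right
  have hd2 : (A ⊓ V).relIndex B = (A ⊓ V).relIndex A * A.relIndex B :=
    (Subgroup.relIndex_mul_relIndex (A ⊓ V) A B inf_le_left hAB).symm
  have hd3 : (A ⊓ V).relIndex A = V.relIndex A := Subgroup.inf_relIndex_left A V
  obtain ⟨a, ha⟩ := h1
  obtain ⟨b, hb⟩ := h2
  rw [hd2, hd3, ha, hb, ← pow_add] at hd1
  obtain ⟨j, -, hj⟩ := (Nat.dvd_prime_pow hp.out).mp hd1
  exact IsPGroup.of_card (hcard.trans hj)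

/-- cross-type absorption at an even position -/
theorem le_upperPSeries_succ_of_even (n : ℕ) (hn : Even n) (A B : Subgroup G) [B.Normal]
    (hAB : A ≤ B) (hA : A ≤ (upperPSeries p G n).1) (h2 : (A.relIndex B).Coprime p) :
    B ≤ (upperPSeries p G (n + 1)).1 := by
  rw [Helper15.upperPSeries_succ_even p n hn]
  apply le_comap_pPrimeCore_of_relIndex p _ A B hAB _ h2
  rw [Subgroup.relIndex_eq_one.mpr hA]
  exact Nat.coprime_one_left p

/-- cross-type absorption at an odd position -/
theorem le_upperPSeries_succ_of_odd [Fact p.Prime] (n : ℕ) (hn : ¬ Even n) (A B : Subgroup G)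
    [B.Normal] (hAB : A ≤ B) (hA : A ≤ (upperPSeries p G n).1) (h2 : ∃ b, A.relIndex B = p ^ b) :
    B ≤ (upperPSeries p G (n + 1)).1 := by
  rw [Helper15.upperPSeries_succ_odd p n hn]
  apply le_comap_pCore_of_relIndex p _ A B hAB _ h2
  exact ⟨0, by rw [Subgroup.relIndex_eq_one.mpr hA, pow_zero]⟩

/-- same-type absorption at an odd position -/
theorem le_upperPSeries_of_odd (n : ℕ) (hn : Even n) (A B : Subgroup G) [B.Normal]
    (hAB : A ≤ B) (hA : A ≤ (upperPSeries p G (n + 1)).1) (h2 : (A.relIndex B).Coprime p) :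
    B ≤ (upperPSeries p G (n + 1)).1 := by
  rw [Helper15.upperPSeries_succ_even p n hn] at hA ⊢
  apply le_comap_pPrimeCore_of_relIndex p _ A B hAB _ h2
  -- the image of A is in the p'-core
  have hcard : Nat.card (A.map (QuotientGroup.mk' (upperPSeries p G n).1)) =
      (upperPSeries p G n).1.relIndex A := by
    have := Subgroup.relIndex_ker (K := A) (QuotientGroup.mk' (upperPSeries p G n).1)
    rw [QuotientGroup.ker_mk'] at this
    exact this.symm
  rw [← hcard]
  have hle : A.map (QuotientGroup.mk' (upperPSeries p G n).1) ≤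
      pPrimeCore p (G ⧸ (upperPSeries p G n).1) := Subgroup.map_le_iff_le_comap.mpr hA
  exact Nat.Coprime.coprime_dvd_left (Subgroup.card_dvd_of_le hle)
    (Cfsg.Agent.Lib.Helper81.card_pPrimeCore_coprime p)

end absorb

end Cfsg.Agent.Lib.Helper67
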