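import Mathlib
import Cfsg.Prelude.Def_PLocal
import Cfsg.Agent.Lib.Helper01.PCore
import Cfsg.Agent.Lib.Helper02.StableW2
import Cfsg.Agent.Lib.Helper13.MinNormal
import Cfsg.Agent.Lib.Helper15.Transport
import Cfsg.Agent.Lib.Helper15.PSolv
import Cfsg.Agent.Lib.Helper54.PRedSubnormal2
import Cfsg.Agent.Lib.Helper55.Large
import Cfsg.Agent.Lib.Helper75.FrattiniFaithful

set_option autoImplicit false
set_option linter.style.haveILetI false

/-!
# Abstract lemmas for primitive pairs of characteristic `p` (KS 10.1.6)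
-/

namespace Cfsg.Agent.Lib.Helper67.PrimPair

open Cfsg
open scoped commutatorElement

/-- If `b` maps into `O_p(M/C)` and lies in a normal subgroup `N` all of whose elements commute
with `C` modulo `O_p(M)`, then `b ∈ O_p(M) C`. -/
theorem lemmaK {M : Type*} [Group M] [Finite M] {p : ℕ} [Fact p.Prime]
    (C N : Subgroup M) [hCn : C.Normal] [hNn : N.Normal]
    (hN : ∀ n ∈ N, ∀ c ∈ C, c * n * c⁻¹ * n⁻¹ ∈ Cfsg.pCore p M)
    (b : M) (hbN : b ∈ N)
    (hb : (QuotientGroup.mk b : M ⧸ C) ∈ Cfsg.pCore p (M ⧸ C)) :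
    ∃ q ∈ Cfsg.pCore p M, ∃ c ∈ C, b = q * c := by
  classical
  haveI hQn : (Cfsg.pCore p M).Normal := Cfsg.Agent.Lib.Helper01.pCore_normal p
  have hQp : IsPGroup p (Cfsg.pCore p M) := Cfsg.Agent.Lib.Helper01.pCore_isPGroup p
  haveI hQCn : (Cfsg.pCore p (M ⧸ C)).Normal := Cfsg.Agent.Lib.Helper01.pCore_normal p
  have hQCp : IsPGroup p (Cfsg.pCore p (M ⧸ C)) := Cfsg.Agent.Lib.Helper01.pCore_isPGroup p
  obtain ⟨X, hX⟩ : ∃ X : Subgroup M,
      X = N ⊓ (Cfsg.pCore p (M ⧸ C)).comap (QuotientGroup.mk' C) := ⟨_, rfl⟩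
  haveI hXn : X.Normal := by
    rw [hX]
    haveI : ((Cfsg.pCore p (M ⧸ C)).comap (QuotientGroup.mk' C)).Normal := hQCn.comap _
    infer_instance
  have hXN : X ≤ N := by rw [hX]; exact inf_le_left
  have hbX : b ∈ X := by
    rw [hX]
    exact ⟨hbN, hb⟩
  have hpow : ∀ x ∈ X, ∃ k : ℕ, x ^ (p ^ k) ∈ C := by
    intro x hx
    rw [hX] at hx
    have hk : (QuotientGroup.mk' C) x ∈ Cfsg.pCore p (M ⧸ C) := hx.2
    obtain ⟨a, ha⟩ := hQCp ⟨_, hk⟩
    have ha' : (QuotientGroup.mk' C) (x ^ (p ^ a)) = 1 := by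
      rw [map_pow]
      simpa using congrArg Subtype.val ha
    refine ⟨a, ?_⟩
    rwa [QuotientGroup.mk'_apply, QuotientGroup.eq_one_iff] at ha'
  -- inside `X`
  have hquot : IsPGroup p (↥X ⧸ C.subgroupOf X) := by
    intro g
    induction g using QuotientGroup.induction_on with
    | H x =>
      obtain ⟨k, hk⟩ := hpow x x.2
      refine ⟨k, ?_⟩
      rw [← QuotientGroup.mk_pow, QuotientGroup.eq_one_iff, Subgroup.mem_subgroupOf]
      simpa using hk
  obtain ⟨S⟩ : Nonempty (Sylow p ↥X) := inferInstance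
  have hsup : C.subgroupOf X ⊔ (S : Subgroup ↥X) = ⊤ := by
    rw [← Subgroup.index_eq_one]
    have h1 : (C.subgroupOf X ⊔ (S : Subgroup ↥X)).index ∣ (C.subgroupOf X).index :=
      Subgroup.index_dvd_of_le le_sup_left
    have h2 : (C.subgroupOf X ⊔ (S : Subgroup ↥X)).index ∣ (S : Subgroup ↥X).index :=
      Subgroup.index_dvd_of_le le_sup_right
    obtain ⟨n, hn⟩ : ∃ n, (C.subgroupOf X).index = p ^ n := by
      rw [Subgroup.index_eq_card]
      exact hquot.exists_card_eq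
    rw [hn] at h1
    obtain ⟨j, -, hj⟩ := (Nat.dvd_prime_pow (Fact.out : p.Prime)).mp h1
    rcases Nat.eq_zero_or_pos j with hj0 | hjpos
    · rw [hj, hj0, pow_zero]
    · exfalso
      apply S.not_dvd_index
      refine dvd_trans ?_ h2
      rw [hj]
      exact dvd_pow_self p hjpos.ne'
  have hQS : (Cfsg.pCore p M).subgroupOf X ≤ (S : Subgroup ↥X) := by
    have hp' : IsPGroup p ((Cfsg.pCore p M).subgroupOf X) := hQp.comap_subtype
    exact hp'.le_sylow_of_normal S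
  haveI hSn : (S : Subgroup ↥X).Normal := by
    constructor
    intro n hn g
    have hg : g ∈ ((C.subgroupOf X ⊔ (S : Subgroup ↥X) : Subgroup ↥X) : Set ↥X) := by
      rw [hsup]
      exact Subgroup.mem_top g
    rw [Subgroup.normal_mul] at hg
    obtain ⟨c, hc, s, hs, rfl⟩ := Set.mem_mul.mp hg
    have hn' : s * n * s⁻¹ ∈ (S : Subgroup ↥X) :=
      (S : Subgroup ↥X).mul_mem ((S : Subgroup ↥X).mul_mem hs hn) ((S : Subgroup ↥X).inv_mem hs)
    have hcomm : c * (s * n * s⁻¹) * c⁻¹ * (s * n * s⁻¹)⁻¹ ∈ (S : Subgroup ↥X) := by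
      apply hQS
      rw [Subgroup.mem_subgroupOf]
      have := hN ((s * n * s⁻¹ : ↥X) : M) (hXN (s * n * s⁻¹ : ↥X).2) (c : M)
        (Subgroup.mem_subgroupOf.mp hc)
      simpa using this
    have hid : c * s * n * (c * s)⁻¹ =
        (c * (s * n * s⁻¹) * c⁻¹ * (s * n * s⁻¹)⁻¹) * (s * n * s⁻¹) := by
      group
    rw [hid]
    exact (S : Subgroup ↥X).mul_mem hcomm hn'
  haveI hSc : (S : Subgroup ↥X).Characteristic := Sylow.characteristic_of_normal S hSn
  have hPn : ((S : Subgroup ↥X).map X.subtype).Normal :=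
    ConjAct.normal_of_characteristic_of_normal
  have hPQ : (S : Subgroup ↥X).map X.subtype ≤ Cfsg.pCore p M :=
    Cfsg.Agent.Lib.Helper01.le_pCore hPn (S.isPGroup'.map _)
  have hb' : (⟨b, hbX⟩ : ↥X) ∈
      (((S : Subgroup ↥X) ⊔ C.subgroupOf X : Subgroup ↥X) : Set ↥X) := by
    rw [sup_comm, hsup]
    exact Subgroup.mem_top _
  rw [Subgroup.mul_normal] at hb'
  obtain ⟨s, hs, c, hc, hsc⟩ := Set.mem_mul.mp hb'
  refine ⟨(s : M), hPQ ⟨s, hs, rfl⟩, (c : M), Subgroup.mem_subgroupOf.mp hc, ?_⟩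
  have := congrArg Subtype.val hsc
  simpa using this.symm

/-- an element acting quadratically on `O_p(M)` lies in `O_p(M)` (action-`p`-stable, char `p`) -/
theorem mem_pCore_of_quadratic {M : Type*} [Group M] [Finite M] {p : ℕ} [Fact p.Prime]
    (hst : Cfsg.IsActionPStable p M)
    (hc : Subgroup.centralizer (Cfsg.pCore p M : Set M) ≤ Cfsg.pCore p M) (a : M)
    (hq : ⁅⁅Cfsg.pCore p M, Subgroup.zpowers a⁆, Subgroup.zpowers a⁆ = ⊥) :
    a ∈ Cfsg.pCore p M := by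
  obtain ⟨-, h2, -⟩ := hst
  haveI hQn : (Cfsg.pCore p M).Normal := Cfsg.Agent.Lib.Helper01.pCore_normal p
  have hQp : IsPGroup p (Cfsg.pCore p M) := Cfsg.Agent.Lib.Helper01.pCore_isPGroup p
  obtain ⟨D, hDn, hKD, ⟨k, hk⟩, haD⟩ := h2 a (by rw [hq]; exact bot_le)
  have hKQ : Cfsg.sectionKernel (Cfsg.pCore p M)
      ((frattini ↥(Cfsg.pCore p M)).map (Cfsg.pCore p M).subtype) ≤ Cfsg.pCore p M := by
    intro g hg
    exact Cfsg.Agent.Lib.Helper75.mem_pCore_of_trivial_on_frattini_quotient (Cfsg.pCore p M) hQp hc g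
      (Cfsg.Agent.Lib.Helper02.StableW.mem_sectionKernel hg)
  have hDp : IsPGroup p D := by
    obtain ⟨j, hj⟩ := (hQp.to_le hKQ).exists_card_eq
    have h1 := Subgroup.card_mul_index ((Cfsg.sectionKernel (Cfsg.pCore p M)
      ((frattini ↥(Cfsg.pCore p M)).map (Cfsg.pCore p M).subtype)).subgroupOf D)
    rw [Nat.card_congr (Subgroup.subgroupOfEquivOfLe hKD).toEquiv, hj] at h1
    have h5 : Nat.card D = p ^ (j + k) := by
      rw [← h1, pow_add, ← hk]
      rfl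
    exact IsPGroup.of_card h5
  exact Cfsg.Agent.Lib.Helper01.le_pCore hDn hDp haD

/-- a `p`-subgroup `X` of a normal subgroup `N`, normalized by `N`, lies in `O_p(M)` -/
theorem le_pCore_of_normal_in_normal {M : Type*} [Group M] [Finite M] {p : ℕ} [Fact p.Prime]
    (N X : Subgroup M) [N.Normal] (hXN : X ≤ N) (hXp : IsPGroup p X)
    (hNX : N ≤ Subgroup.normalizer (X : Set M)) : X ≤ Cfsg.pCore p M := by
  haveI : (X.subgroupOf N).Normal := by
    constructor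
    intro x hx g
    rw [Subgroup.mem_subgroupOf] at hx ⊢
    have := (Subgroup.mem_normalizer_iff.mp (hNX g.2) (x : M)).mp hx
    simpa using this
  have h1 : X.subgroupOf N ≤ Cfsg.pCore p ↥N :=
    Cfsg.Agent.Lib.Helper01.le_pCore inferInstance hXp.comap_subtype
  have h2 : (X.subgroupOf N).map N.subtype ≤ (Cfsg.pCore p ↥N).map N.subtype :=
    Subgroup.map_mono h1
  rw [Subgroup.map_subgroupOf_eq_of_le hXN] at h2
  exact h2.trans (Cfsg.Agent.Lib.Helper15.map_pCore_le_of_normal p N)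

/-- a minimal normal subgroup inside `O_p(M)`: elementary abelian, and no element of `M` acts
quadratically and nontrivially on it -/
theorem exists_minNormal_noQuad {M : Type*} [Group M] [Finite M] {p : ℕ} [Fact p.Prime]
    (hst : Cfsg.IsActionPStable p M) (hQ : Cfsg.pCore p M ≠ ⊥) :
    ∃ V : Subgroup M, V.Normal ∧ V ≠ ⊥ ∧ V ≤ Cfsg.pCore p M ∧ Cfsg.IsElementaryAbelian p V ∧
      ∀ x : M, ⁅⁅V, Subgroup.zpowers x⁆, Subgroup.zpowers x⁆ = ⊥ →
        x ∈ Subgroup.centralizer (V : Set M) := by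
  haveI hQn : (Cfsg.pCore p M).Normal := Cfsg.Agent.Lib.Helper01.pCore_normal p
  have hQp : IsPGroup p (Cfsg.pCore p M) := Cfsg.Agent.Lib.Helper01.pCore_isPGroup p
  obtain ⟨V, hVQ, hVn, hVne, hVmin⟩ :=
    Cfsg.Agent.Lib.Helper13.exists_isMinNormal_le (Cfsg.pCore p M) hQn hQ
  haveI := hVn
  have hVp : IsPGroup p V := hQp.to_le hVQ
  have hWn : (Cfsg.omegaOne p (V ⊓ Subgroup.centralizer (V : Set M))).Normal :=
    Cfsg.Agent.Lib.Helper15.omegaOne_center_normal p V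
  have hWle : Cfsg.omegaOne p (V ⊓ Subgroup.centralizer (V : Set M)) ≤ V :=
    (Cfsg.Agent.Lib.Helper54.omegaOne_le p _).trans inf_le_left
  have hWne : Cfsg.omegaOne p (V ⊓ Subgroup.centralizer (V : Set M)) ≠ ⊥ := by
    have hZne := Cfsg.Agent.Lib.Helper55.inf_centralizer_ne_bot hVp hVne
    have hZp : IsPGroup p ↥(V ⊓ Subgroup.centralizer (V : Set M)) := hVp.to_le inf_le_left
    haveI : Nontrivial ↥(V ⊓ Subgroup.centralizer (V : Set M)) :=
      (Subgroup.nontrivial_iff_ne_bot _).mpr hZne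
    have hdvd : p ∣ Nat.card ↥(V ⊓ Subgroup.centralizer (V : Set M)) := by
      rcases hZp.card_eq_or_dvd with h | h
      · exfalso
        have := Finite.one_lt_card (α := ↥(V ⊓ Subgroup.centralizer (V : Set M)))
        omega
      · exact h
    obtain ⟨z, hz⟩ := exists_prime_orderOf_dvd_card' p hdvd
    intro hbot
    have hzp : ((z : M)) ^ p = 1 := by
      have h1 : z ^ p = 1 := by rw [← hz]; exact pow_orderOf_eq_one z
      have := congrArg Subtype.val h1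
      simpa using this
    have hzmem : (z : M) ∈ Cfsg.omegaOne p (V ⊓ Subgroup.centralizer (V : Set M)) :=
      Cfsg.Agent.Lib.Helper54.mem_omegaOne z.2 hzp
    rw [hbot, Subgroup.mem_bot] at hzmem
    have hz1 : z = 1 := Subtype.ext hzmem
    rw [hz1, orderOf_one] at hz
    exact (Fact.out : p.Prime).one_lt.ne hz
  have hWV : Cfsg.omegaOne p (V ⊓ Subgroup.centralizer (V : Set M)) = V :=
    (hVmin _ hWn hWle).resolve_left hWne
  have hVea : Cfsg.IsElementaryAbelian p V := by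
    have h := Cfsg.Agent.Lib.Helper54.isElementaryAbelian_omegaOne_center p V
    rwa [hWV] at h
  refine ⟨V, hVn, hVne, hVQ, hVea, ?_⟩
  intro x hx
  have h1 := hst.1 V hVea x hx
  haveI hQCn : (Cfsg.pCore p (M ⧸ Subgroup.centralizer (V : Set M))).Normal :=
    Cfsg.Agent.Lib.Helper01.pCore_normal p
  have hQCp : IsPGroup p (Cfsg.pCore p (M ⧸ Subgroup.centralizer (V : Set M))) :=
    Cfsg.Agent.Lib.Helper01.pCore_isPGroup p
  obtain ⟨P, hP⟩ : ∃ P : Subgroup M, P = (Cfsg.pCore p (M ⧸ Subgroup.centralizer (V : Set M))).comap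
      (QuotientGroup.mk' (Subgroup.centralizer (V : Set M))) := ⟨_, rfl⟩
  haveI hPn : P.Normal := by
    rw [hP]
    exact hQCn.comap _
  have hxP : x ∈ P := by
    rw [hP]
    exact h1
  have hpow : ∀ d ∈ P, ∃ k : ℕ, d ^ (p ^ k) ∈ Subgroup.centralizer (V : Set M) := by
    intro d hd
    rw [hP] at hd
    have hk : (QuotientGroup.mk' (Subgroup.centralizer (V : Set M))) d ∈
        Cfsg.pCore p (M ⧸ Subgroup.centralizer (V : Set M)) := hd
    obtain ⟨a, ha⟩ := hQCp ⟨_, hk⟩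
    have ha' : (QuotientGroup.mk' (Subgroup.centralizer (V : Set M))) (d ^ (p ^ a)) = 1 := by
      rw [map_pow]
      simpa using congrArg Subtype.val ha
    refine ⟨a, ?_⟩
    rwa [QuotientGroup.mk'_apply, QuotientGroup.eq_one_iff] at ha'
  have hPV : P ≤ Subgroup.normalizer (V : Set M) := by
    rw [Subgroup.normalizer_eq_top]
    exact le_top
  have hF := Cfsg.Agent.Lib.Helper54.inf_centralizer_ne_bot_of_pow_mem hPV hVp hVne hpow
  have hFn : (V ⊓ Subgroup.centralizer (P : Set M)).Normal := inferInstance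
  have hFV : V ⊓ Subgroup.centralizer (P : Set M) = V :=
    (hVmin _ hFn inf_le_left).resolve_left hF
  rw [Subgroup.mem_centralizer_iff]
  intro v hv
  have hv' : v ∈ V ⊓ Subgroup.centralizer (P : Set M) := by rw [hFV]; exact hv
  exact (Subgroup.mem_centralizer_iff.mp hv'.2 x hxP).symm

/-- the elements commuting with `C` modulo `Q` -/
def commMod {M : Type*} [Group M] (C Q : Subgroup M) [hQ : Q.Normal] : Subgroup M where
  carrier := {g | ∀ c ∈ C, c * g * c⁻¹ * g⁻¹ ∈ Q}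
  one_mem' := by
    show ∀ c ∈ C, c * 1 * c⁻¹ * 1⁻¹ ∈ Q
    intro c _
    simp
  mul_mem' := by
    intro x y hx hy
    show ∀ c ∈ C, c * (x * y) * c⁻¹ * (x * y)⁻¹ ∈ Q
    intro c hc
    have h1 : c * x * c⁻¹ * x⁻¹ ∈ Q := hx c hc
    have h2 : x * (c * y * c⁻¹ * y⁻¹) * x⁻¹ ∈ Q := hQ.conj_mem _ (hy c hc) x
    have hid : c * (x * y) * c⁻¹ * (x * y)⁻¹ =
        (c * x * c⁻¹ * x⁻¹) * (x * (c * y * c⁻¹ * y⁻¹) * x⁻¹) := by group
    rw [hid]
    exact Q.mul_mem h1 h2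
  inv_mem' := by
    intro x hx
    show ∀ c ∈ C, c * x⁻¹ * c⁻¹ * x⁻¹⁻¹ ∈ Q
    intro c hc
    have h0 : c * x * c⁻¹ * x⁻¹ ∈ Q := hx c hc
    have h1 : x⁻¹ * (c * x * c⁻¹ * x⁻¹)⁻¹ * x⁻¹⁻¹ ∈ Q := hQ.conj_mem _ (Q.inv_mem h0) x⁻¹
    have hid : c * x⁻¹ * c⁻¹ * x⁻¹⁻¹ = x⁻¹ * (c * x * c⁻¹ * x⁻¹)⁻¹ * x⁻¹⁻¹ := by group
    rw [hid]
    exact h1

theorem mem_commMod {M : Type*} [Group M] {C Q : Subgroup M} [hQ : Q.Normal] {g : M} :
    g ∈ commMod C Q ↔ ∀ c ∈ C, c * g * c⁻¹ * g⁻¹ ∈ Q := Iff.rfl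

theorem commMod_normal {M : Type*} [Group M] (C Q : Subgroup M) [hC : C.Normal] [hQ : Q.Normal] :
    (commMod C Q).Normal := by
  constructor
  intro g hg m
  rw [mem_commMod] at hg ⊢
  intro c hc
  have hc' : m⁻¹ * c * m⁻¹⁻¹ ∈ C := hC.conj_mem c hc m⁻¹
  have h1 := hQ.conj_mem _ (hg _ hc') m
  have hid : c * (m * g * m⁻¹) * c⁻¹ * (m * g * m⁻¹)⁻¹ =
      m * ((m⁻¹ * c * m⁻¹⁻¹) * g * (m⁻¹ * c * m⁻¹⁻¹)⁻¹ * g⁻¹) * m⁻¹ := by group
  rw [hid]
  exact h1

end Cfsg.Agent.Lib.Helper67.PrimPair
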