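import Mathlib
import Cfsg.Prelude.Def_PLocal
import Cfsg.Agent.S0607
import Cfsg.Agent.Lib.Helper67.PrimPairA

set_option autoImplicit false
set_option linter.style.haveILetI false

/-!
# Primitive pairs of characteristic `p`: the abstract main claim
-/

namespace Cfsg.Agent.Lib.Helper67.PrimPair

open Cfsg
open scoped commutatorElement

/-- Every elementary abelian subgroup of maximal order of (a copy `P` of) `O_p(M) T` lies in
`O_p(M)`, under the listed hypotheses on the normal elementary abelian subgroup `Y`. -/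
theorem maxEA_le_pCore {M : Type*} [Group M] [Finite M] {p : ℕ} [Fact p.Prime]
    (Y : Subgroup M) [hYn : Y.Normal] (hY : Cfsg.IsElementaryAbelian p Y)
    (hstY : Cfsg.IsPStableOn p Y) (T : Subgroup M)
    (hCT : Subgroup.centralizer (Y : Set M) ≤ Subgroup.normalizer (T : Set M))
    (hQCT : (Cfsg.pCore p M ⊔ Subgroup.centralizer (Y : Set M)) ⊓ T ≤ Cfsg.pCore p M)
    (hH1 : ∀ q ∈ Cfsg.pCore p M, ⁅⁅Y, Subgroup.zpowers q⁆, Subgroup.zpowers q⁆ = ⊥ →
      q ∈ Subgroup.centralizer (Y : Set M))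
    {P : Type*} [Group P] (ι : P →* M) (hι : Function.Injective ι)
    (hrange : ∀ x : P, ι x ∈ Cfsg.pCore p M ⊔ T)
    (hYr : ∀ y ∈ Y, ∃ x : P, ι x = y)
    (A : Subgroup P) (hA : A ∈ Cfsg.maxElementaryAbelianSubgroups p P) :
    A.map ι ≤ Cfsg.pCore p M := by
  classical
  haveI hQn : (Cfsg.pCore p M).Normal := Cfsg.Agent.Lib.Helper01.pCore_normal p
  haveI hCn : (Subgroup.centralizer (Y : Set M)).Normal := Subgroup.normal_centralizer
  haveI hNn : (commMod (Subgroup.centralizer (Y : Set M)) (Cfsg.pCore p M)).Normal :=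
    commMod_normal _ _
  haveI : Finite P := Finite.of_injective ι hι
  -- `Q ⊔ T ≤ N_C`
  have hQN : Cfsg.pCore p M ≤ commMod (Subgroup.centralizer (Y : Set M)) (Cfsg.pCore p M) := by
    intro q hq
    rw [mem_commMod]
    intro c _
    exact (Cfsg.pCore p M).mul_mem (hQn.conj_mem q hq c) ((Cfsg.pCore p M).inv_mem hq)
  have hTN : T ≤ commMod (Subgroup.centralizer (Y : Set M)) (Cfsg.pCore p M) := by
    intro t ht
    rw [mem_commMod]
    intro c hc
    apply hQCT
    refine ⟨?_, ?_⟩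
    · apply (le_sup_right : Subgroup.centralizer (Y : Set M) ≤ _)
      have h1 : t * c⁻¹ * t⁻¹ ∈ Subgroup.centralizer (Y : Set M) :=
        hCn.conj_mem _ ((Subgroup.centralizer (Y : Set M)).inv_mem hc) t
      have hid : c * t * c⁻¹ * t⁻¹ = c * (t * c⁻¹ * t⁻¹) := by group
      rw [hid]
      exact (Subgroup.centralizer (Y : Set M)).mul_mem hc h1
    · have h1 : c * t * c⁻¹ ∈ T := (Subgroup.mem_normalizer_iff.mp (hCT hc) t).mp ht
      exact T.mul_mem h1 (T.inv_mem ht)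
  have hQTN : Cfsg.pCore p M ⊔ T ≤
      commMod (Subgroup.centralizer (Y : Set M)) (Cfsg.pCore p M) := sup_le hQN hTN
  -- key: quadratic elements of `Q ⊔ T` centralize `Y`
  have hkey : ∀ b ∈ Cfsg.pCore p M ⊔ T,
      ⁅⁅Y, Subgroup.zpowers b⁆, Subgroup.zpowers b⁆ = ⊥ →
        b ∈ Subgroup.centralizer (Y : Set M) := by
    intro b hb hq
    have h1 := hstY b hq
    obtain ⟨q, hqQ, c, hcC, hbqc⟩ := lemmaK (Subgroup.centralizer (Y : Set M))
      (commMod (Subgroup.centralizer (Y : Set M)) (Cfsg.pCore p M))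
      (fun n hn c hc => (mem_commMod.mp hn) c hc) b (hQTN hb) h1
    have hq' : ⁅⁅Y, Subgroup.zpowers q⁆, Subgroup.zpowers q⁆ = ⊥ := by
      apply Cfsg.Agent.Lib.Helper02.StableW.quadratic_mul_centralizer Y q c hcC
      rw [← hbqc]
      exact hq
    have hqC := hH1 q hqQ hq'
    rw [hbqc]
    exact (Subgroup.centralizer (Y : Set M)).mul_mem hqC hcC
  -- replacement theorem in `P`
  obtain ⟨V, hVdef⟩ : ∃ V : Subgroup P, V = Y.comap ι := ⟨_, rfl⟩
  have hVmem : ∀ v : P, v ∈ V ↔ ι v ∈ Y := by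
    intro v
    rw [hVdef, Subgroup.mem_comap]
  haveI hVn : V.Normal := by
    rw [hVdef]
    exact hYn.comap ι
  have hYcomm : ∀ a ∈ Y, ∀ b ∈ Y, a * b = b * a := by
    intro a ha b hb
    haveI := hY.1
    have := mul_comm' (⟨a, ha⟩ : Y) ⟨b, hb⟩
    exact congrArg Subtype.val this
  have hVea : Cfsg.IsElementaryAbelian p V := by
    refine ⟨⟨⟨?_⟩⟩, ?_⟩
    · rintro ⟨a, ha⟩ ⟨b, hb⟩
      apply Subtype.ext
      apply hι
      show ι (a * b) = ι (b * a)
      rw [map_mul, map_mul]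
      exact hYcomm _ ((hVmem a).mp ha) _ ((hVmem b).mp hb)
    · intro a ha
      apply hι
      rw [map_pow, map_one]
      exact hY.2 _ ((hVmem a).mp ha)
  obtain ⟨-, hquad, hne⟩ := Cfsg.Agent.S0607.result V hVea A hA
  obtain ⟨A₀, hA₀⟩ : ∃ A₀ : Subgroup P,
      A₀ = ⁅V, A⁆ ⊔ (A ⊓ Subgroup.centralizer ((⁅V, A⁆ : Subgroup P) : Set P)) := ⟨_, rfl⟩
  rw [← hA₀] at hquad hne
  have hVmap : V.map ι = Y := by
    apply le_antisymm
    · rintro _ ⟨v, hv, rfl⟩
      exact (hVmem v).mp hv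
    · intro y hy
      obtain ⟨x, rfl⟩ := hYr y hy
      exact ⟨x, (hVmem x).mpr hy, rfl⟩
  have hcent : ∀ a : P, ⁅⁅V, Subgroup.zpowers a⁆, Subgroup.zpowers a⁆ = ⊥ →
      ∀ v ∈ V, v * a = a * v := by
    intro a ha v hv
    have h1 : ⁅⁅Y, Subgroup.zpowers (ι a)⁆, Subgroup.zpowers (ι a)⁆ = ⊥ := by
      have := congrArg (Subgroup.map ι) ha
      rw [Subgroup.map_commutator, Subgroup.map_commutator, MonoidHom.map_zpowers, hVmap,
        Subgroup.map_bot] at this
      exact this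
    have h2 := hkey (ι a) (hrange a) h1
    rw [Subgroup.mem_centralizer_iff] at h2
    have h3 := h2 (ι v) ((hVmem v).mp hv)
    apply hι
    rw [map_mul, map_mul]
    exact h3
  have hVA₀ : ⁅V, A₀⁆ = ⊥ := by
    rw [eq_bot_iff, Subgroup.commutator_le]
    intro v hv a ha
    rw [Subgroup.mem_bot, commutatorElement_eq_one_iff_mul_comm]
    apply hcent a _ v hv
    rw [eq_bot_iff, ← hquad]
    have hz : Subgroup.zpowers a ≤ A₀ := Subgroup.zpowers_le.mpr ha
    exact Subgroup.commutator_mono (Subgroup.commutator_mono le_rfl hz) hz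
  have hVA : ⁅V, A⁆ = ⊥ := by
    by_contra h
    exact hne h hVA₀
  -- `A` centralizes `Y`
  have hAC : ∀ a ∈ A, ι a ∈ Subgroup.centralizer (Y : Set M) := by
    intro a ha
    rw [Subgroup.mem_centralizer_iff]
    intro y hy
    obtain ⟨v, rfl⟩ := hYr y hy
    have hv : v ∈ V := (hVmem v).mpr hy
    have h1 : ⁅v, a⁆ ∈ ⁅V, A⁆ := Subgroup.commutator_mem_commutator hv ha
    rw [hVA, Subgroup.mem_bot, commutatorElement_eq_one_iff_mul_comm] at h1
    rw [← map_mul, ← map_mul, h1]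
  -- `C ∩ (Q ⊔ T) ≤ Q`
  rintro _ ⟨a, ha, rfl⟩
  have hx : ι a ∈ ((Cfsg.pCore p M ⊔ T : Subgroup M) : Set M) := hrange a
  rw [Subgroup.normal_mul] at hx
  obtain ⟨q, hq, t, ht, hqt⟩ := Set.mem_mul.mp hx
  have htQ : t ∈ Cfsg.pCore p M := by
    apply hQCT
    refine ⟨?_, ht⟩
    have ht' : t = q⁻¹ * ι a := by rw [← hqt]; group
    rw [ht']
    exact Subgroup.mul_mem _ ((le_sup_left : Cfsg.pCore p M ≤ _) ((Cfsg.pCore p M).inv_mem hq))
      ((le_sup_right : Subgroup.centralizer (Y : Set M) ≤ _) (hAC a ha))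
  rw [← hqt]
  exact (Cfsg.pCore p M).mul_mem hq htQ

end Cfsg.Agent.Lib.Helper67.PrimPair
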