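import Mathlib
import Cfsg.Prelude.Def_PLocal
import Cfsg.Agent.Lib.Helper02.ThompsonJ
import Cfsg.Agent.Lib.Helper15.ThompsonOf
import Cfsg.Agent.Lib.Helper67.PrimPairB

set_option autoImplicit false
set_option linter.style.haveILetI false

/-!
# Primitive pairs of characteristic `p`: the ambient argument for an ordered pair
-/

namespace Cfsg.Agent.Lib.Helper67.PrimPair

open Cfsg
open scoped commutatorElement

theorem le_normalizer_of_conj {G : Type*} [Group G] {H K : Subgroup G}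
    (h : ∀ m ∈ H, ∀ x ∈ K, m * x * m⁻¹ ∈ K) : H ≤ Subgroup.normalizer (K : Set G) := by
  intro m hm
  rw [Subgroup.mem_normalizer_iff]
  intro x
  constructor
  · exact h m hm x
  · intro hx
    have h1 := h m⁻¹ (H.inv_mem hm) _ hx
    have hid : m⁻¹ * (m * x * m⁻¹) * m⁻¹⁻¹ = x := by group
    rwa [hid] at h1

theorem conj_mem_map_subtype {G : Type*} [Group G] {H : Subgroup G} {K : Subgroup ↥H}
    [hK : K.Normal] {m x : G} (hm : m ∈ H) (hx : x ∈ K.map H.subtype) :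
    m * x * m⁻¹ ∈ K.map H.subtype := by
  obtain ⟨y, hy, rfl⟩ := hx
  exact ⟨⟨m, hm⟩ * y * ⟨m, hm⟩⁻¹, hK.conj_mem y hy _, rfl⟩

section ordered

variable {G : Type*} [Group G] [Finite G] {p : ℕ} [Fact p.Prime]

/-- the ordered-pair claim: every elementary abelian subgroup of maximal order of
`O_p(M₁) O_p(M₂)` lies in `O_p(M₁)` -/
theorem ordered_claim (M₁ M₂ : Subgroup G)
    (hP2 : ∀ A : Subgroup G, A ≠ ⊥ → A ≤ M₁ ⊓ M₂ → M₂ ≤ Subgroup.normalizer (A : Set G) →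
      M₁ ⊓ Subgroup.normalizer (A : Set G) = M₁ ⊓ M₂)
    (hst₁ : Cfsg.IsActionPStable p ↥M₁) (hst₂ : Cfsg.IsActionPStable p ↥M₂)
    (hc₁ : Subgroup.centralizer (Cfsg.pCore p ↥M₁ : Set ↥M₁) ≤ Cfsg.pCore p ↥M₁)
    (hQ₂ne : Cfsg.pCore p ↥M₂ ≠ ⊥)
    (hO : (Cfsg.pCore p ↥M₁).map M₁.subtype ⊔ (Cfsg.pCore p ↥M₂).map M₂.subtype ≤ M₁ ⊓ M₂)
    (A : Subgroup G)
    (hA : A ∈ Cfsg.Agent.Lib.Helper15.maxElemIn p
      ((Cfsg.pCore p ↥M₁).map M₁.subtype ⊔ (Cfsg.pCore p ↥M₂).map M₂.subtype)) :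
    A ≤ (Cfsg.pCore p ↥M₁).map M₁.subtype := by
  classical
  haveI hQ₁n : (Cfsg.pCore p ↥M₁).Normal := Cfsg.Agent.Lib.Helper01.pCore_normal p
  haveI hQ₂n : (Cfsg.pCore p ↥M₂).Normal := Cfsg.Agent.Lib.Helper01.pCore_normal p
  have hQ₂p : IsPGroup p (Cfsg.pCore p ↥M₂) := Cfsg.Agent.Lib.Helper01.pCore_isPGroup p
  obtain ⟨Q₁, hQ₁def⟩ : ∃ Q₁ : Subgroup G, Q₁ = (Cfsg.pCore p ↥M₁).map M₁.subtype := ⟨_, rfl⟩
  obtain ⟨Q₂, hQ₂def⟩ : ∃ Q₂ : Subgroup G, Q₂ = (Cfsg.pCore p ↥M₂).map M₂.subtype := ⟨_, rfl⟩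
  rw [← hQ₁def, ← hQ₂def] at hO hA
  rw [← hQ₁def]
  have hQ₁D : Q₁ ≤ M₁ ⊓ M₂ := le_sup_left.trans hO
  have hQ₂D : Q₂ ≤ M₁ ⊓ M₂ := le_sup_right.trans hO
  have hQ₁M₁ : Q₁ ≤ M₁ := hQ₁D.trans inf_le_left
  have hQ₁M₂ : Q₁ ≤ M₂ := hQ₁D.trans inf_le_right
  have hQ₂M₁ : Q₂ ≤ M₁ := hQ₂D.trans inf_le_left
  have hQ₁conj : ∀ m ∈ M₁, ∀ x ∈ Q₁, m * x * m⁻¹ ∈ Q₁ := by
    intro m hm x hx
    rw [hQ₁def] at hx ⊢
    exact conj_mem_map_subtype hm hx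
  have hQ₂conj : ∀ m ∈ M₂, ∀ x ∈ Q₂, m * x * m⁻¹ ∈ Q₂ := by
    intro m hm x hx
    rw [hQ₂def] at hx ⊢
    exact conj_mem_map_subtype hm hx
  have hQ₂pG : IsPGroup p Q₂ := by
    rw [hQ₂def]
    exact hQ₂p.map _
  -- the minimal normal subgroup `A₂` of `M₂`
  obtain ⟨V₂, hV₂n, hV₂ne, hV₂Q, hV₂ea, hV₂q⟩ := exists_minNormal_noQuad hst₂ hQ₂ne
  haveI := hV₂n
  obtain ⟨A₂, hA₂def⟩ : ∃ A₂ : Subgroup G, A₂ = V₂.map M₂.subtype := ⟨_, rfl⟩
  have hA₂Q₂ : A₂ ≤ Q₂ := by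
    rw [hA₂def, hQ₂def]
    exact Subgroup.map_mono hV₂Q
  have hA₂ne : A₂ ≠ ⊥ := by
    rw [hA₂def]
    intro h
    exact hV₂ne ((Subgroup.map_eq_bot_iff_of_injective _ M₂.subtype_injective).mp h)
  have hA₂conj : ∀ m ∈ M₂, ∀ x ∈ A₂, m * x * m⁻¹ ∈ A₂ := by
    intro m hm x hx
    rw [hA₂def] at hx ⊢
    exact conj_mem_map_subtype hm hx
  have hA₂comm : ∀ a ∈ A₂, ∀ b ∈ A₂, a * b = b * a := by
    rw [hA₂def]
    rintro _ ⟨a, ha, rfl⟩ _ ⟨b, hb, rfl⟩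
    haveI := hV₂ea.1
    have h1 := mul_comm' (⟨a, ha⟩ : V₂) ⟨b, hb⟩
    have h2 : a * b = b * a := congrArg Subtype.val h1
    show M₂.subtype a * M₂.subtype b = M₂.subtype b * M₂.subtype a
    rw [← map_mul, ← map_mul, h2]
  have hA₂pow : ∀ a ∈ A₂, a ^ p = 1 := by
    rw [hA₂def]
    rintro _ ⟨a, ha, rfl⟩
    rw [← map_pow, hV₂ea.2 a ha, map_one]
  have hA₂quad : ∀ x ∈ M₂, ⁅⁅A₂, Subgroup.zpowers x⁆, Subgroup.zpowers x⁆ = ⊥ →
      ∀ a ∈ A₂, x * a = a * x := by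
    intro x hx hq a ha
    have h1 : ⁅⁅V₂, Subgroup.zpowers (⟨x, hx⟩ : ↥M₂)⁆, Subgroup.zpowers (⟨x, hx⟩ : ↥M₂)⁆ = ⊥ := by
      apply (Subgroup.map_eq_bot_iff_of_injective _ M₂.subtype_injective).mp
      rw [Subgroup.map_commutator, Subgroup.map_commutator, MonoidHom.map_zpowers, ← hA₂def]
      exact hq
    have h2 := hV₂q ⟨x, hx⟩ h1
    rw [hA₂def] at ha
    obtain ⟨a', ha', rfl⟩ := ha
    rw [Subgroup.mem_centralizer_iff] at h2
    have h3 := h2 a' ha'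
    have h4 := congrArg Subtype.val h3
    simpa using h4.symm
  have hM₂NA₂ : M₂ ≤ Subgroup.normalizer (A₂ : Set G) := le_normalizer_of_conj hA₂conj
  -- `A₂ ≤ Q₁`
  have hA₂Q₁ : A₂ ≤ Q₁ := by
    intro a ha
    have haM₁ : a ∈ M₁ := hQ₂M₁ (hA₂Q₂ ha)
    have hq : ⁅⁅Cfsg.pCore p ↥M₁, Subgroup.zpowers (⟨a, haM₁⟩ : ↥M₁)⁆,
        Subgroup.zpowers (⟨a, haM₁⟩ : ↥M₁)⁆ = ⊥ := by
      apply (Subgroup.map_eq_bot_iff_of_injective _ M₁.subtype_injective).mp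
      rw [Subgroup.map_commutator, Subgroup.map_commutator, MonoidHom.map_zpowers, ← hQ₁def]
      show ⁅⁅Q₁, Subgroup.zpowers a⁆, Subgroup.zpowers a⁆ = ⊥
      have hz : Subgroup.zpowers a ≤ A₂ := Subgroup.zpowers_le.mpr ha
      have h3 : ⁅Q₁, Subgroup.zpowers a⁆ ≤ A₂ := by
        rw [Subgroup.commutator_le]
        intro q hq t ht
        rw [commutatorElement_def]
        exact A₂.mul_mem (hA₂conj q (hQ₁M₂ hq) t (hz ht)) (A₂.inv_mem (hz ht))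
      have h4 : ⁅A₂, Subgroup.zpowers a⁆ = ⊥ := by
        rw [eq_bot_iff, Subgroup.commutator_le]
        intro w hw t ht
        rw [Subgroup.mem_bot, commutatorElement_eq_one_iff_mul_comm]
        exact hA₂comm w hw t (hz ht)
      rw [eq_bot_iff, ← h4]
      exact Subgroup.commutator_mono h3 le_rfl
    have h5 := mem_pCore_of_quadratic hst₁ hc₁ ⟨a, haM₁⟩ hq
    rw [hQ₁def]
    exact ⟨⟨a, haM₁⟩, h5, rfl⟩
  -- conjugates of `A₂` under `M₁` centralize `A₂`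
  have hKC : ∀ n ∈ M₁, ∀ a ∈ A₂, ∀ a' ∈ A₂, (n * a * n⁻¹) * a' = a' * (n * a * n⁻¹) := by
    intro n hn a ha a' ha'
    have hxQ₁ : n * a * n⁻¹ ∈ Q₁ := hQ₁conj n hn a (hA₂Q₁ ha)
    have hxM₂ : n * a * n⁻¹ ∈ M₂ := hQ₁M₂ hxQ₁
    refine hA₂quad _ hxM₂ ?_ a' ha'
    obtain ⟨An, hAn⟩ : ∃ An : Subgroup G, An = A₂.map (MulAut.conj n).toMonoidHom := ⟨_, rfl⟩
    have hmemAn : ∀ u, u ∈ An ↔ ∃ v ∈ A₂, n * v * n⁻¹ = u := by
      intro u
      rw [hAn, Subgroup.mem_map]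
      rfl
    have hAncomm : ∀ u ∈ An, ∀ v ∈ An, u * v = v * u := by
      intro u hu v hv
      obtain ⟨u₀, hu₀, rfl⟩ := (hmemAn u).mp hu
      obtain ⟨v₀, hv₀, rfl⟩ := (hmemAn v).mp hv
      have h := hA₂comm u₀ hu₀ v₀ hv₀
      calc n * u₀ * n⁻¹ * (n * v₀ * n⁻¹) = n * (u₀ * v₀) * n⁻¹ := by group
        _ = n * (v₀ * u₀) * n⁻¹ := by rw [h]
        _ = n * v₀ * n⁻¹ * (n * u₀ * n⁻¹) := by group
    have hz : Subgroup.zpowers (n * a * n⁻¹) ≤ An := by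
      rw [Subgroup.zpowers_le]
      exact (hmemAn _).mpr ⟨a, ha, rfl⟩
    have h3 : ⁅A₂, Subgroup.zpowers (n * a * n⁻¹)⁆ ≤ An := by
      rw [Subgroup.commutator_le]
      intro w hw t ht
      have htAn : t ∈ An := hz ht
      obtain ⟨t₀, ht₀, rfl⟩ := (hmemAn t).mp htAn
      rw [commutatorElement_def]
      apply An.mul_mem _ (An.inv_mem htAn)
      have hw' : n⁻¹ * w * n⁻¹⁻¹ ∈ Q₁ := hQ₁conj n⁻¹ (M₁.inv_mem hn) w (hA₂Q₁ hw)
      have h5 := hA₂conj _ (hQ₁M₂ hw') t₀ ht₀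
      refine (hmemAn _).mpr ⟨_, h5, ?_⟩
      group
    have h4 : ⁅An, Subgroup.zpowers (n * a * n⁻¹)⁆ = ⊥ := by
      rw [eq_bot_iff, Subgroup.commutator_le]
      intro u hu t ht
      rw [Subgroup.mem_bot, commutatorElement_eq_one_iff_mul_comm]
      exact hAncomm u hu t (hz ht)
    rw [eq_bot_iff, ← h4]
    exact Subgroup.commutator_mono h3 le_rfl
  -- the normal closure `Yg` of `A₂` in `M₁`
  obtain ⟨Yg, hYgdef⟩ : ∃ Yg : Subgroup G,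
      Yg = Subgroup.closure {x | ∃ n ∈ M₁, ∃ a ∈ A₂, x = n * a * n⁻¹} := ⟨_, rfl⟩
  have hgenYg : ∀ n ∈ M₁, ∀ a ∈ A₂, n * a * n⁻¹ ∈ Yg := by
    intro n hn a ha
    rw [hYgdef]
    exact Subgroup.subset_closure ⟨n, hn, a, ha, rfl⟩
  have hYgQ₁ : Yg ≤ Q₁ := by
    rw [hYgdef, Subgroup.closure_le]
    rintro x ⟨n, hn, a, ha, rfl⟩
    exact hQ₁conj n hn a (hA₂Q₁ ha)
  have hA₂Yg : A₂ ≤ Yg := by
    intro a ha
    have h := hgenYg 1 M₁.one_mem a ha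
    simpa using h
  have hYgea : Cfsg.IsElementaryAbelian p Yg := by
    rw [hYgdef]
    apply Cfsg.Agent.Lib.Helper02.StableW.isElementaryAbelian_closure
    · rintro x ⟨n, hn, a, ha, rfl⟩ y ⟨n', hn', a', ha', rfl⟩
      have h := hKC (n'⁻¹ * n) (M₁.mul_mem (M₁.inv_mem hn') hn) a ha a' ha'
      calc n * a * n⁻¹ * (n' * a' * n'⁻¹)
          = n' * ((n'⁻¹ * n) * a * (n'⁻¹ * n)⁻¹ * a') * n'⁻¹ := by group
        _ = n' * (a' * ((n'⁻¹ * n) * a * (n'⁻¹ * n)⁻¹)) * n'⁻¹ := by rw [h]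
        _ = n' * a' * n'⁻¹ * (n * a * n⁻¹) := by group
    · rintro x ⟨n, hn, a, ha, rfl⟩
      rw [conj_pow, hA₂pow a ha]
      group
  have hYgconj : ∀ m ∈ M₁, ∀ y ∈ Yg, m * y * m⁻¹ ∈ Yg := by
    intro m hm y hy
    rw [hYgdef] at hy
    induction hy using Subgroup.closure_induction with
    | mem x hx =>
      obtain ⟨n, hn, a, ha, rfl⟩ := hx
      have h := hgenYg (m * n) (M₁.mul_mem hm hn) a ha
      have hid : m * (n * a * n⁻¹) * m⁻¹ = m * n * a * (m * n)⁻¹ := by group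
      rw [hid]
      exact h
    | one =>
      have hid : m * 1 * m⁻¹ = 1 := by group
      rw [hid]
      exact Yg.one_mem
    | mul x y _ _ ihx ihy =>
      have hid : m * (x * y) * m⁻¹ = (m * x * m⁻¹) * (m * y * m⁻¹) := by group
      rw [hid]
      exact Yg.mul_mem ihx ihy
    | inv x _ ih =>
      have hid : m * x⁻¹ * m⁻¹ = (m * x * m⁻¹)⁻¹ := by group
      rw [hid]
      exact Yg.inv_mem ih
  -- `Y` inside `M₁`
  obtain ⟨Y, hYdef⟩ : ∃ Y : Subgroup ↥M₁, Y = Yg.subgroupOf M₁ := ⟨_, rfl⟩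
  have hYmem : ∀ y : ↥M₁, y ∈ Y ↔ (y : G) ∈ Yg := by
    intro y
    rw [hYdef, Subgroup.mem_subgroupOf]
  haveI hYn : Y.Normal := by
    constructor
    intro y hy m
    rw [hYmem] at hy ⊢
    have h := hYgconj m m.2 y hy
    simpa using h
  have hYea : Cfsg.IsElementaryAbelian p Y := by
    rw [hYdef]
    exact Cfsg.Agent.Lib.Helper15.isElementaryAbelian_subgroupOf M₁ hYgea
  have hstY : Cfsg.IsPStableOn p Y := hst₁.1 Y hYea
  obtain ⟨T, hTdef⟩ : ∃ T : Subgroup ↥M₁, T = Q₂.subgroupOf M₁ := ⟨_, rfl⟩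
  have hTmem : ∀ t : ↥M₁, t ∈ T ↔ (t : G) ∈ Q₂ := by
    intro t
    rw [hTdef, Subgroup.mem_subgroupOf]
  have hTp : IsPGroup p T := by
    rw [hTdef]
    exact hQ₂pG.comap_subtype
  -- `C_{M₁}(Y) ≤ M₂`
  have hCD : ∀ c : ↥M₁, c ∈ Subgroup.centralizer (Y : Set ↥M₁) → (c : G) ∈ M₂ := by
    intro c hc
    have h1 : (c : G) ∈ M₁ ⊓ Subgroup.normalizer (A₂ : Set G) := by
      refine ⟨c.2, ?_⟩
      apply Subgroup.centralizer_le_normalizer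
      rw [Subgroup.mem_centralizer_iff]
      intro a ha
      have haYg : a ∈ Yg := hA₂Yg ha
      have haM₁ : a ∈ M₁ := hQ₁M₁ (hYgQ₁ haYg)
      have h2 := Subgroup.mem_centralizer_iff.mp hc ⟨a, haM₁⟩ ((hYmem _).mpr haYg)
      exact congrArg Subtype.val h2
    rw [hP2 A₂ hA₂ne (hA₂Q₂.trans hQ₂D) hM₂NA₂] at h1
    exact h1.2
  have hnormT : ∀ c : ↥M₁, (c : G) ∈ M₂ → c ∈ Subgroup.normalizer (T : Set ↥M₁) := by
    intro c hc
    rw [Subgroup.mem_normalizer_iff]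
    intro t
    rw [hTmem, hTmem]
    constructor
    · intro ht
      have h := hQ₂conj c hc t ht
      simpa using h
    · intro ht
      have ht' : (c : G) * (t : G) * (c : G)⁻¹ ∈ Q₂ := by simpa using ht
      have h := hQ₂conj (c : G)⁻¹ (M₂.inv_mem hc) _ ht'
      have hid : (c : G)⁻¹ * ((c : G) * (t : G) * (c : G)⁻¹) * (c : G)⁻¹⁻¹ = (t : G) := by group
      rwa [hid] at h
  have hCT : Subgroup.centralizer (Y : Set ↥M₁) ≤ Subgroup.normalizer (T : Set ↥M₁) :=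
    fun c hc => hnormT c (hCD c hc)
  haveI hCn : (Subgroup.centralizer (Y : Set ↥M₁)).Normal := Subgroup.normal_centralizer
  have hQCT : (Cfsg.pCore p ↥M₁ ⊔ Subgroup.centralizer (Y : Set ↥M₁)) ⊓ T ≤ Cfsg.pCore p ↥M₁ := by
    have hNle : Cfsg.pCore p ↥M₁ ⊔ Subgroup.centralizer (Y : Set ↥M₁) ≤ M₂.subgroupOf M₁ := by
      apply sup_le
      · intro q hq
        rw [Subgroup.mem_subgroupOf]
        apply hQ₁M₂
        rw [hQ₁def]
        exact ⟨q, hq, rfl⟩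
      · intro c hc
        rw [Subgroup.mem_subgroupOf]
        exact hCD c hc
    apply le_pCore_of_normal_in_normal (Cfsg.pCore p ↥M₁ ⊔ Subgroup.centralizer (Y : Set ↥M₁)) _
      inf_le_left (hTp.to_le inf_le_right)
    intro n hn
    have h1 : n ∈ Subgroup.normalizer (T : Set ↥M₁) :=
      hnormT n (Subgroup.mem_subgroupOf.mp (hNle hn))
    rw [Subgroup.mem_normalizer_iff] at h1 ⊢
    intro x
    constructor
    · rintro ⟨hxN, hxT⟩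
      exact ⟨Subgroup.mul_mem _ (Subgroup.mul_mem _ hn hxN) (Subgroup.inv_mem _ hn), (h1 x).mp hxT⟩
    · rintro ⟨hxN, hxT⟩
      refine ⟨?_, (h1 x).mpr hxT⟩
      have h2 := Subgroup.mul_mem _ (Subgroup.mul_mem _ (Subgroup.inv_mem _ hn) hxN) hn
      have hid : n⁻¹ * (n * x * n⁻¹) * n = x := by group
      rwa [hid] at h2
  have hH1 : ∀ q ∈ Cfsg.pCore p ↥M₁, ⁅⁅Y, Subgroup.zpowers q⁆, Subgroup.zpowers q⁆ = ⊥ →
      q ∈ Subgroup.centralizer (Y : Set ↥M₁) := by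
    intro q hq hquad
    have hqQ₁ : (q : G) ∈ Q₁ := by
      rw [hQ₁def]
      exact ⟨q, hq, rfl⟩
    have hquadG : ⁅⁅Yg, Subgroup.zpowers (q : G)⁆, Subgroup.zpowers (q : G)⁆ = ⊥ := by
      have h := congrArg (Subgroup.map M₁.subtype) hquad
      rw [Subgroup.map_commutator, Subgroup.map_commutator, MonoidHom.map_zpowers,
        Subgroup.map_bot, hYdef, Subgroup.map_subgroupOf_eq_of_le (hYgQ₁.trans hQ₁M₁)] at h
      exact h
    have hgen : ∀ n ∈ M₁, ∀ a ∈ A₂, (q : G) * (n * a * n⁻¹) = (n * a * n⁻¹) * (q : G) := by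
      intro n hn a ha
      have hxQ₁ : n⁻¹ * (q : G) * n⁻¹⁻¹ ∈ Q₁ := hQ₁conj n⁻¹ (M₁.inv_mem hn) _ hqQ₁
      have hxM₂ := hQ₁M₂ hxQ₁
      have hxquad : ⁅⁅A₂, Subgroup.zpowers (n⁻¹ * (q : G) * n⁻¹⁻¹)⁆,
          Subgroup.zpowers (n⁻¹ * (q : G) * n⁻¹⁻¹)⁆ = ⊥ := by
        apply (Subgroup.map_eq_bot_iff_of_injective _ (f := (MulAut.conj n).toMonoidHom)
          (MulAut.conj n).injective).mp
        rw [Subgroup.map_commutator, Subgroup.map_commutator, MonoidHom.map_zpowers]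
        have hfx : (MulAut.conj n).toMonoidHom (n⁻¹ * (q : G) * n⁻¹⁻¹) = (q : G) := by
          show n * (n⁻¹ * (q : G) * n⁻¹⁻¹) * n⁻¹ = (q : G)
          group
        rw [hfx, eq_bot_iff, ← hquadG]
        apply Subgroup.commutator_mono (Subgroup.commutator_mono _ le_rfl) le_rfl
        rintro _ ⟨a, ha, rfl⟩
        show n * a * n⁻¹ ∈ Yg
        exact hgenYg n hn a ha
      have h := hA₂quad _ hxM₂ hxquad a ha
      calc (q : G) * (n * a * n⁻¹) = n * ((n⁻¹ * (q : G) * n⁻¹⁻¹) * a) * n⁻¹ := by group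
        _ = n * (a * (n⁻¹ * (q : G) * n⁻¹⁻¹)) * n⁻¹ := by rw [h]
        _ = (n * a * n⁻¹) * (q : G) := by group
    have hqYg : ∀ y ∈ Yg, y * (q : G) = (q : G) * y := by
      intro y hy
      rw [hYgdef] at hy
      induction hy using Subgroup.closure_induction with
      | mem x hx =>
        obtain ⟨n, hn, a, ha, rfl⟩ := hx
        exact (hgen n hn a ha).symm
      | one => simp
      | mul x y _ _ ihx ihy => rw [mul_assoc, ihy, ← mul_assoc, ihx, mul_assoc]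
      | inv x _ ih =>
        have hid : x⁻¹ * (q : G) = x⁻¹ * ((q : G) * x) * x⁻¹ := by group
        rw [hid, ← ih]
        group
    rw [Subgroup.mem_centralizer_iff]
    intro y hy
    apply Subtype.ext
    have h := hqYg (y : G) ((hYmem y).mp hy)
    simpa using h
  -- apply the abstract claim
  obtain ⟨R, hRdef⟩ : ∃ R : Subgroup G, R = Q₁ ⊔ Q₂ := ⟨_, rfl⟩
  rw [← hRdef] at hA hO
  have hRM₁ : R ≤ M₁ := hO.trans inf_le_left
  have hsupeq : Cfsg.pCore p ↥M₁ ⊔ T = R.subgroupOf M₁ := by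
    rw [hRdef, hTdef, Subgroup.subgroupOf_sup hQ₁M₁ hQ₂M₁]
    congr 1
    rw [hQ₁def]
    ext x
    rw [Subgroup.mem_subgroupOf]
    constructor
    · intro hx
      exact ⟨x, hx, rfl⟩
    · rintro ⟨y, hy, hyx⟩
      have hyx' : y = x := Subtype.ext hyx
      rwa [← hyx']
  have hrange : ∀ x : ↥R, Subgroup.inclusion hRM₁ x ∈ Cfsg.pCore p ↥M₁ ⊔ T := by
    intro x
    rw [hsupeq, Subgroup.mem_subgroupOf]
    exact x.2
  have hYr : ∀ y ∈ Y, ∃ x : ↥R, Subgroup.inclusion hRM₁ x = y := by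
    intro y hy
    have hyR : (y : G) ∈ R := by
      rw [hRdef]
      exact (le_sup_left : Q₁ ≤ Q₁ ⊔ Q₂) (hYgQ₁ ((hYmem y).mp hy))
    exact ⟨⟨(y : G), hyR⟩, Subtype.ext rfl⟩
  have hmain := maxEA_le_pCore Y hYea hstY T hCT hQCT hH1 (Subgroup.inclusion hRM₁)
    (Subgroup.inclusion_injective hRM₁) hrange hYr (A.subgroupOf R)
    (Cfsg.Agent.Lib.Helper15.subgroupOf_mem_maxElem hA)
  intro a ha
  have haR : a ∈ R := hA.1 ha
  have h1 : Subgroup.inclusion hRM₁ ⟨a, haR⟩ ∈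
      (A.subgroupOf R).map (Subgroup.inclusion hRM₁) :=
    ⟨⟨a, haR⟩, Subgroup.mem_subgroupOf.mpr ha, rfl⟩
  have h2 := hmain h1
  rw [hQ₁def]
  exact ⟨_, h2, rfl⟩

end ordered

end Cfsg.Agent.Lib.Helper67.PrimPair
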