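import Mathlib
import Cfsg.Prelude.Def_PLocal
import Cfsg.Agent.S0626
import Cfsg.Agent.Lib.Helper67.PrimPairC

set_option autoImplicit false
set_option linter.style.haveILetI false

/-!
# Primitive pairs of characteristic `p` have a non-abelian Sylow 2-subgroup (KS 10.1.6)
-/

namespace Cfsg.Agent.Lib.Helper67.PrimPair

open Cfsg
open scoped commutatorElement

theorem trivial_of_pCore_eq_bot {H : Type*} [Group H] {p : ℕ}
    (hc : Subgroup.centralizer (Cfsg.pCore p H : Set H) ≤ Cfsg.pCore p H)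
    (h : Cfsg.pCore p H = ⊥) : ∀ x : H, x = 1 := by
  intro x
  have h1 : x ∈ Subgroup.centralizer (Cfsg.pCore p H : Set H) := by
    rw [Subgroup.mem_centralizer_iff]
    intro y hy
    have hy' : y ∈ Cfsg.pCore p H := hy
    rw [h, Subgroup.mem_bot] at hy'
    rw [hy', one_mul, mul_one]
  have h2 := hc h1
  rw [h, Subgroup.mem_bot] at h2
  exact h2

theorem pCore_eq_sylow_of_comm {H : Type*} [Group H] [Finite H] {p : ℕ} [Fact p.Prime]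
    (hc : Subgroup.centralizer (Cfsg.pCore p H : Set H) ≤ Cfsg.pCore p H) (S : Sylow p H)
    (hS : IsMulCommutative (S : Subgroup H)) : (S : Subgroup H) = Cfsg.pCore p H := by
  apply le_antisymm
  · intro s hs
    apply hc
    rw [Subgroup.mem_centralizer_iff]
    intro q hq
    have hqS : q ∈ (S : Subgroup H) := Cfsg.Agent.Lib.Helper01.pCore_le_sylow S hq
    have h1 := mul_comm' (⟨q, hqS⟩ : (S : Subgroup H)) ⟨s, hs⟩
    exact congrArg Subtype.val h1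
  · exact Cfsg.Agent.Lib.Helper01.pCore_le_sylow S

section main

variable {G : Type*} [Group G] [Finite G] {p : ℕ} [Fact p.Prime]

theorem eq_bot_of_pCore_eq_bot (M : Subgroup G)
    (hc : Subgroup.centralizer (Cfsg.pCore p ↥M : Set ↥M) ≤ Cfsg.pCore p ↥M)
    (h : Cfsg.pCore p ↥M = ⊥) : M = ⊥ := by
  have h1 := trivial_of_pCore_eq_bot hc h
  rw [eq_bot_iff]
  intro x hx
  have h2 := h1 ⟨x, hx⟩
  rw [Subgroup.mem_bot]
  exact congrArg Subtype.val h2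

theorem pCore_ne_bot_of_pair (M₁ M₂ : Subgroup G) (hne : M₁ ≠ M₂)
    (hc₁ : Subgroup.centralizer (Cfsg.pCore p ↥M₁ : Set ↥M₁) ≤ Cfsg.pCore p ↥M₁)
    (hc₂ : Subgroup.centralizer (Cfsg.pCore p ↥M₂ : Set ↥M₂) ≤ Cfsg.pCore p ↥M₂)
    (hQ₂ : (Cfsg.pCore p ↥M₂).map M₂.subtype ≤ M₁) : Cfsg.pCore p ↥M₁ ≠ ⊥ := by
  intro h
  have hM₁ : M₁ = ⊥ := eq_bot_of_pCore_eq_bot M₁ hc₁ h
  have h2 : Cfsg.pCore p ↥M₂ = ⊥ := by
    have h3 : (Cfsg.pCore p ↥M₂).map M₂.subtype ≤ ⊥ := by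
      rw [← hM₁]
      exact hQ₂
    exact (Subgroup.map_eq_bot_iff_of_injective _ M₂.subtype_injective).mp (le_bot_iff.mp h3)
  have hM₂ : M₂ = ⊥ := eq_bot_of_pCore_eq_bot M₂ hc₂ h2
  exact hne (hM₁.trans hM₂.symm)

theorem false_of_common_normal (M₁ M₂ : Subgroup G) (hne : M₁ ≠ M₂)
    (hP : ∀ A : Subgroup G, A ≠ ⊥ → A ≤ M₁ ⊓ M₂ →
      (M₁ ≤ Subgroup.normalizer (A : Set G) → M₂ ⊓ Subgroup.normalizer (A : Set G) = M₁ ⊓ M₂) ∧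
      (M₂ ≤ Subgroup.normalizer (A : Set G) → M₁ ⊓ Subgroup.normalizer (A : Set G) = M₁ ⊓ M₂))
    (J : Subgroup G) (hJne : J ≠ ⊥) (hJD : J ≤ M₁ ⊓ M₂)
    (h1 : M₁ ≤ Subgroup.normalizer (J : Set G)) (h2 : M₂ ≤ Subgroup.normalizer (J : Set G)) :
    False := by
  obtain ⟨ha, hb⟩ := hP J hJne hJD
  have e1 := ha h1
  have e2 := hb h2
  rw [inf_of_le_left h2] at e1
  rw [inf_of_le_left h1] at e2
  exact hne (e2.trans e1.symm)

/-- if the Sylow `p`-subgroups of `M₂` are abelian then `O_p(M₁) ≤ O_p(M₂)` as soon as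
`O_p(M₁) ≤ M₂` -/
theorem map_pCore_le_of_comm_sylow (M₁ M₂ : Subgroup G)
    (hc₂ : Subgroup.centralizer (Cfsg.pCore p ↥M₂ : Set ↥M₂) ≤ Cfsg.pCore p ↥M₂)
    (hab₂ : ∀ S : Sylow p ↥M₂, IsMulCommutative (S : Subgroup ↥M₂))
    (hQ₁M₂ : (Cfsg.pCore p ↥M₁).map M₁.subtype ≤ M₂) :
    (Cfsg.pCore p ↥M₁).map M₁.subtype ≤ (Cfsg.pCore p ↥M₂).map M₂.subtype := by
  have hQ₁p : IsPGroup p ((Cfsg.pCore p ↥M₁).map M₁.subtype) :=
    (Cfsg.Agent.Lib.Helper01.pCore_isPGroup p).map _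
  have hp' : IsPGroup p (((Cfsg.pCore p ↥M₁).map M₁.subtype).subgroupOf M₂) := hQ₁p.comap_subtype
  obtain ⟨S, hS⟩ := hp'.exists_le_sylow
  have hSeq := pCore_eq_sylow_of_comm hc₂ S (hab₂ S)
  intro x hx
  have hxM₂ : x ∈ M₂ := hQ₁M₂ hx
  have h1 : (⟨x, hxM₂⟩ : ↥M₂) ∈ (S : Subgroup ↥M₂) := hS (Subgroup.mem_subgroupOf.mpr hx)
  rw [hSeq] at h1
  exact ⟨⟨x, hxM₂⟩, h1, rfl⟩

theorem primitive_pair_char_p (M₁ M₂ : Subgroup G) (hne : M₁ ≠ M₂)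
    (hP : ∀ A : Subgroup G, A ≠ ⊥ → A ≤ M₁ ⊓ M₂ →
      (M₁ ≤ Subgroup.normalizer (A : Set G) → M₂ ⊓ Subgroup.normalizer (A : Set G) = M₁ ⊓ M₂) ∧
      (M₂ ≤ Subgroup.normalizer (A : Set G) → M₁ ⊓ Subgroup.normalizer (A : Set G) = M₁ ⊓ M₂))
    (hc₁ : Subgroup.centralizer (Cfsg.pCore p ↥M₁ : Set ↥M₁) ≤ Cfsg.pCore p ↥M₁)
    (hc₂ : Subgroup.centralizer (Cfsg.pCore p ↥M₂ : Set ↥M₂) ≤ Cfsg.pCore p ↥M₂)
    (hO : (Cfsg.pCore p ↥M₁).map M₁.subtype ⊔ (Cfsg.pCore p ↥M₂).map M₂.subtype ≤ M₁ ⊓ M₂) :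
    (∃ S : Sylow 2 ↥M₁, ¬ IsMulCommutative (S : Subgroup ↥M₁)) ∨
      (∃ S : Sylow 2 ↥M₂, ¬ IsMulCommutative (S : Subgroup ↥M₂)) := by
  by_contra hcon
  rw [not_or] at hcon
  obtain ⟨hn1, hn2⟩ := hcon
  have hab₁ : ∀ S : Sylow 2 ↥M₁, IsMulCommutative (S : Subgroup ↥M₁) := by
    intro S
    by_contra h
    exact hn1 ⟨S, h⟩
  have hab₂ : ∀ S : Sylow 2 ↥M₂, IsMulCommutative (S : Subgroup ↥M₂) := by
    intro S
    by_contra h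
    exact hn2 ⟨S, h⟩
  haveI hQ₁n : (Cfsg.pCore p ↥M₁).Normal := Cfsg.Agent.Lib.Helper01.pCore_normal p
  haveI hQ₂n : (Cfsg.pCore p ↥M₂).Normal := Cfsg.Agent.Lib.Helper01.pCore_normal p
  have hQ₁D : (Cfsg.pCore p ↥M₁).map M₁.subtype ≤ M₁ ⊓ M₂ := le_sup_left.trans hO
  have hQ₂D : (Cfsg.pCore p ↥M₂).map M₂.subtype ≤ M₁ ⊓ M₂ := le_sup_right.trans hO
  have hne₁ : Cfsg.pCore p ↥M₁ ≠ ⊥ :=
    pCore_ne_bot_of_pair M₁ M₂ hne hc₁ hc₂ (hQ₂D.trans inf_le_left)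
  have hne₂ : Cfsg.pCore p ↥M₂ ≠ ⊥ :=
    pCore_ne_bot_of_pair M₂ M₁ hne.symm hc₂ hc₁ (hQ₁D.trans inf_le_right)
  have hQ₁ne : (Cfsg.pCore p ↥M₁).map M₁.subtype ≠ ⊥ := by
    intro h
    exact hne₁ ((Subgroup.map_eq_bot_iff_of_injective _ M₁.subtype_injective).mp h)
  have hN₁ : M₁ ≤ Subgroup.normalizer (((Cfsg.pCore p ↥M₁).map M₁.subtype : Subgroup G) : Set G) :=
    le_normalizer_of_conj (fun m hm x hx => conj_mem_map_subtype hm hx)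
  have hN₂ : M₂ ≤ Subgroup.normalizer (((Cfsg.pCore p ↥M₂).map M₂.subtype : Subgroup G) : Set G) :=
    le_normalizer_of_conj (fun m hm x hx => conj_mem_map_subtype hm hx)
  rcases eq_or_ne p 2 with hp2 | hp2
  · -- `p = 2`
    subst hp2
    have h12 := map_pCore_le_of_comm_sylow M₁ M₂ hc₂ hab₂ (hQ₁D.trans inf_le_right)
    have h21 := map_pCore_le_of_comm_sylow M₂ M₁ hc₁ hab₁ (hQ₂D.trans inf_le_left)
    have heq : (Cfsg.pCore 2 ↥M₁).map M₁.subtype = (Cfsg.pCore 2 ↥M₂).map M₂.subtype :=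
      le_antisymm h12 h21
    refine false_of_common_normal M₁ M₂ hne hP _ hQ₁ne hQ₁D hN₁ ?_
    rw [heq]
    exact hN₂
  · -- `p` odd
    have hst₁ : Cfsg.IsActionPStable p ↥M₁ := Cfsg.Agent.S0626.result hp2 hab₁
    have hst₂ : Cfsg.IsActionPStable p ↥M₂ := Cfsg.Agent.S0626.result hp2 hab₂
    have claim₁ := ordered_claim M₁ M₂ (fun A h1 h2 h3 => (hP A h1 h2).2 h3) hst₁ hst₂ hc₁ hne₂ hO
    have hP' : ∀ A : Subgroup G, A ≠ ⊥ → A ≤ M₂ ⊓ M₁ → M₁ ≤ Subgroup.normalizer (A : Set G) →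
        M₂ ⊓ Subgroup.normalizer (A : Set G) = M₂ ⊓ M₁ := by
      intro A h1 h2 h3
      rw [inf_comm M₂ M₁] at h2 ⊢
      exact (hP A h1 h2).1 h3
    have hO' : (Cfsg.pCore p ↥M₂).map M₂.subtype ⊔ (Cfsg.pCore p ↥M₁).map M₁.subtype ≤ M₂ ⊓ M₁ := by
      rw [sup_comm, inf_comm]
      exact hO
    have claim₂ := ordered_claim M₂ M₁ hP' hst₂ hst₁ hc₂ hne₁ hO'
    have hJ₁ : Cfsg.thompsonSubgroupOf p
        ((Cfsg.pCore p ↥M₁).map M₁.subtype ⊔ (Cfsg.pCore p ↥M₂).map M₂.subtype) ≤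
        (Cfsg.pCore p ↥M₁).map M₁.subtype := by
      rw [Cfsg.Agent.Lib.Helper15.thompsonSubgroupOf_eq]
      exact sSup_le claim₁
    have hJ₂ : Cfsg.thompsonSubgroupOf p
        ((Cfsg.pCore p ↥M₁).map M₁.subtype ⊔ (Cfsg.pCore p ↥M₂).map M₂.subtype) ≤
        (Cfsg.pCore p ↥M₂).map M₂.subtype := by
      rw [Cfsg.Agent.Lib.Helper15.thompsonSubgroupOf_eq]
      apply sSup_le
      intro A hA
      apply claim₂ A
      rw [sup_comm]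
      exact hA
    have e₁ := Cfsg.Agent.Lib.Helper15.thompsonSubgroupOf_eq_of_le p
      (le_sup_left : (Cfsg.pCore p ↥M₁).map M₁.subtype ≤
        (Cfsg.pCore p ↥M₁).map M₁.subtype ⊔ (Cfsg.pCore p ↥M₂).map M₂.subtype) hJ₁
    have e₂ := Cfsg.Agent.Lib.Helper15.thompsonSubgroupOf_eq_of_le p
      (le_sup_right : (Cfsg.pCore p ↥M₂).map M₂.subtype ≤
        (Cfsg.pCore p ↥M₁).map M₁.subtype ⊔ (Cfsg.pCore p ↥M₂).map M₂.subtype) hJ₂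
    have hQ₁p : IsPGroup p ((Cfsg.pCore p ↥M₁).map M₁.subtype) :=
      (Cfsg.Agent.Lib.Helper01.pCore_isPGroup p).map _
    have hJne := Cfsg.Agent.Lib.Helper02.thompsonOf_ne_bot hQ₁p hQ₁ne
    rw [e₁] at hJne
    refine false_of_common_normal M₁ M₂ hne hP _ hJne (hJ₁.trans hQ₁D) ?_ ?_
    · rw [← e₁]
      exact hN₁.trans (Cfsg.Agent.Lib.Helper15.normalizer_le_normalizer_thompsonSubgroupOf p _)
    · rw [← e₂]
      exact hN₂.trans (Cfsg.Agent.Lib.Helper15.normalizer_le_normalizer_thompsonSubgroupOf p _)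

end main

end Cfsg.Agent.Lib.Helper67.PrimPair
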