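import Mathlib
import Cfsg.Agent.S3888
import Cfsg.Agent.Lib.Helper89.RkTwoDefs
import Cfsg.Prelude.Def_OddOrderLocal
import Cfsg.Prelude.Def_Transfer

/-!
# K-S5289-T: Blackburn's list of `p`-groups of rank two, transferred to a subgroup of an ambient group
-/

set_option autoImplicit false
set_option linter.style.haveILetI false
set_option linter.unusedSectionVars false

namespace Cfsg.Agent.Lib.Helper67

open Cfsg Cfsg.Agent.Lib.Helper89

/-- generators of `↥S` generate `S` in the ambient group -/
theorem closure_coe_triple {Ω : Type*} [Group Ω] {S : Subgroup Ω} (x y z : S)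
    (h : Subgroup.closure ({x, y, z} : Set S) = ⊤) :
    Subgroup.closure ({(x : Ω), (y : Ω), (z : Ω)} : Set Ω) = S := by
  have h1 := congrArg (Subgroup.map S.subtype) h
  rw [MonoidHom.map_closure, ← MonoidHom.range_eq_map, Subgroup.range_subtype] at h1
  refine Eq.trans ?_ h1
  congr 1
  ext g
  simp only [Set.mem_image, Set.mem_insert_iff, Set.mem_singleton_iff, Subgroup.coe_subtype]
  constructor
  · rintro (rfl | rfl | rfl)
    · exact ⟨x, Or.inl rfl, rfl⟩
    · exact ⟨y, Or.inr (Or.inl rfl), rfl⟩
    · exact ⟨z, Or.inr (Or.inr rfl), rfl⟩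
  · rintro ⟨w, (rfl | rfl | rfl), rfl⟩
    · exact Or.inl rfl
    · exact Or.inr (Or.inl rfl)
    · exact Or.inr (Or.inr rfl)

theorem exists_rkTwo_data {Ω : Type*} [Group Ω] {S : Subgroup Ω} [Finite S] {p : ℕ} [Fact p.Prime]
    (hS : IsPGroup p S) (hp : 5 ≤ p)
    (hrank3 : ∀ E : Subgroup Ω, E ≤ S → Cfsg.IsElementaryAbelian p E → Nat.card E ≤ p ^ 2) :
    Cfsg.IsMetacyclic ↥S ∨
    (∃ x y z : Ω, x ∈ S ∧ y ∈ S ∧ z ∈ S ∧ Subgroup.closure ({x, y, z} : Set Ω) = S ∧ x ^ p = 1 ∧ y ^ p = 1 ∧
        z ^ p = 1 ∧ x * z = z * x ∧ y * z = z * y ∧ x⁻¹ * y * x = y * z ∧ Nat.card S = p ^ 3) ∨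
    (∃ (n : ℕ) (x y z : Ω), CData S p n x y z) ∨
    (∃ (n s : ℕ) (x y z : Ω), DData S p n s x y z) := by
  have hpp := (Fact.out : p.Prime)
  have hp2 : p ≠ 2 := by omega
  obtain ⟨n, hn⟩ := IsPGroup.iff_card.1 hS
  have hrk : Cfsg.PRankLE p 2 ↥S := by
    intro A hA hexp
    have hE : Cfsg.IsElementaryAbelian p (A.map S.subtype) := by
      refine ⟨inferInstance, ?_⟩
      rintro e ⟨a, ha, rfl⟩
      have h1 := hexp a ha
      have h2 := congrArg Subtype.val h1
      simpa using h2
    have hle : A.map S.subtype ≤ S := by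
      rintro e ⟨a, -, rfl⟩
      exact a.2
    have h3 := hrank3 _ hle hE
    rwa [Subgroup.card_map_of_injective S.subtype_injective] at h3
  rcases Cfsg.Agent.S3888.result (G := ↥S) hp2 n hn hrk with h | ⟨h3, x, y, z, hgen, hx, hy, hz, hxz, hyz, hrel⟩ |
      ⟨h4, s, x, y, z, hs, hgen, hx, hy, hz, hyz, hrel1, hrel2⟩ | ⟨h3, -, -⟩
  · exact Or.inl h
  · have hx' : (x : Ω) ^ p = 1 := by simpa using congrArg Subtype.val hx
    have hy' : (y : Ω) ^ p = 1 := by simpa using congrArg Subtype.val hy
    have hz' : (z : Ω) ^ p ^ (n - 2) = 1 := by simpa using congrArg Subtype.val hz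
    have hxz' : (x : Ω) * z = z * x := by simpa using congrArg Subtype.val hxz
    have hyz' : (y : Ω) * z = z * y := by simpa using congrArg Subtype.val hyz
    have hrel' : (x : Ω)⁻¹ * y * x = y * (z : Ω) ^ p ^ (n - 3) := by
      simpa using congrArg Subtype.val hrel
    by_cases hn3 : n = 3
    · subst hn3
      refine Or.inr (Or.inl ⟨x, y, z, x.2, y.2, z.2, closure_coe_triple x y z hgen, hx', hy', ?_,
        hxz', hyz', ?_, hn⟩)
      · simpa using hz'
      · simpa using hrel'
    · refine Or.inr (Or.inr (Or.inl ⟨n, x, y, z, ?_⟩))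
      exact
        { hxS := x.2
          hyS := y.2
          hzS := z.2
          gen := closure_coe_triple x y z hgen
          xp := hx'
          yp := hy'
          zp := hz'
          xz := hxz'
          yz := hyz'
          rel := hrel'
          card := hn
          hn := by omega }
  · have hx' : (x : Ω) ^ p = 1 := by simpa using congrArg Subtype.val hx
    have hy' : (y : Ω) ^ p = 1 := by simpa using congrArg Subtype.val hy
    have hz' : (z : Ω) ^ p ^ (n - 2) = 1 := by simpa using congrArg Subtype.val hz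
    have hyz' : (y : Ω) * z = z * y := by simpa using congrArg Subtype.val hyz
    have hrel1' : (x : Ω)⁻¹ * y * x = y * (z : Ω) ^ (s * p ^ (n - 3)) := by
      simpa using congrArg Subtype.val hrel1
    have hrel2' : (x : Ω)⁻¹ * z * x = y * z := by simpa using congrArg Subtype.val hrel2
    refine Or.inr (Or.inr (Or.inr ⟨n, s, x, y, z, ?_⟩))
    exact
      { hxS := x.2
        hyS := y.2
        hzS := z.2
        gen := closure_coe_triple x y z hgen
        xp := hx'
        yp := hy'
        zp := hz'
        yz := hyz'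
        rel1 := hrel1'
        rel2 := hrel2'
        hs := by
          intro hdvd
          rcases hs with h1 | h1
          · rw [h1] at hdvd
            exact hpp.one_lt.ne' (Nat.dvd_one.1 hdvd)
          · apply h1
            have : (s : ZMod p) = 0 := (ZMod.natCast_eq_zero_iff s p).2 hdvd
            rw [this]
            exact IsSquare.zero
        card := hn
        hn := h4
        hp5 := hp }
  · omega

end Cfsg.Agent.Lib.Helper67
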