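import Mathlib

set_option autoImplicit false

namespace Cfsg.Agent.Lib.Helper67

section transv

variable {Γ V : Type*} [Group Γ] [CommGroup V] (ab : Γ →* MulAut V)

/-- unipotent step: if `g v = v w` and `g w = w` then `g ^ k v = v w ^ k` -/
theorem ab_zpow_apply (g : Γ) (v w : V) (h1 : ab g v = v * w) (h2 : ab g w = w) (k : ℤ) :
    ab (g ^ k) v = v * w ^ k := by
  have hinvw : ab g⁻¹ w = w := by
    rw [map_inv]
    calc (ab g)⁻¹ w = (ab g)⁻¹ (ab g w) := by rw [h2]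
      _ = w := MulAut.inv_apply_self _ _ _
  have hinvv : ab g⁻¹ v = v * w⁻¹ := by
    rw [map_inv]
    have : ab g (v * w⁻¹) = v := by rw [map_mul, map_inv, h1, h2]; group
    calc (ab g)⁻¹ v = (ab g)⁻¹ (ab g (v * w⁻¹)) := by rw [this]
      _ = v * w⁻¹ := MulAut.inv_apply_self _ _ _
  induction k using Int.induction_on with
  | zero => simp
  | succ k ih =>
    rw [zpow_add_one, map_mul, MulAut.mul_apply, h1, map_mul, ih]
    have hw : ab (g ^ (k : ℤ)) w = w := by
      have : ∀ n : ℕ, ab (g ^ n) w = w := by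
        intro n
        induction n with
        | zero => simp
        | succ n ihn => rw [pow_succ, map_mul, MulAut.mul_apply, h2, ihn]
      rw [zpow_natCast]; exact this k
    rw [hw, zpow_add_one]; group
  | pred k ih =>
    rw [zpow_sub_one, map_mul, MulAut.mul_apply, hinvv, map_mul, ih, map_inv]
    have hw : ab (g ^ (-(k : ℤ))) w = w := by
      have : ∀ n : ℕ, ab (g⁻¹ ^ n) w = w := by
        intro n
        induction n with
        | zero => simp
        | succ n ihn => rw [pow_succ, map_mul, MulAut.mul_apply, hinvw, ihn]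
      rw [zpow_neg, ← inv_zpow, zpow_natCast]; exact this k
    rw [hw, zpow_sub_one]; group

theorem ab_pow_apply (g : Γ) (v w : V) (h1 : ab g v = v * w) (h2 : ab g w = w) (k : ℕ) :
    ab (g ^ k) v = v * w ^ k := by
  have := ab_zpow_apply ab g v w h1 h2 k
  simpa using this

/-- the elements acting trivially on `V / W` -/
def tStab (W : Subgroup V) : Subgroup Γ where
  carrier := {g | ∀ v, ab g v / v ∈ W}
  one_mem' := by intro v; simp
  mul_mem' := by
    intro g h hg hh v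
    have e : ab (g * h) v / v = (ab g (ab h v) / ab h v) * (ab h v / v) := by
      rw [map_mul, MulAut.mul_apply]; simp
    rw [e]
    exact W.mul_mem (hg _) (hh v)
  inv_mem' := by
    intro g hg v
    have e : ab g⁻¹ v / v = (ab g (ab g⁻¹ v) / ab g⁻¹ v)⁻¹ := by
      have : ab g (ab g⁻¹ v) = v := by
        rw [map_inv]; exact MulAut.apply_inv_self _ _ _
      rw [this]; simp
    rw [e]
    exact W.inv_mem (hg _)

theorem mem_tStab {W : Subgroup V} {g : Γ} : g ∈ tStab ab W ↔ ∀ v, ab g v / v ∈ W := Iff.rfl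

theorem tStab_apply_mem {W : Subgroup V} {g : Γ} (hg : g ∈ tStab ab W) {w : V} (hw : w ∈ W) :
    ab g w ∈ W := by
  have : ab g w = (ab g w / w) * w := by simp
  rw [this]; exact W.mul_mem (hg w) hw

/-- the elements acting trivially on `W₁`, `W / W₁` and `V / W` -/
def flagStab (W₁ W : Subgroup V) : Subgroup Γ where
  carrier := {g | g ∈ tStab ab W ∧ (∀ w ∈ W₁, ab g w = w) ∧ ∀ w ∈ W, ab g w / w ∈ W₁}
  one_mem' := ⟨Subgroup.one_mem _, by intro w _; simp, by intro w _; simp⟩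
  mul_mem' := by
    rintro g h ⟨hg1, hg2, hg3⟩ ⟨hh1, hh2, hh3⟩
    refine ⟨Subgroup.mul_mem _ hg1 hh1, ?_, ?_⟩
    · intro w hw
      rw [map_mul, MulAut.mul_apply, hh2 w hw, hg2 w hw]
    · intro w hw
      have e : ab (g * h) w / w = (ab g (ab h w) / ab h w) * (ab h w / w) := by
        rw [map_mul, MulAut.mul_apply]; simp
      rw [e]
      exact W₁.mul_mem (hg3 _ (tStab_apply_mem ab hh1 hw)) (hh3 w hw)
  inv_mem' := by
    rintro g ⟨hg1, hg2, hg3⟩
    have hinv : ∀ v, ab g (ab g⁻¹ v) = v := by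
      intro v; rw [map_inv]; exact MulAut.apply_inv_self _ _ _
    refine ⟨Subgroup.inv_mem _ hg1, ?_, ?_⟩
    · intro w hw
      have : ab g⁻¹ (ab g w) = w := by rw [map_inv]; exact MulAut.inv_apply_self _ _ _
      rw [hg2 w hw] at this
      exact this
    · intro w hw
      have hu : ab g⁻¹ w ∈ W := tStab_apply_mem ab (Subgroup.inv_mem _ hg1) hw
      have e : ab g⁻¹ w / w = (ab g (ab g⁻¹ w) / ab g⁻¹ w)⁻¹ := by
        rw [hinv]; simp
      rw [e]
      exact W₁.inv_mem (hg3 _ hu)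

theorem mem_flagStab {W₁ W : Subgroup V} {g : Γ} : g ∈ flagStab ab W₁ W ↔
    g ∈ tStab ab W ∧ (∀ w ∈ W₁, ab g w = w) ∧ ∀ w ∈ W, ab g w / w ∈ W₁ := Iff.rfl

/-- the flag stabilizer consists of elements of order dividing `p ^ 2` when `V` has exponent `p` -/
theorem pow_eq_one_of_mem_flagStab (hinj : Function.Injective ab) {p : ℕ}
    (hV : ∀ v : V, v ^ p = 1) {W₁ W : Subgroup V} {g : Γ} (hg : g ∈ flagStab ab W₁ W) :
    g ^ (p * p) = 1 := by
  have hgp : g ^ p ∈ flagStab ab W₁ W := Subgroup.pow_mem _ hg p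
  obtain ⟨hg1, hg2, hg3⟩ := hg
  -- `g ^ p` fixes `W` pointwise
  have h2 : ∀ w ∈ W, ab (g ^ p) w = w := by
    intro w hw
    have hw1 : ab g w = w * (ab g w / w) := by simp
    have := ab_pow_apply ab g w (ab g w / w) hw1 (hg2 _ (hg3 w hw)) p
    rw [this, hV, mul_one]
  apply hinj
  rw [map_one]
  ext v
  have hv1 : ab (g ^ p) v = v * (ab (g ^ p) v / v) := by simp
  have := ab_pow_apply ab (g ^ p) v (ab (g ^ p) v / v) hv1 (h2 _ (hgp.1 v)) p
  rw [pow_mul, this, hV, mul_one]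
  rfl

/-- two "transvections" with a common fixed centre lie in a common flag stabilizer -/
theorem mem_flagStab_pair (x y : Γ) (β β' : V)
    (hx1 : ∀ v, ab x v / v ∈ Subgroup.zpowers β) (hx2 : ab x β = β)
    (hy1 : ∀ v, ab y v / v ∈ Subgroup.zpowers β') (hy2 : ab y β' = β') (hy3 : ab y β = β) :
    x ∈ flagStab ab (Subgroup.zpowers β) (Subgroup.zpowers β ⊔ Subgroup.zpowers β') ∧
    y ∈ flagStab ab (Subgroup.zpowers β) (Subgroup.zpowers β ⊔ Subgroup.zpowers β') := by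
  have hfixz : ∀ (g : Γ) (γ : V), ab g γ = γ → ∀ w ∈ Subgroup.zpowers γ, ab g w = w := by
    intro g γ hg w hw
    obtain ⟨k, rfl⟩ := Subgroup.mem_zpowers_iff.mp hw
    rw [map_zpow, hg]
  refine ⟨⟨fun v => (le_sup_left : Subgroup.zpowers β ≤ _) (hx1 v), hfixz x β hx2,
    fun w _ => hx1 w⟩, ⟨fun v => (le_sup_right : Subgroup.zpowers β' ≤ _) (hy1 v),
    hfixz y β hy3, ?_⟩⟩
  intro w hw
  obtain ⟨u, hu, u', hu', rfl⟩ := Subgroup.mem_sup.mp hw
  rw [map_mul, hfixz y β hy3 u hu, hfixz y β' hy2 u' hu', div_self']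
  exact Subgroup.one_mem _

theorem eq_one_of_mem_of_pow {p q : ℕ} [hp : Fact p.Prime] [hq : Fact q.Prime] (hqp : q ≠ p)
    (Q : Subgroup Γ) (hQ : IsPGroup q Q) {s : Γ} (hs : s ∈ Q) (hsp : s ^ (p * p) = 1) : s = 1 := by
  obtain ⟨k', hk'⟩ := hQ ⟨s, hs⟩
  have hsq : s ^ q ^ k' = 1 := by simpa using congrArg Subtype.val hk'
  have hg : s ^ Nat.gcd (q ^ k') (p * p) = 1 := pow_gcd_eq_one.mpr ⟨hsq, hsp⟩
  have hcop0 : Nat.Coprime q p := (Nat.coprime_primes hq.out hp.out).mpr hqp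
  have hcop : Nat.Coprime (q ^ k') (p * p) :=
    Nat.Coprime.pow_left _ (Nat.Coprime.mul_right hcop0 hcop0)
  rw [hcop, pow_one] at hg
  exact hg

section main

variable (hinj : Function.Injective ab) {p q : ℕ} [hp : Fact p.Prime] [hq : Fact q.Prime]
  (hqp : q ≠ p) (hV : ∀ v : V, v ^ p = 1) (abar : Γ) (bbar : V)
  (h1 : ∀ v, ab abar v / v ∈ Subgroup.zpowers bbar) (h2 : ab abar bbar = bbar)
  (Q : Subgroup Γ) (hQ : IsPGroup q Q) (hQn : abar ∈ Subgroup.normalizer (Q : Set Γ))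
  (t : Γ) (ht : t ∈ Q) (hne : abar * t ≠ t * abar)

include h1 in
theorem conj_transv (v : V) :
    ab (t * abar * t⁻¹) v / v ∈ Subgroup.zpowers (ab t bbar) := by
  obtain ⟨k, hk⟩ := Subgroup.mem_zpowers_iff.mp (h1 (ab t⁻¹ v))
  rw [Subgroup.mem_zpowers_iff]
  refine ⟨k, ?_⟩
  have hv : ab t (ab t⁻¹ v) = v := by rw [map_inv]; exact MulAut.apply_inv_self _ _ _
  rw [← map_zpow, hk, map_div, hv]
  simp [map_mul, MulAut.mul_apply]

include h2 in
theorem conj_transv_fix : ab (t * abar * t⁻¹) (ab t bbar) = ab t bbar := by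
  have : ab t⁻¹ (ab t bbar) = bbar := by rw [map_inv]; exact MulAut.inv_apply_self _ _ _
  simp only [map_mul, MulAut.mul_apply]
  rw [this, h2]

include hinj hqp hV h1 h2 hQ hQn ht hne in
/-- nondegeneracy: `ā` moves the centre of `c = t ā t⁻¹` and conversely -/
theorem nondegenerate :
    ab abar (ab t bbar) ≠ ab t bbar ∧ ab (t * abar * t⁻¹) bbar ≠ bbar := by
  have hsQ : abar * (t * abar * t⁻¹)⁻¹ ∈ Q := by
    have e : abar * (t * abar * t⁻¹)⁻¹ = (abar * t * abar⁻¹) * t⁻¹ := by group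
    rw [e]
    exact Q.mul_mem ((Subgroup.mem_normalizer_iff.mp hQn t).mp ht) (Q.inv_mem ht)
  have key : ∀ (W₁ W : Subgroup V), abar ∈ flagStab ab W₁ W →
      t * abar * t⁻¹ ∈ flagStab ab W₁ W → False := by
    intro W₁ W ha hc
    have hs : abar * (t * abar * t⁻¹)⁻¹ ∈ flagStab ab W₁ W :=
      Subgroup.mul_mem _ ha (Subgroup.inv_mem _ hc)
    have h1' := eq_one_of_mem_of_pow hqp Q hQ hsQ (pow_eq_one_of_mem_flagStab ab hinj hV hs)
    apply hne
    have e : abar * t = (abar * (t * abar * t⁻¹)⁻¹) * (t * abar) := by group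
    rw [e, h1', one_mul]
  constructor
  · intro he
    obtain ⟨hc, ha⟩ := mem_flagStab_pair ab (t * abar * t⁻¹) abar (ab t bbar) bbar
      (conj_transv ab abar bbar h1 t) (conj_transv_fix ab abar bbar h2 t) h1 h2 he
    exact key _ _ ha hc
  · intro hf
    obtain ⟨ha, hc⟩ := mem_flagStab_pair ab abar (t * abar * t⁻¹) bbar (ab t bbar)
      h1 h2 (conj_transv ab abar bbar h1 t) (conj_transv_fix ab abar bbar h2 t) hf
    exact key _ _ ha hc

end main

/-- in a cyclic group of prime order every nonidentity element generates -/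
theorem exists_zpow_eq_of_mem_zpowers {p : ℕ} [hp : Fact p.Prime] {x y : V} (hx : x ^ p = 1)
    (hy : y ∈ Subgroup.zpowers x) (hy1 : y ≠ 1) : ∃ k : ℤ, y ^ k = x := by
  have hx1 : x ≠ 1 := by
    rintro rfl
    rw [Subgroup.zpowers_one_eq_bot, Subgroup.mem_bot] at hy
    exact hy1 hy
  have hord : orderOf x = p := orderOf_eq_prime hx hx1
  have hcard : Nat.card (Subgroup.zpowers x) = p := by rw [Nat.card_zpowers, hord]
  have hne : (⟨y, hy⟩ : Subgroup.zpowers x) ≠ 1 := by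
    intro h; exact hy1 (congrArg Subtype.val h)
  have htop := zpowers_eq_top_of_prime_card hcard hne
  have hmem : (⟨x, Subgroup.mem_zpowers x⟩ : Subgroup.zpowers x) ∈
      Subgroup.zpowers (⟨y, hy⟩ : Subgroup.zpowers x) := by rw [htop]; trivial
  obtain ⟨k, hk⟩ := Subgroup.mem_zpowers_iff.mp hmem
  exact ⟨k, by simpa using congrArg Subtype.val hk⟩

/-- the subgroup of elements normalizing `Q` whose commutator with `abar` lies in `Q` -/
def commStab (abar : Γ) (Q : Subgroup Γ) : Subgroup Γ where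
  carrier := {g | g ∈ Subgroup.normalizer (Q : Set Γ) ∧ g * abar * g⁻¹ * abar⁻¹ ∈ Q}
  one_mem' := ⟨Subgroup.one_mem _, by simp⟩
  mul_mem' := by
    rintro g h ⟨hg1, hg2⟩ ⟨hh1, hh2⟩
    refine ⟨Subgroup.mul_mem _ hg1 hh1, ?_⟩
    have e : g * h * abar * (g * h)⁻¹ * abar⁻¹ =
        (g * (h * abar * h⁻¹ * abar⁻¹) * g⁻¹) * (g * abar * g⁻¹ * abar⁻¹) := by group
    rw [e]
    exact Q.mul_mem ((Subgroup.mem_normalizer_iff.mp hg1 _).mp hh2) hg2
  inv_mem' := by
    rintro g ⟨hg1, hg2⟩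
    refine ⟨Subgroup.inv_mem _ hg1, ?_⟩
    have e : g⁻¹ * abar * g⁻¹⁻¹ * abar⁻¹ = g⁻¹ * (g * abar * g⁻¹ * abar⁻¹)⁻¹ * g⁻¹⁻¹ := by group
    rw [e]
    exact (Subgroup.mem_normalizer_iff.mp (Subgroup.inv_mem _ hg1) _).mp (Q.inv_mem hg2)

section main2

variable (hinj : Function.Injective ab) {p q : ℕ} [hp : Fact p.Prime] [hq : Fact q.Prime]
  (hqp : q ≠ p) (hV : ∀ v : V, v ^ p = 1) (abar : Γ) (bbar : V)
  (h1 : ∀ v, ab abar v / v ∈ Subgroup.zpowers bbar) (h2 : ab abar bbar = bbar)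
  (Q : Subgroup Γ) (hQ : IsPGroup q Q) (hQn : abar ∈ Subgroup.normalizer (Q : Set Γ))
  (t : Γ) (ht : t ∈ Q) (hne : abar * t ≠ t * abar)

include hinj hqp hV h1 h2 hQ hQn ht hne in
/-- an element commuting with `ā` and inverting the centre `b̄` -/
theorem exists_inverting : ∃ z : Γ, z * abar = abar * z ∧ ab z bbar = bbar⁻¹ := by
  obtain ⟨he, hf⟩ := nondegenerate ab hinj hqp hV abar bbar h1 h2 Q hQ hQn t ht hne
  set c := t * abar * t⁻¹ with hc
  set b' := ab t bbar with hb'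
  have hc1 := conj_transv ab abar bbar h1 t
  have hc2 := conj_transv_fix ab abar bbar h2 t
  rw [← hc, ← hb'] at hc1 hc2
  have hb'p : b' ^ p = 1 := by rw [hb', ← map_pow, hV, map_one]
  -- e and f
  set e := ab abar b' / b' with hedef
  set f := ab c bbar / bbar with hfdef
  have he1 : e ≠ 1 := by
    intro h; apply he; rw [hedef, div_eq_one] at h; exact h
  have hf1 : f ≠ 1 := by
    intro h; apply hf; rw [hfdef, div_eq_one] at h; exact h
  obtain ⟨k, hk⟩ := exists_zpow_eq_of_mem_zpowers (hV bbar) (h1 b') he1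
  obtain ⟨k', hk'⟩ := exists_zpow_eq_of_mem_zpowers hb'p (hc1 bbar) hf1
  have hfix : ∀ (g : Γ) (γ : V), ab g γ = γ → ∀ w ∈ Subgroup.zpowers γ, ab g w = w := by
    intro g γ hg w hw
    obtain ⟨k, rfl⟩ := Subgroup.mem_zpowers_iff.mp hw
    rw [map_zpow, hg]
  have hae : ab abar e = e := hfix abar bbar h2 e (h1 b')
  have hcf : ab c f = f := hfix c b' hc2 f (hc1 bbar)
  -- the modified transvections
  set a₁ := abar ^ k with ha₁
  set c₁ := c ^ (-k') with hc₁
  have ha₁b' : ab a₁ b' = b' * bbar := by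
    have := ab_zpow_apply ab abar b' e (by rw [hedef]; simp) hae k
    rw [this, hk]
  have ha₁b : ab a₁ bbar = bbar := by
    rw [ha₁, map_zpow]
    have := hfix abar bbar h2 bbar (Subgroup.mem_zpowers bbar)
    have h3 : ∀ n : ℤ, ((ab abar) ^ n) bbar = bbar := by
      intro n
      have := ab_zpow_apply ab abar bbar 1 (by rw [mul_one, h2]) (map_one _) n
      rw [map_zpow] at this
      simpa using this
    exact h3 k
  have hc₁b : ab c₁ bbar = bbar * b'⁻¹ := by
    have := ab_zpow_apply ab c bbar f (by rw [hfdef]; simp) hcf (-k')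
    rw [this, zpow_neg, hk']
  have hc₁b' : ab c₁ b' = b' := by
    have := ab_zpow_apply ab c b' 1 (by rw [mul_one, hc2]) (map_one _) (-k')
    rw [this, one_zpow, mul_one]
  set w := a₁ * c₁ * a₁ with hw
  have hwb : ab w bbar = b'⁻¹ := by
    simp only [hw, map_mul, MulAut.mul_apply]
    rw [ha₁b, hc₁b, map_mul, map_inv, ha₁b, ha₁b']
    rw [mul_inv_rev]; simp
  have hwb' : ab w b' = bbar := by
    simp only [hw, map_mul, MulAut.mul_apply]
    rw [ha₁b', map_mul, hc₁b', hc₁b, map_mul, map_mul, map_inv, ha₁b', ha₁b]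
    simp
  refine ⟨w * w, ?_, ?_⟩
  swap
  · rw [map_mul, MulAut.mul_apply, hwb, map_inv, hwb']
  -- commutation
  set z := w * w with hz
  have hzb : ab z bbar = bbar⁻¹ := by
    rw [hz, map_mul, MulAut.mul_apply, hwb, map_inv, hwb']
  have hzb' : ab z b' = b'⁻¹ := by
    rw [hz, map_mul, MulAut.mul_apply, hwb', hwb]
  set W := Subgroup.zpowers bbar ⊔ Subgroup.zpowers b' with hW
  have haT : abar ∈ tStab ab W := fun v => (le_sup_left : Subgroup.zpowers bbar ≤ W) (h1 v)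
  have hcT : c ∈ tStab ab W := fun v => (le_sup_right : Subgroup.zpowers b' ≤ W) (hc1 v)
  have hzT : z ∈ tStab ab W := by
    have h1 : a₁ ∈ tStab ab W := Subgroup.zpow_mem _ haT k
    have h2 : c₁ ∈ tStab ab W := Subgroup.zpow_mem _ hcT (-k')
    have h3 : w ∈ tStab ab W := Subgroup.mul_mem _ (Subgroup.mul_mem _ h1 h2) h1
    exact Subgroup.mul_mem _ h3 h3
  have hzinv : ∀ u ∈ W, ab z u = u⁻¹ := by
    intro u hu
    obtain ⟨y, hy, y', hy', rfl⟩ := Subgroup.mem_sup.mp hu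
    obtain ⟨i, rfl⟩ := Subgroup.mem_zpowers_iff.mp hy
    obtain ⟨j, rfl⟩ := Subgroup.mem_zpowers_iff.mp hy'
    rw [map_mul, map_zpow, map_zpow, hzb, hzb', mul_inv, inv_zpow, inv_zpow]
  have hzinv' : ∀ u ∈ W, ab z⁻¹ u = u⁻¹ := by
    intro u hu
    have h := hzinv u⁻¹ (W.inv_mem hu)
    rw [inv_inv] at h
    calc ab z⁻¹ u = (ab z)⁻¹ (ab z u⁻¹) := by rw [map_inv, h]
      _ = u⁻¹ := MulAut.inv_apply_self _ _ _
  have hcomm_flag : z * abar * z⁻¹ * abar⁻¹ ∈ flagStab ab ⊥ W := by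
    refine ⟨?_, ?_, ?_⟩
    · exact Subgroup.mul_mem _ (Subgroup.mul_mem _ (Subgroup.mul_mem _ hzT haT)
        (Subgroup.inv_mem _ hzT)) (Subgroup.inv_mem _ haT)
    · intro u hu
      rw [Subgroup.mem_bot] at hu
      rw [hu, map_one]
    · intro u hu
      rw [Subgroup.mem_bot, div_eq_one]
      have hu1 : ab abar⁻¹ u ∈ W := tStab_apply_mem ab (Subgroup.inv_mem _ haT) hu
      simp only [map_mul, MulAut.mul_apply]
      rw [hzinv' _ hu1, map_inv]
      have : ab abar (ab abar⁻¹ u) = u := by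
        rw [map_inv]; exact MulAut.apply_inv_self _ _ _
      rw [this, hzinv _ (W.inv_mem hu), inv_inv]
  have hcommQ : z * abar * z⁻¹ * abar⁻¹ ∈ Q := by
    have haD : abar ∈ commStab abar Q := ⟨hQn, by simp⟩
    have htD : t ∈ commStab abar Q := by
      refine ⟨Subgroup.le_normalizer ht, ?_⟩
      have e : t * abar * t⁻¹ * abar⁻¹ = t * (abar * t⁻¹ * abar⁻¹) := by group
      rw [e]
      exact Q.mul_mem ht ((Subgroup.mem_normalizer_iff.mp hQn _).mp (Q.inv_mem ht))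
    have hcD : c ∈ commStab abar Q :=
      Subgroup.mul_mem _ (Subgroup.mul_mem _ htD haD) (Subgroup.inv_mem _ htD)
    have h1 : a₁ ∈ commStab abar Q := Subgroup.zpow_mem _ haD k
    have h2 : c₁ ∈ commStab abar Q := Subgroup.zpow_mem _ hcD (-k')
    have h3 : w ∈ commStab abar Q := Subgroup.mul_mem _ (Subgroup.mul_mem _ h1 h2) h1
    exact (Subgroup.mul_mem _ h3 h3).2
  have h1' := eq_one_of_mem_of_pow hqp Q hQ hcommQ
    (pow_eq_one_of_mem_flagStab ab hinj hV hcomm_flag)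
  calc z * abar = (z * abar * z⁻¹ * abar⁻¹) * (abar * z) := by group
    _ = abar * z := by rw [h1', one_mul]

end main2

section two

variable (hinj : Function.Injective ab) {q : ℕ} [hq : Fact q.Prime]
  (hq2 : q ≠ 2) (hV : ∀ v : V, v ^ 2 = 1) (abar : Γ) (bbar : V)
  (h1 : ∀ v, ab abar v / v ∈ Subgroup.zpowers bbar) (h2 : ab abar bbar = bbar)
  (ha2 : abar * abar = 1)
  (Q : Subgroup Γ) (hQ : IsPGroup q Q) (hQn : abar ∈ Subgroup.normalizer (Q : Set Γ))
  (t : Γ) (ht : t ∈ Q) (hne : abar * t ≠ t * abar)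

omit [CommGroup V] in
theorem mem_zpowers_two {V : Type*} [CommGroup V] {β e : V} (hβ : β ^ 2 = 1)
    (he : e ∈ Subgroup.zpowers β) (he1 : e ≠ 1) : e = β := by
  obtain ⟨k, rfl⟩ := Subgroup.mem_zpowers_iff.mp he
  rcases Int.even_or_odd k with ⟨m, hm⟩ | ⟨m, hm⟩
  · exfalso; apply he1
    rw [hm, ← two_mul, zpow_mul, zpow_ofNat, hβ, one_zpow]
  · rw [hm, zpow_add, zpow_mul, zpow_ofNat, hβ, one_zpow, one_mul, zpow_one]

include hinj hq2 hV h1 h2 ha2 hQ hQn ht hne in
/-- the case `p = 2`: the two transvections generate a copy of `S₃` acting on `⟨b̄, b̄'⟩` -/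
theorem two_facts :
    ab abar (ab t bbar) = ab t bbar * bbar ∧
    ab (t * abar * t⁻¹) bbar = bbar * ab t bbar ∧
    (abar * (t * abar * t⁻¹)) ^ 3 = 1 ∧ ab t bbar ≠ bbar ∧ abar ≠ t * abar * t⁻¹ := by
  have : Fact (Nat.Prime 2) := ⟨Nat.prime_two⟩
  obtain ⟨he, hf⟩ := nondegenerate ab hinj hq2 hV abar bbar h1 h2 Q hQ hQn t ht hne
  set c := t * abar * t⁻¹ with hc
  set b' := ab t bbar with hb'
  have hc1 := conj_transv ab abar bbar h1 t
  have hc2 := conj_transv_fix ab abar bbar h2 t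
  rw [← hc, ← hb'] at hc1 hc2
  have hb'2 : b' ^ 2 = 1 := by rw [hb', ← map_pow, hV, map_one]
  have hc2' : c * c = 1 := by
    rw [hc]
    calc t * abar * t⁻¹ * (t * abar * t⁻¹) = t * (abar * abar) * t⁻¹ := by group
      _ = 1 := by rw [ha2]; group
  have hE : ab abar b' / b' = bbar :=
    mem_zpowers_two (hV bbar) (h1 b') (by intro h; apply he; rwa [div_eq_one] at h)
  have hF : ab c bbar / bbar = b' :=
    mem_zpowers_two hb'2 (hc1 bbar) (by intro h; apply hf; rwa [div_eq_one] at h)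
  have hab' : ab abar b' = b' * bbar := by rw [← hE]; simp
  have hcb : ab c bbar = bbar * b' := by rw [← hF]; simp
  have hbb : bbar * bbar = 1 := by rw [← pow_two]; exact hV bbar
  have hb'b' : b' * b' = 1 := by rw [← pow_two]; exact hb'2
  have hne' : b' ≠ bbar := by
    intro h
    apply he
    rw [h, h2]
  refine ⟨hab', hcb, ?_, hne', ?_⟩
  swap
  · intro h
    apply hf
    rw [← h, h2]
  -- σ³ = 1
  obtain ⟨σ, hσ⟩ : ∃ σ : Γ, σ = abar * c := ⟨_, rfl⟩
  rw [← hσ]
  have hσb : ab σ bbar = b' := by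
    rw [hσ, map_mul, MulAut.mul_apply, hcb, map_mul, h2, hab']
    calc bbar * (b' * bbar) = b' * (bbar * bbar) := by
          rw [mul_comm b' bbar, ← mul_assoc, ← mul_assoc, mul_comm (bbar * bbar) b', mul_assoc]
      _ = b' := by rw [hbb, mul_one]
  have hσb' : ab σ b' = bbar * b' := by
    rw [hσ, map_mul, MulAut.mul_apply, hc2, hab', mul_comm]
  have hσbb' : ab σ (bbar * b') = bbar := by
    rw [map_mul, hσb, hσb']
    calc b' * (bbar * b') = bbar * (b' * b') := by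
          rw [← mul_assoc, mul_comm b' bbar, mul_assoc]
      _ = bbar := by rw [hb'b', mul_one]
  have hpow3 : ∀ v, ab (σ ^ 3) v = ab σ (ab σ (ab σ v)) := by
    intro v; rw [pow_succ, pow_two, map_mul, map_mul]; rfl
  have hσ3b : ab (σ ^ 3) bbar = bbar := by rw [hpow3, hσb, hσb', hσbb']
  have hσ3b' : ab (σ ^ 3) b' = b' := by rw [hpow3, hσb', hσbb', hσb]
  set W := Subgroup.zpowers bbar ⊔ Subgroup.zpowers b' with hW
  have haT : abar ∈ tStab ab W := fun v => (le_sup_left : Subgroup.zpowers bbar ≤ W) (h1 v)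
  have hcT : c ∈ tStab ab W := fun v => (le_sup_right : Subgroup.zpowers b' ≤ W) (hc1 v)
  have hσT : σ ∈ tStab ab W := by rw [hσ]; exact Subgroup.mul_mem _ haT hcT
  have hflag : σ ^ 3 ∈ flagStab ab ⊥ W := by
    refine ⟨Subgroup.pow_mem _ hσT 3, ?_, ?_⟩
    · intro u hu
      rw [Subgroup.mem_bot] at hu
      rw [hu, map_one]
    · intro u hu
      rw [Subgroup.mem_bot, div_eq_one]
      obtain ⟨y, hy, y', hy', rfl⟩ := Subgroup.mem_sup.mp hu
      obtain ⟨i, rfl⟩ := Subgroup.mem_zpowers_iff.mp hy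
      obtain ⟨j, rfl⟩ := Subgroup.mem_zpowers_iff.mp hy'
      rw [map_mul, map_zpow, map_zpow, hσ3b, hσ3b']
  have hainv : abar⁻¹ = abar := inv_eq_of_mul_eq_one_right ha2
  have hσQ : σ ∈ Q := by
    have e : σ = (abar * t * abar⁻¹) * t⁻¹ := by
      rw [hσ, hc, hainv]; group
    rw [e]
    exact Q.mul_mem ((Subgroup.mem_normalizer_iff.mp hQn t).mp ht) (Q.inv_mem ht)
  exact eq_one_of_mem_of_pow hq2 Q hQ (Q.pow_mem hσQ 3)
    (pow_eq_one_of_mem_flagStab ab hinj hV hflag)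

end two

end transv

end Cfsg.Agent.Lib.Helper67
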