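import Mathlib
import Cfsg.Prelude.Def_LocalEven
import Cfsg.Agent.Lib.Helper67.Transv
import Cfsg.Agent.Lib.Helper67.ExpPLen2
import Cfsg.Agent.Lib.Helper11.DihedralThree
import Cfsg.Agent.Lib.Helper90.Involves
import Cfsg.Agent.Lib.Helper52.FFBridge

/-!
# Sections isomorphic to `S₃` from transvections inverted odd-order elements
-/

set_option autoImplicit false

namespace Cfsg.Agent.Lib.Helper67

open scoped commutatorElement

/-- Conjugation action of `L ≤ N(W)` on `W`. -/
def cAut {G : Type*} [Group G] (L W : Subgroup G)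
    (hLW : L ≤ Subgroup.normalizer (W : Set G)) : L →* MulAut W where
  toFun l :=
    { toFun := fun w => ⟨(l : G) * w * (l : G)⁻¹,
        (Subgroup.mem_normalizer_iff.mp (hLW l.2) w).mp w.2⟩
      invFun := fun w => ⟨(l : G)⁻¹ * w * (l : G), by
        apply (Subgroup.mem_normalizer_iff.mp (hLW l.2) ((l : G)⁻¹ * w * (l : G))).mpr
        simp [mul_assoc]⟩
      left_inv := fun w => by ext; simp [mul_assoc]
      right_inv := fun w => by ext; simp [mul_assoc]
      map_mul' := fun v w => by ext; simp [mul_assoc] }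
  map_one' := by ext v; simp
  map_mul' g h := by ext v; simp [mul_assoc]

@[simp] theorem cAut_coe {G : Type*} [Group G] (L W : Subgroup G)
    (hLW : L ≤ Subgroup.normalizer (W : Set G)) (l : L)
    (w : W) : ((cAut L W hLW l w : W) : G) = (l : G) * w * (l : G)⁻¹ := rfl

/-- an involutory automorphism of an elementary abelian 2-group whose fixed points have index
at most two is a transvection -/
theorem exists_centre_of_card_le {U : Type*} [CommGroup U] [Finite U] (hU : ∀ u : U, u ^ 2 = 1)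
    (α : MulAut U) (hα : α * α = 1) (F : Subgroup U) (hF : ∀ u ∈ F, α u = u)
    (hcard : Nat.card U ≤ 2 * Nat.card F) :
    ∃ b : U, (∀ u, α u / u ∈ Subgroup.zpowers b) ∧ α b = b := by
  let δ : U →* U :=
    { toFun := fun u => α u / u
      map_one' := by simp
      map_mul' := fun u v => by rw [map_mul]; exact mul_div_mul_comm _ _ _ _ }
  have hδ : ∀ u, δ u = α u / u := fun _ => rfl
  have hFker : F ≤ δ.ker := fun u hu => by
    rw [MonoidHom.mem_ker, hδ, hF u hu, div_self']
  have hinv : ∀ u : U, u⁻¹ = u := fun u => by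
    rw [inv_eq_iff_mul_eq_one, ← pow_two]; exact hU u
  have hfix : ∀ u, α (δ u) = δ u := by
    intro u
    rw [hδ, map_div]
    have h1 : α (α u) = u := by
      have := congrArg (fun f : MulAut U => f u) hα
      simpa using this
    rw [h1, ← inv_div, hinv]
  by_cases hall : ∀ u, δ u = 1
  · exact ⟨1, fun u => by rw [← hδ, hall u]; exact Subgroup.one_mem _, map_one α⟩
  · push Not at hall
    obtain ⟨u₀, hu₀⟩ := hall
    refine ⟨δ u₀, ?_, hfix u₀⟩
    intro u
    by_cases hu : δ u = 1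
    · rw [← hδ, hu]; exact Subgroup.one_mem _
    · have hidx : δ.ker.index = 2 := by
        have h1 : δ.ker.index * Nat.card δ.ker = Nat.card U := Subgroup.index_mul_card _
        have h2 : Nat.card F ≤ Nat.card δ.ker := Subgroup.card_le_of_le hFker
        have h3 : δ.ker.index ≠ 1 := by
          intro h
          rw [Subgroup.index_eq_one] at h
          apply hu₀
          have : u₀ ∈ δ.ker := by rw [h]; trivial
          exact this
        have hpos : 0 < Nat.card δ.ker := Nat.card_pos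
        have h4 : δ.ker.index ≠ 0 := Subgroup.index_ne_zero_of_finite
        have h5 : δ.ker.index * Nat.card δ.ker ≤ 2 * Nat.card δ.ker := by rw [h1]; omega
        have h6 : δ.ker.index ≤ 2 := Nat.le_of_mul_le_mul_right h5 hpos
        omega
      have hmem : u * u₀ ∈ δ.ker := by
        rw [Subgroup.mul_mem_iff_of_index_two hidx]
        exact ⟨fun h => absurd (MonoidHom.mem_ker.mp h) hu,
          fun h => absurd (MonoidHom.mem_ker.mp h) hu₀⟩
      have h7 : δ u * δ u₀ = 1 := by rw [← map_mul]; exact MonoidHom.mem_ker.mp hmem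
      have h8 : δ u = δ u₀ := by rw [← hinv (δ u₀)]; exact eq_inv_of_mul_eq_one_left h7
      rw [← hδ, h8]; exact Subgroup.mem_zpowers _

/-- a transvection inverting an element of odd order acting nontrivially produces a section
isomorphic to `S₃` -/
theorem involves_perm_three_of_transv {L U : Type*} [Group L] [CommGroup U]
    (hU : ∀ u : U, u ^ 2 = 1)
    (φ : L →* MulAut U) (a y : L) (ha : a * a = 1) (hinv : a * y * a⁻¹ = y⁻¹) (m : ℕ) (hm : Odd m)
    (hym : y ^ m = 1) (hy : φ y ≠ 1) (b : U) (h1 : ∀ u, φ a u / u ∈ Subgroup.zpowers b)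
    (h2 : φ a b = b) : Cfsg.Involves (Equiv.Perm (Fin 3)) L := by
  have hpow : (φ y) ^ m = 1 := by rw [← map_pow, hym, map_one]
  have hord_dvd : orderOf (φ y) ∣ m := orderOf_dvd_of_pow_eq_one hpow
  have hord_ne : orderOf (φ y) ≠ 1 := by rwa [Ne, orderOf_eq_one_iff]
  obtain ⟨q, hq, hqd⟩ := Nat.exists_prime_and_dvd hord_ne
  have hqf : Fact q.Prime := ⟨hq⟩
  have hq2 : q ≠ 2 := by
    rintro rfl
    have : 2 ∣ m := hqd.trans hord_dvd
    exact (Nat.not_even_iff_odd.mpr hm) (even_iff_two_dvd.mpr this)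
  obtain ⟨k, hk⟩ := hqd
  have hmpos : 0 < m := hm.pos
  have hordpos : 0 < orderOf (φ y) := Nat.pos_of_dvd_of_pos hord_dvd hmpos
  have hkpos : 0 < k := by
    rcases Nat.eq_zero_or_pos k with h | h
    · rw [h, mul_zero] at hk; omega
    · exact h
  obtain ⟨t, ht⟩ : ∃ t : MulAut U, t = φ (y ^ k) := ⟨_, rfl⟩
  have htq : t ^ q = 1 := by
    rw [ht, map_pow, ← pow_mul, mul_comm, ← hk, pow_orderOf_eq_one]
  have ht1 : t ≠ 1 := by
    intro h
    rw [ht, map_pow] at h
    have h3 : orderOf (φ y) ∣ k := orderOf_dvd_of_pow_eq_one h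
    rw [hk] at h3
    have h4 : q * k ≤ k := Nat.le_of_dvd hkpos h3
    have h5 := hq.two_le
    nlinarith
  have hconj_t : φ a * t * (φ a)⁻¹ = t⁻¹ := by
    rw [ht, ← map_inv, ← map_mul, ← map_mul, ← map_inv, ← inv_pow, ← hinv, conj_pow]
  have haa : φ a * φ a = 1 := by rw [← map_mul, ha, map_one]
  have hainv : (φ a)⁻¹ = φ a := inv_eq_of_mul_eq_one_right haa
  have hQ : IsPGroup q (Subgroup.zpowers t) :=
    isPGroup_zpowers_of_pow_eq_one t 1 (by rw [pow_one]; exact htq)
  have hconjQ : ∀ h ∈ Subgroup.zpowers t, φ a * h * (φ a)⁻¹ ∈ Subgroup.zpowers t := by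
    intro h hh
    obtain ⟨i, rfl⟩ := Subgroup.mem_zpowers_iff.mp hh
    rw [← conj_zpow, hconj_t]
    exact Subgroup.zpow_mem _ (Subgroup.inv_mem _ (Subgroup.mem_zpowers t)) i
  have hQn : φ a ∈ Subgroup.normalizer ((Subgroup.zpowers t : Subgroup (MulAut U)) : Set (MulAut U)) := by
    rw [Subgroup.mem_normalizer_iff]
    intro h
    refine ⟨hconjQ h, fun hh => ?_⟩
    have := hconjQ _ hh
    have e : φ a * (φ a * h * (φ a)⁻¹) * (φ a)⁻¹ = h := by
      rw [hainv]
      calc φ a * (φ a * h * φ a) * φ a = (φ a * φ a) * h * (φ a * φ a) := by group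
        _ = h := by rw [haa, one_mul, mul_one]
    rwa [e] at this
  have hne : φ a * t ≠ t * φ a := by
    intro h
    have h3 : φ a * t * (φ a)⁻¹ = t := by rw [h]; group
    rw [hconj_t] at h3
    have h4 : t ^ 2 = 1 := by
      rw [pow_two]
      calc t * t = t⁻¹ * t := by rw [h3]
        _ = 1 := inv_mul_cancel t
    have h5 : t ^ Nat.gcd q 2 = 1 := pow_gcd_eq_one.mpr ⟨htq, h4⟩
    have h6 : Nat.Coprime q 2 := (Nat.coprime_primes hq Nat.prime_two).mpr hq2
    rw [h6, pow_one] at h5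
    exact ht1 h5
  obtain ⟨-, -, h3, -, hne'⟩ := two_facts (MonoidHom.id (MulAut U)) (fun _ _ h => h) hq2 hU (φ a) b
    h1 h2 haa (Subgroup.zpowers t) hQ hQn t (Subgroup.mem_zpowers t) hne
  obtain ⟨e, he⟩ : ∃ e : MulAut U, e = t * φ a * t⁻¹ := ⟨_, rfl⟩
  rw [← he] at h3 hne'
  have hee : e * e = 1 := by
    rw [he]
    calc t * φ a * t⁻¹ * (t * φ a * t⁻¹) = t * (φ a * φ a) * t⁻¹ := by group
      _ = 1 := by rw [haa]; group
  have hnc : ¬ Commute (φ a) e := by
    intro hc
    have h4 : (φ a * e) ^ 2 = 1 := by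
      rw [hc.mul_pow, pow_two, pow_two, haa, hee, one_mul]
    have h5 : (φ a * e) ^ Nat.gcd 3 2 = 1 := pow_gcd_eq_one.mpr ⟨h3, h4⟩
    have h6 : Nat.gcd 3 2 = 1 := by norm_num
    rw [h6, pow_one] at h5
    apply hne'
    have : φ a = e⁻¹ := eq_inv_of_mul_eq_one_left h5
    rw [this]
    exact inv_eq_of_mul_eq_one_right hee
  obtain ⟨eqv⟩ := Cfsg.Agent.Lib.Helper11.closure_pair_equiv_perm_three haa hee h3 hnc
  set S := Subgroup.closure ({φ a, e} : Set (MulAut U)) with hS
  have hSr : S ≤ φ.range := by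
    rw [hS, Subgroup.closure_le]
    intro z hz
    rcases hz with rfl | hz
    · exact ⟨a, rfl⟩
    · rw [Set.mem_singleton_iff] at hz
      rw [hz, he, ht]
      exact ⟨y ^ k * a * (y ^ k)⁻¹, by simp⟩
  refine Cfsg.Agent.Lib.Helper90.involves_of_hom (S.comap φ).subtype
    (eqv.toMonoidHom.comp (φ.subgroupComap S)) Subtype.val_injective ?_
  intro σ
  obtain ⟨s, rfl⟩ := eqv.surjective σ
  obtain ⟨l, hl⟩ := hSr s.2
  refine ⟨⟨l, ?_⟩, ?_⟩
  · rw [Subgroup.mem_comap, hl]; exact s.2
  · show eqv _ = eqv s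
    congr 1
    exact Subtype.ext hl

open Cfsg.Agent.Lib.Helper52 in
/-- A subgroup of `C_K(B)` centralizing `C_V(B)` is trivial (Thompson's `A × B` lemma). -/
theorem eq_bot_of_le_centralizer_fixed {G : Type*} [Group G] [Finite G] {p : ℕ}
    [hp : Fact p.Prime] {V K A B Y : Subgroup G} (hS : FFSetup p V K) (hA : FFActs p V K A)
    (hBA : B ≤ A) (hLK : Y ≤ K) (hLB : Y ≤ Subgroup.centralizer (B : Set G))
    (hLU : Y ≤ Subgroup.centralizer ((V ⊓ Subgroup.centralizer (B : Set G) : Subgroup G) : Set G)) :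
    Y = ⊥ := by
  have hAB : A ≤ Subgroup.centralizer (B : Set G) := hA.le_centralizer hBA
  have hBB : B ≤ Subgroup.centralizer (B : Set G) := hBA.trans hAB
  have hQ : IsPGroup p ↥(V ⊔ B) :=
    IsPGroup.to_sup_of_normal_left' hS.hVp (hA.isPGroup.to_le hBA) (hBA.trans hA.hAV)
  have hcopL : ∀ x ∈ Y, (orderOf x).Coprime p := by
    intro x hx
    have h1 : orderOf x ∣ Nat.card K := by
      have := orderOf_dvd_natCard (⟨x, hLK hx⟩ : K)
      rwa [Subgroup.orderOf_mk] at this
    exact (Nat.Coprime.coprime_dvd_left h1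
      ((Nat.Prime.coprime_iff_not_dvd hp.out).mpr hS.hKp).symm)
  have hLQ : Y ≤ Subgroup.normalizer ((V ⊔ B : Subgroup G) : Set G) :=
    Cfsg.Agent.Lib.Helper28.le_normalizer_sup (hLK.trans hS.hKV)
      (hLB.trans (Subgroup.centralizer_le_normalizer _))
  have hLP : ⁅Y, B⁆ = ⊥ := (Subgroup.commutator_eq_bot_iff_le_centralizer).mpr hLB
  have hLC : ⁅Y, (V ⊔ B) ⊓ Subgroup.centralizer (B : Set G)⁆ = ⊥ := by
    rw [Subgroup.commutator_eq_bot_iff_le_centralizer]
    intro l hl
    rw [Subgroup.mem_centralizer_iff]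
    intro y hy
    have hy1 : y ∈ B ⊔ V := by rw [sup_comm]; exact hy.1
    obtain ⟨b, hb, v, hv, rfl⟩ :=
      Cfsg.Agent.Lib.Helper01.exists_mul_of_mem_sup (hBA.trans hA.hAV) hy1
    have hvC : v ∈ Subgroup.centralizer (B : Set G) := by
      have : v = b⁻¹ * (b * v) := by group
      rw [this]
      exact mul_mem (inv_mem (hBB hb)) hy.2
    have e1 : b * l = l * b := (Subgroup.mem_centralizer_iff.mp (hLB hl)) b hb
    have e2 : v * l = l * v := (Subgroup.mem_centralizer_iff.mp (hLU hl)) v ⟨hv, hvC⟩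
    calc b * v * l = b * (v * l) := by group
      _ = b * (l * v) := by rw [e2]
      _ = (b * l) * v := by group
      _ = l * b * v := by rw [e1]
      _ = l * (b * v) := by group
  have hmain := Cfsg.Agent.Lib.Helper28.pClosing_centralizes_pgroup (p := p) Y (V ⊔ B) B hQ
    (Cfsg.Agent.Lib.Helper28.pClosing_of_coprime p hcopL) hLQ le_sup_right hLP hLC
  rw [Subgroup.commutator_eq_bot_iff_le_centralizer] at hmain
  have : Y ≤ K ⊓ Subgroup.centralizer (V : Set G) :=
    le_inf hLK (hmain.trans (Subgroup.centralizer_le (by exact_mod_cast (le_sup_left : V ≤ V ⊔ B))))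
  rw [hS.hKf] at this
  exact le_bot_iff.mp this

end Cfsg.Agent.Lib.Helper67
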