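import Mathlib
import Cfsg.Prelude.Def_JordanBlocks
import Cfsg.Agent.Lib.Helper73.SPCDefs
import Cfsg.Agent.Lib.Helper49.JordanBasis

set_option autoImplicit false

/-!
# K-SPC leaf D2 (keystone 267627): existence of the Jordan type of a unipotent matrix
-/

namespace Cfsg.Agent.Lib.Helper67.SPC

open Matrix Module Cfsg.Agent.Lib.Helper73.UC Cfsg.Agent.Lib.Helper73.SPC

variable {F : Type*} [Field F]

theorem d2_jordanTypeMatrix_apply {t : ℕ} (d : Fin t → ℕ) (x y : (k : Fin t) × Fin (d k)) :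
    Cfsg.jordanTypeMatrix d F x y = if h : x.1 = y.1 then
      Cfsg.jordanBlock (d x.1) F x.2 (Fin.cast (by rw [h]) y.2) else 0 := by
  obtain ⟨k, i⟩ := x
  obtain ⟨l, j⟩ := y
  unfold Cfsg.jordanTypeMatrix
  by_cases h : k = l
  · subst h
    rw [dif_pos rfl]
    exact Matrix.blockDiagonal'_apply_eq _ _ _ _
  · rw [dif_neg h]
    exact Matrix.blockDiagonal'_apply_ne _ _ _ h

theorem d2_toLin'_eq {n : ℕ} (A' : Matrix (Fin n) (Fin n) F) (v : Fin n → F) :
    Matrix.toLin' A' v = v + Matrix.toLin' (A' - 1) v := by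
  rw [map_sub, Matrix.toLin'_one, LinearMap.sub_apply, LinearMap.id_apply]
  abel

/-- the matrix of a unipotent map in a Jordan basis of its nilpotent part -/
theorem d2_toMatrix_eq {n t : ℕ} (A' : Matrix (Fin n) (Fin n) F) (d : Fin t → ℕ)
    (b : Basis ((k : Fin t) × Fin (d k)) F (Fin n → F))
    (hb : Cfsg.Agent.Lib.Helper49.IsJordanBasis (Matrix.toLin' (A' - 1)) d b) :
    LinearMap.toMatrix b b (Matrix.toLin' A') = Cfsg.jordanTypeMatrix d F := by
  ext y x
  rw [LinearMap.toMatrix_apply, d2_toLin'_eq, hb x.1 x.2, d2_jordanTypeMatrix_apply]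
  obtain ⟨k', j⟩ := x
  obtain ⟨k, i⟩ := y
  by_cases hk : k = k'
  · subst hk
    rw [dif_pos rfl]
    simp only [Fin.cast_eq_self]
    unfold Cfsg.jordanBlock
    rw [Matrix.of_apply]
    by_cases h : (j : ℕ) + 1 < d k
    · rw [dif_pos h, map_add, Finsupp.add_apply, Basis.repr_self, Basis.repr_self,
        Finsupp.single_apply, Finsupp.single_apply]
      by_cases h1 : (i : ℕ) = (j : ℕ)
      · have e1 : (⟨k, j⟩ : (k : Fin t) × Fin (d k)) = ⟨k, i⟩ := by
          rw [Fin.ext h1]
        have e2 : ¬ ((⟨k, ⟨(j : ℕ) + 1, h⟩⟩ : (k : Fin t) × Fin (d k)) = ⟨k, i⟩) := by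
          intro hh
          have := congrArg (fun z : (k : Fin t) × Fin (d k) => (z.2 : ℕ)) hh
          simp only at this
          omega
        rw [if_pos e1, if_neg e2, if_pos h1, add_zero]
      · have e1 : ¬ ((⟨k, j⟩ : (k : Fin t) × Fin (d k)) = ⟨k, i⟩) := by
          intro hh
          have := congrArg (fun z : (k : Fin t) × Fin (d k) => (z.2 : ℕ)) hh
          simp only at this
          omega
        rw [if_neg e1, if_neg h1, zero_add]
        by_cases h2 : (i : ℕ) = (j : ℕ) + 1
        · have e2 : (⟨k, ⟨(j : ℕ) + 1, h⟩⟩ : (k : Fin t) × Fin (d k)) = ⟨k, i⟩ := by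
            have : (⟨(j : ℕ) + 1, h⟩ : Fin (d k)) = i := Fin.ext h2.symm
            rw [this]
          rw [if_pos e2, if_pos h2]
        · have e2 : ¬ ((⟨k, ⟨(j : ℕ) + 1, h⟩⟩ : (k : Fin t) × Fin (d k)) = ⟨k, i⟩) := by
            intro hh
            have := congrArg (fun z : (k : Fin t) × Fin (d k) => (z.2 : ℕ)) hh
            simp only at this
            omega
          rw [if_neg e2, if_neg h2]
    · rw [dif_neg h, add_zero, Basis.repr_self, Finsupp.single_apply]
      by_cases h1 : (i : ℕ) = (j : ℕ)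
      · have e1 : (⟨k, j⟩ : (k : Fin t) × Fin (d k)) = ⟨k, i⟩ := by
          rw [Fin.ext h1]
        rw [if_pos e1, if_pos h1]
      · have e1 : ¬ ((⟨k, j⟩ : (k : Fin t) × Fin (d k)) = ⟨k, i⟩) := by
          intro hh
          have := congrArg (fun z : (k : Fin t) × Fin (d k) => (z.2 : ℕ)) hh
          simp only at this
          omega
        have h2 : ¬ ((i : ℕ) = (j : ℕ) + 1) := by
          have := i.2
          omega
        rw [if_neg e1, if_neg h1, if_neg h2]
  · rw [dif_neg hk]
    have e1 : ∀ j' : Fin (d k'), ¬ ((⟨k', j'⟩ : (k : Fin t) × Fin (d k)) = ⟨k, i⟩) := by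
      intro j' hh
      exact hk (congrArg Sigma.fst hh).symm
    by_cases h : (j : ℕ) + 1 < d k'
    · rw [dif_pos h, map_add, Finsupp.add_apply, Basis.repr_self, Basis.repr_self,
        Finsupp.single_apply, Finsupp.single_apply, if_neg (e1 _), if_neg (e1 _), add_zero]
    · rw [dif_neg h, add_zero, Basis.repr_self, Finsupp.single_apply, if_neg (e1 _)]

/-- LEAF D2 (existence of the Jordan type). -/
theorem exists_matHasType {ι : Type*} [Fintype ι] [DecidableEq ι] {n : ℕ}
    (hn : Fintype.card ι = n) (A : Matrix ι ι F) (r : ℕ) (hA : (A - 1) ^ r = 0) :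
    ∃ μ : Nat.Partition n, MatHasType A μ := by
  classical
  let e0 : ι ≃ Fin n := Fintype.equivFinOfCardEq hn
  let A' : Matrix (Fin n) (Fin n) F := Matrix.reindex e0 e0 A
  have hA' : (A' - 1) ^ r = 0 := by
    have h1 : A' - 1 = Matrix.reindexAlgEquiv F F e0 (A - 1) := by
      rw [map_sub, map_one, Matrix.coe_reindexAlgEquiv]
    rw [h1, ← map_pow, hA, map_zero]
  have hN : (Matrix.toLin' (A' - 1)) ^ r = 0 := by
    rw [← Matrix.toLin'_pow, hA', map_zero]
  obtain ⟨t, d, b, hd, hb⟩ :=
    Cfsg.Agent.Lib.Helper49.exists_jordan_basis (Matrix.toLin' (A' - 1)) r hN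
  have hsum : ∑ k, d k = n := by
    have h1 := Module.finrank_eq_card_basis b
    rw [Module.finrank_fintype_fun_eq_card, Fintype.card_fin, Fintype.card_sigma] at h1
    simp only [Fintype.card_fin] at h1
    exact h1.symm
  have hcard : Fintype.card ((k : Fin t) × Fin (d k)) = Fintype.card ι := by
    rw [Fintype.card_sigma, hn]
    simp only [Fintype.card_fin]
    exact hsum
  let e : ((k : Fin t) × Fin (d k)) ≃ ι := Fintype.equivOfCardEq hcard
  let std : Basis (Fin n) F (Fin n → F) := Pi.basisFun F (Fin n)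
  let P0 : Matrix (Fin n) ((k : Fin t) × Fin (d k)) F := std.toMatrix b
  let Q0 : Matrix ((k : Fin t) × Fin (d k)) (Fin n) F := b.toMatrix std
  have hPQ : P0 * Q0 = 1 := Basis.toMatrix_mul_toMatrix_flip std b
  have hQP : Q0 * P0 = 1 := Basis.toMatrix_mul_toMatrix_flip b std
  have hkey : A' * P0 = P0 * Cfsg.jordanTypeMatrix d F := by
    have h1 : LinearMap.toMatrix std std (Matrix.toLin' A') = A' := by
      rw [LinearMap.toMatrix_eq_toMatrix', LinearMap.toMatrix'_toLin']
    calc A' * P0 = LinearMap.toMatrix std std (Matrix.toLin' A') * std.toMatrix b := by rw [h1]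
      _ = LinearMap.toMatrix b std (Matrix.toLin' A') :=
          linearMap_toMatrix_mul_basis_toMatrix b std std (Matrix.toLin' A')
      _ = std.toMatrix b * LinearMap.toMatrix b b (Matrix.toLin' A') :=
          (basis_toMatrix_mul_linearMap_toMatrix b std b (Matrix.toLin' A')).symm
      _ = P0 * Cfsg.jordanTypeMatrix d F := by rw [d2_toMatrix_eq A' d b hb]
  let c : Matrix ι ι F := P0.submatrix e0 e.symm
  let cinv : Matrix ι ι F := Q0.submatrix e.symm e0
  have h1 : c * cinv = 1 := by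
    show P0.submatrix e0 e.symm * Q0.submatrix e.symm e0 = 1
    rw [Matrix.submatrix_mul_equiv, hPQ, Matrix.submatrix_one_equiv]
  have h2 : cinv * c = 1 := by
    show Q0.submatrix e.symm e0 * P0.submatrix e0 e.symm = 1
    rw [Matrix.submatrix_mul_equiv, hQP, Matrix.submatrix_one_equiv]
  have hAA' : A = A'.submatrix e0 e0 := by
    ext i j
    simp [A']
  refine ⟨⟨Multiset.map d Finset.univ.val, ?_, ?_⟩, t, d, e, hd, rfl, ⟨c, cinv, h1, h2⟩, ?_⟩
  · intro i hi
    obtain ⟨k, _, rfl⟩ := Multiset.mem_map.mp hi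
    exact hd k
  · exact hsum
  · show c * Matrix.reindex e e (Cfsg.jordanTypeMatrix d F) = A * c
    rw [Matrix.reindex_apply]
    show P0.submatrix e0 e.symm * (Cfsg.jordanTypeMatrix d F).submatrix e.symm e.symm =
      A * P0.submatrix e0 e.symm
    rw [Matrix.submatrix_mul_equiv, ← hkey]
    conv_rhs => rw [hAA']
    rw [Matrix.submatrix_mul_equiv]

end Cfsg.Agent.Lib.Helper67.SPC
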