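import Mathlib
import Cfsg.Prelude.Def_SolvableStructure
import Cfsg.Agent.Lib.Helper12.Supersolvable
import Cfsg.Agent.Lib.Helper12.SupersolvablePrime
import Cfsg.Agent.Lib.Helper16.FixedVector

/-!
# K-S3033-D1: a non-scalar element of prime power order that is normalized up to scalars
-/

set_option autoImplicit false
set_option linter.style.haveILetI false
set_option linter.unusedSectionVars false

namespace Cfsg.Agent.Lib.Helper67.SS33

open Cfsg

universe u

/-- among the elements of `B` outside the subgroup `Z`, one of minimal order has prime power order -/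
theorem exists_prime_pow_not_mem {Γ : Type*} [Group Γ] [Finite Γ] (B Z : Subgroup Γ)
    (h : ∃ b ∈ B, b ∉ Z) : ∃ b ∈ B, b ∉ Z ∧ ∃ (p a : ℕ), p.Prime ∧ orderOf b = p ^ a := by
  classical
  have hS : ∃ n, ∃ b ∈ B, b ∉ Z ∧ orderOf b = n := by
    obtain ⟨b, hb, hbZ⟩ := h
    exact ⟨orderOf b, b, hb, hbZ, rfl⟩
  obtain ⟨b, hb, hbZ, hbn⟩ := Nat.find_spec hS
  have hmin : ∀ b' ∈ B, b' ∉ Z → orderOf b ≤ orderOf b' := by
    intro b' hb' hb'Z
    rw [hbn]
    exact Nat.find_min' hS ⟨b', hb', hb'Z, rfl⟩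
  refine ⟨b, hb, hbZ, ?_⟩
  have hpos : 0 < orderOf b := orderOf_pos b
  have hne1 : orderOf b ≠ 1 := by
    intro h1
    rw [orderOf_eq_one_iff] at h1
    exact hbZ (h1 ▸ Z.one_mem)
  have hpp : (orderOf b).minFac.Prime := Nat.minFac_prime hne1
  obtain ⟨e, m, hpm, hem⟩ :=
    Nat.exists_eq_pow_mul_and_not_dvd hpos.ne' (orderOf b).minFac hpp.ne_one
  generalize hp : (orderOf b).minFac = p at hpp hpm hem
  refine ⟨p, e, hpp, ?_⟩
  by_contra hne
  have hm1 : m ≠ 1 := by rintro rfl; exact hne (by rw [hem, mul_one])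
  have hm0 : m ≠ 0 := by rintro rfl; rw [mul_zero] at hem; omega
  have he0 : e ≠ 0 := by
    rintro rfl
    rw [pow_zero, one_mul] at hem
    apply hpm
    rw [← hem, ← hp]
    exact Nat.minFac_dvd _
  have hpe : 2 ≤ p ^ e := Nat.one_lt_pow he0 hpp.one_lt
  have hm2 : 2 ≤ m := by omega
  have h1 : b ^ (p ^ e) ∈ Z := by
    by_contra hnot
    have h3 := hmin _ (B.pow_mem hb _) hnot
    have hle : orderOf (b ^ (p ^ e)) ≤ m :=
      orderOf_le_of_pow_eq_one (Nat.pos_of_ne_zero hm0) (by rw [← pow_mul, ← hem, pow_orderOf_eq_one])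
    nlinarith
  have h2 : b ^ m ∈ Z := by
    by_contra hnot
    have h3 := hmin _ (B.pow_mem hb _) hnot
    have hle : orderOf (b ^ m) ≤ p ^ e :=
      orderOf_le_of_pow_eq_one (by omega) (by rw [← pow_mul, mul_comm, ← hem, pow_orderOf_eq_one])
    nlinarith
  have hcop : Nat.Coprime (p ^ e) m :=
    Nat.Coprime.pow_left e ((Nat.Prime.coprime_iff_not_dvd hpp).2 hpm)
  have key : (1 : ℤ) = ((p ^ e : ℕ) : ℤ) * Nat.gcdA (p ^ e) m + (m : ℤ) * Nat.gcdB (p ^ e) m := by
    have := Nat.gcd_eq_gcd_ab (p ^ e) m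
    rw [hcop.gcd_eq_one] at this
    exact_mod_cast this
  have hb' : b = (b ^ (p ^ e)) ^ (Nat.gcdA (p ^ e) m) * (b ^ m) ^ (Nat.gcdB (p ^ e) m) := by
    rw [← zpow_natCast b (p ^ e), ← zpow_natCast b m, ← zpow_mul, ← zpow_mul, ← zpow_add, ← key,
      zpow_one]
  apply hbZ
  rw [hb']
  exact Z.mul_mem (Z.zpow_mem h1 _) (Z.zpow_mem h2 _)

/-- iterating an eigenvector equation -/
theorem pow_apply_of_eigen {q : ℕ} {V : Type*} [AddCommGroup V] [Module (ZMod q) V]
    (f : Module.End (ZMod q) V) (c : ZMod q) (w : V) (h : f w = c • w) (n : ℕ) :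
    (f ^ n) w = c ^ n • w := by
  induction n with
  | zero => simp
  | succ n ih =>
    rw [pow_succ, Module.End.mul_apply, h, map_smul, ih, smul_smul, pow_succ, mul_comm]

theorem exists_nonscalar {q : ℕ} [Fact q.Prime] {Γ : Type u} [Group Γ] [Finite Γ] {V : Type u}
    [AddCommGroup V] [Module (ZMod q) V] [Finite V] (ρ : Representation (ZMod q) Γ V)
    (hinj : Function.Injective ρ) (hsup : IsSupersolvable Γ)
    (hirr : ∀ W : Submodule (ZMod q) V, (∀ g : Γ, ∀ w ∈ W, ρ g w ∈ W) → W = ⊥ ∨ W = ⊤)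
    (hns : ¬ ∀ g : Γ, ∃ c : ZMod q, ∀ v : V, ρ g v = c • v) :
    ∃ (b : Γ) (p a : ℕ), p.Prime ∧ p ≠ q ∧ orderOf b = p ^ a ∧
      (¬ ∃ c : ZMod q, ∀ v : V, ρ b v = c • v) ∧
      ∀ g : Γ, ∃ (μ : ZMod q) (k : ℕ), ∀ v : V, ρ (g * b * g⁻¹) v = μ • (ρ b ^ k) v := by
  classical
  haveI : Nontrivial V := by
    by_contra hV
    rw [not_nontrivial_iff_subsingleton] at hV
    exact hns (fun g => ⟨0, fun v => Subsingleton.elim _ _⟩)
  have hcancel : ∀ (a : Γ) (v : V), ρ a (ρ a⁻¹ v) = v := by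
    intro a v
    rw [← Module.End.mul_apply, ← map_mul, mul_inv_cancel, map_one, Module.End.one_apply]
  -- the scalar subgroup
  let Z : Subgroup Γ :=
    { carrier := {g | ∃ c : ZMod q, ∀ v : V, ρ g v = c • v}
      one_mem' := ⟨1, fun v => by rw [map_one, Module.End.one_apply, one_smul]⟩
      mul_mem' := by
        rintro a b ⟨c, hc⟩ ⟨d, hd⟩
        exact ⟨d * c, fun v => by
          rw [map_mul, Module.End.mul_apply, hd, map_smul, hc, smul_smul]⟩
      inv_mem' := by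
        rintro a ⟨c, hc⟩
        refine ⟨c⁻¹, fun v => ?_⟩
        have hc0 : c ≠ 0 := by
          rintro rfl
          obtain ⟨v0, hv0⟩ := exists_ne (0 : V)
          apply hv0
          rw [← hcancel a v0, hc, zero_smul]
        have h1 : c • ρ a⁻¹ v = v := by rw [← hc, hcancel]
        rw [← h1, smul_smul, inv_mul_cancel₀ hc0, one_smul, h1] }
  have hZmem : ∀ g : Γ, g ∈ Z ↔ ∃ c : ZMod q, ∀ v : V, ρ g v = c • v := fun g => Iff.rfl
  haveI hZn : Z.Normal := ⟨by
    rintro z ⟨c, hc⟩ g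
    refine ⟨c, fun v => ?_⟩
    rw [map_mul, map_mul, Module.End.mul_apply, Module.End.mul_apply, hc, map_smul, hcancel]⟩
  have hZtop : Z ≠ ⊤ := fun h => hns (fun g => (hZmem g).1 (h ▸ Subgroup.mem_top g))
  haveI : Nontrivial (Γ ⧸ Z) := by
    rw [← Finite.one_lt_card_iff_nontrivial, ← Subgroup.index_eq_card]
    exact Subgroup.one_lt_index_of_ne_top hZtop
  have hsupQ : IsSupersolvable (Γ ⧸ Z) := Cfsg.Agent.Lib.Helper12.isSupersolvable_quotient Z hsup
  obtain ⟨Nb, hNbn, hNbp⟩ := Cfsg.Agent.Lib.Helper12.exists_normal_prime_card hsupQ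
  haveI : Fact (Nat.card Nb).Prime := ⟨hNbp⟩
  set B : Subgroup Γ := Nb.comap (QuotientGroup.mk' Z) with hB
  haveI hBn : B.Normal := hNbn.comap _
  have hBmem : ∀ g : Γ, g ∈ B ↔ (QuotientGroup.mk g : Γ ⧸ Z) ∈ Nb := fun g => Iff.rfl
  -- an element of B outside Z
  have hex : ∃ b ∈ B, b ∉ Z := by
    haveI : Nontrivial Nb := by
      rw [← Finite.one_lt_card_iff_nontrivial]
      exact hNbp.one_lt
    obtain ⟨x, hx⟩ := exists_ne (1 : Nb)
    obtain ⟨b0, hb0⟩ := QuotientGroup.mk_surjective (x : Γ ⧸ Z)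
    refine ⟨b0, ?_, ?_⟩
    · rw [hBmem, hb0]; exact x.2
    · intro hb0Z
      apply hx
      apply Subtype.ext
      rw [← hb0]
      exact (QuotientGroup.eq_one_iff b0).2 hb0Z
  -- generation
  have hgen : ∀ b ∈ B, b ∉ Z → ∀ u ∈ B, ∃ (j : ℕ) (z : Γ), z ∈ Z ∧ u = b ^ j * z := by
    intro b hb hbZ u hu
    have hβ : (⟨QuotientGroup.mk b, hb⟩ : Nb) ≠ 1 := by
      intro h1
      apply hbZ
      have := congrArg Subtype.val h1
      exact (QuotientGroup.eq_one_iff b).1 this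
    have htop := zpowers_eq_top_of_prime_card (G := Nb) rfl hβ
    have hmem : (⟨QuotientGroup.mk u, hu⟩ : Nb) ∈ Subgroup.zpowers (⟨QuotientGroup.mk b, hb⟩ : Nb) := by
      rw [htop]; exact Subgroup.mem_top _
    rw [← mem_powers_iff_mem_zpowers] at hmem
    obtain ⟨j, hj⟩ := hmem
    refine ⟨j, (b ^ j)⁻¹ * u, ?_, by group⟩
    have hj' := congrArg Subtype.val hj
    simp only [SubmonoidClass.coe_pow] at hj'
    rw [← QuotientGroup.mk_pow] at hj'
    exact (QuotientGroup.eq).1 hj'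
  obtain ⟨b, hb, hbZ, p, a, hp, hba⟩ := exists_prime_pow_not_mem B Z hex
  have hconj : ∀ g : Γ, ∃ (μ : ZMod q) (k : ℕ), ∀ v : V, ρ (g * b * g⁻¹) v = μ • (ρ b ^ k) v := by
    intro g
    obtain ⟨j, z, ⟨c, hc⟩, hu⟩ := hgen b hb hbZ (g * b * g⁻¹) (hBn.conj_mem b hb g)
    refine ⟨c, j, fun v => ?_⟩
    rw [hu, map_mul, Module.End.mul_apply, hc, map_smul, map_pow]
  refine ⟨b, p, a, hp, ?_, hba, hbZ, hconj⟩
  -- the prime is not q
  rintro rfl
  apply hbZ
  -- fixed space of b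
  set W : Submodule (ZMod p) V := LinearMap.eqLocus (ρ b) LinearMap.id with hW
  have hWmem : ∀ v, v ∈ W ↔ ρ b v = v := fun v => by
    rw [hW, LinearMap.mem_eqLocus, LinearMap.id_apply]
  have hWinv : ∀ g : Γ, ∀ w ∈ W, ρ g w ∈ W := by
    intro g v hv
    rw [hWmem] at hv ⊢
    obtain ⟨c, k, hck⟩ := hconj g⁻¹
    rw [inv_inv] at hck
    have hfix : ∀ n : ℕ, (ρ b ^ n) v = v := by
      intro n
      induction n with
      | zero => simp
      | succ n ih => rw [pow_succ, Module.End.mul_apply, hv, ih]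
    have h1 : ρ b (ρ g v) = c • ρ g v := by
      have : b * g = g * (g⁻¹ * b * g) := by group
      rw [← Module.End.mul_apply, ← map_mul, this, map_mul, Module.End.mul_apply, hck, hfix,
        map_smul]
    have h2 := pow_apply_of_eigen (ρ b) c (ρ g v) h1 (p ^ a)
    rw [ZMod.pow_card_pow] at h2
    have h3 : (ρ b ^ (p ^ a)) (ρ g v) = ρ g v := by
      rw [← map_pow, ← hba, pow_orderOf_eq_one, map_one, Module.End.one_apply]
    rw [h3] at h2
    rw [h1, ← h2]
  rcases hirr W hWinv with hW0 | hW1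
  · exfalso
    have hP : IsPGroup p (Subgroup.zpowers b) := by
      apply IsPGroup.of_card (n := a)
      rw [Nat.card_zpowers, hba]
    obtain ⟨v, -, hv0, hv⟩ := Cfsg.Agent.Lib.Helper16.exists_fixed_vector hP
      (ρ.comp (Subgroup.zpowers b).subtype) ⊤ (fun _ _ _ => Submodule.mem_top)
      (by exact top_ne_bot)
    have hvW : v ∈ W := (hWmem v).2 (hv ⟨b, Subgroup.mem_zpowers b⟩)
    rw [hW0, Submodule.mem_bot] at hvW
    exact hv0 hvW
  · refine ⟨1, fun v => ?_⟩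
    rw [one_smul]
    exact (hWmem v).1 (hW1 ▸ Submodule.mem_top)

end Cfsg.Agent.Lib.Helper67.SS33
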