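import Mathlib
import Cfsg.Prelude.Def_GeometricClasses
import Cfsg.Agent.Lib.Helper73.SU6Defs

/-!
# K-SU6-F2: over the field with four elements, monomial matrices of determinant one preserve the root set of `F^6`
-/

set_option autoImplicit false
set_option linter.unusedSectionVars false
set_option linter.unusedVariables false

namespace Cfsg.Agent.Lib.Helper67.SU6K

open Cfsg Cfsg.Geo Cfsg.Agent.Lib.Helper73.SU6
open scoped Matrix MatrixGroups

variable {F : Type*} [Field F] [Fintype F]

theorem two_eq_zero_of_card_four (hF : Fintype.card F = 4) : (2 : F) = 0 := by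
  have hchar : ringChar F = 2 := FiniteField.even_card_iff_char_two.mpr (by rw [hF])
  have hcp : CharP F 2 := by rw [← hchar]; exact ringChar.charP F
  have := CharP.cast_eq_zero F 2
  exact_mod_cast this

/-- monomial description of the elements of the stabiliser of the standard frame -/
theorem monomial_of_mem_stab {n : ℕ} (g : GL (Fin n) F)
    (hg : g ∈ decompositionStabilizer (stdFrame F n)) :
    ∃ (σ : Equiv.Perm (Fin n)) (c : Fin n → F), (∀ i, c i ≠ 0) ∧
      ∀ j i, (g : Matrix (Fin n) (Fin n) F) j i = if j = σ i then c i else 0 := by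
  obtain ⟨σ, hσ⟩ := hg
  have h1 : ∀ i, ∃ a : F, a • (Pi.single (σ i) 1 : Fin n → F) =
      (g : Matrix (Fin n) (Fin n) F) *ᵥ Pi.single i 1 := by
    intro i
    have hmem : (g : Matrix (Fin n) (Fin n) F) *ᵥ Pi.single i 1 ∈ stdFrame F n (σ i) := by
      rw [← hσ i]
      exact ⟨Pi.single i 1, Submodule.mem_span_singleton_self _, by rw [Matrix.toLin'_apply]⟩
    exact Submodule.mem_span_singleton.1 hmem
  choose c hc using h1
  have hginj : ∀ v : Fin n → F, (g : Matrix (Fin n) (Fin n) F) *ᵥ v = 0 → v = 0 := by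
    intro v hv
    calc v = ((g⁻¹ : GL (Fin n) F) : Matrix (Fin n) (Fin n) F) *ᵥ
          ((g : Matrix (Fin n) (Fin n) F) *ᵥ v) := by
          rw [Matrix.mulVec_mulVec, ← Units.val_mul, inv_mul_cancel, Units.val_one,
            Matrix.one_mulVec]
      _ = 0 := by rw [hv, Matrix.mulVec_zero]
  refine ⟨σ, c, ?_, ?_⟩
  · intro i hci
    have h0 := hc i
    rw [hci, zero_smul] at h0
    have h2 := hginj _ h0.symm
    have h3 := congrFun h2 i
    rw [Pi.single_eq_same, Pi.zero_apply] at h3
    exact one_ne_zero h3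
  · intro j i
    have h0 := congrFun (hc i) j
    rw [Matrix.mulVec_single_one, Matrix.col_apply] at h0
    rw [← h0, Pi.smul_apply, Pi.single_apply, smul_eq_mul]
    split_ifs <;> simp

/-- the action of a monomial matrix -/
theorem monomial_mulVec {n : ℕ} (M : Matrix (Fin n) (Fin n) F) (σ : Equiv.Perm (Fin n))
    (c : Fin n → F) (hM : ∀ j i, M j i = if j = σ i then c i else 0) (x : Fin n → F) (i : Fin n) :
    (M *ᵥ x) (σ i) = c i * x i := by
  rw [Matrix.mulVec, dotProduct, Finset.sum_eq_single i]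
  · rw [hM, if_pos rfl]
  · intro k _ hki
    rw [hM, if_neg (fun h => hki (σ.injective h).symm), zero_mul]
  · intro h
    exact absurd (Finset.mem_univ i) h

/-- the determinant of a monomial matrix in characteristic two -/
theorem monomial_det (h2 : (2 : F) = 0) {n : ℕ} (M : Matrix (Fin n) (Fin n) F)
    (σ : Equiv.Perm (Fin n)) (c : Fin n → F) (hM : ∀ j i, M j i = if j = σ i then c i else 0) :
    M.det = ∏ i, c i := by
  have hneg : (-1 : F) = 1 := by
    have : (1 : F) + 1 = 0 := by rw [one_add_one_eq_two, h2]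
    exact neg_eq_of_add_eq_zero_left this
  rw [Matrix.det_apply', Finset.sum_eq_single σ]
  · have h1 : ∏ i, M (σ i) i = ∏ i, c i := by
      apply Finset.prod_congr rfl
      intro i _
      rw [hM, if_pos rfl]
    rw [h1]
    rcases Int.units_eq_one_or (Equiv.Perm.sign σ) with h | h
    · rw [h]; simp
    · rw [h]; simp [hneg]
  · intro τ _ hτ
    obtain ⟨i, hi⟩ : ∃ i, τ i ≠ σ i := by
      by_contra h
      push Not at h
      exact hτ (Equiv.ext h)
    rw [Finset.prod_eq_zero (Finset.mem_univ i) (by rw [hM, if_neg hi]), mul_zero]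
  · intro h
    exact absurd (Finset.mem_univ σ) h

/-- **K-SU6-F2** -/
theorem stdFrame_stab_le_rootStab (hF : Fintype.card F = 4) :
    decompositionStabilizer (stdFrame F 6) ⊓ specialLinear (Fin 6) F ≤ rootStab F := by
  rintro g ⟨hgD, hgS⟩
  have h2 : (2 : F) = 0 := two_eq_zero_of_card_four hF
  obtain ⟨σ, c, hc0, hM⟩ := monomial_of_mem_stab g hgD
  have hdet : (g : Matrix (Fin 6) (Fin 6) F).det = 1 := by
    have h1 : Matrix.GeneralLinearGroup.det g = 1 := hgS
    have h3 := congrArg (fun u : Fˣ => (u : F)) h1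
    simpa using h3
  have hprodc : ∏ i, c i = 1 := by
    rw [← monomial_det h2 _ σ c hM, hdet]
  rw [mem_rootStab_iff]
  intro x
  have hact : ∀ i, ((g : Matrix (Fin 6) (Fin 6) F) *ᵥ x) (σ i) = c i * x i :=
    monomial_mulVec _ σ c hM x
  have key : ∀ i, ((g : Matrix (Fin 6) (Fin 6) F) *ᵥ x) (σ i) ≠ 0 ↔ x i ≠ 0 := by
    intro i
    rw [hact, mul_ne_zero_iff]
    exact ⟨fun h => h.2, fun h => ⟨hc0 i, h⟩⟩
  have hset : {j : Fin 6 | ((g : Matrix (Fin 6) (Fin 6) F) *ᵥ x) j ≠ 0} =
      σ '' {i : Fin 6 | x i ≠ 0} := by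
    ext j
    constructor
    · intro hj
      refine ⟨σ.symm j, ?_, σ.apply_symm_apply j⟩
      show x (σ.symm j) ≠ 0
      rw [← key, σ.apply_symm_apply]
      exact hj
    · rintro ⟨i, hi, rfl⟩
      exact (key i).2 hi
  have hall : (∀ j, ((g : Matrix (Fin 6) (Fin 6) F) *ᵥ x) j ≠ 0) ↔ ∀ i, x i ≠ 0 := by
    constructor
    · intro h i
      exact (key i).1 (h (σ i))
    · intro h j
      have := (key (σ.symm j)).2 (h _)
      rwa [σ.apply_symm_apply] at this
  have hprod : ∏ j, ((g : Matrix (Fin 6) (Fin 6) F) *ᵥ x) j = ∏ i, x i := by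
    rw [← Equiv.prod_comp σ (fun j => ((g : Matrix (Fin 6) (Fin 6) F) *ᵥ x) j)]
    simp only [hact]
    rw [Finset.prod_mul_distrib, hprodc, one_mul]
  unfold IsRoot
  rw [hset, Set.ncard_image_of_injective _ σ.injective, hall, hprod]

end Cfsg.Agent.Lib.Helper67.SU6K
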