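import Mathlib
import Cfsg.Agent.Lib.Helper23.SylowPerm

/-!
# K-S0496-T4: `n_p = 2p + 1` with `|C_G(P)|` even is impossible in a simple group (`p` odd)
-/

set_option autoImplicit false
set_option linter.style.haveILetI false
set_option linter.unusedSectionVars false

namespace Cfsg.Agent.Lib.Helper67.Small1092

open Subgroup MulAction

set_option linter.unusedVariables false in
theorem false_of_card_sylow_eq_two_mul_add_one {G : Type*} [Group G] [Finite G] [IsSimpleGroup G]
    (hG : ¬ IsMulCommutative G) (p m : ℕ) [Fact p.Prime] (hp2 : p ≠ 2) (h : Nat.card G = p * m) (hm : ¬ p ∣ m)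
    (hd : Nat.card (Sylow p G) = 2 * p + 1) (P : Sylow p G)
    (hC : Even (Nat.card (centralizer ((P : Subgroup G) : Set G)))) : False := by
  have hp := (Fact.out : p.Prime)
  have hodd : p % 2 = 1 := by
    rcases hp.eq_two_or_odd with h2 | h2
    · exact absurd h2 hp2
    · exact h2
  have hp3 : 3 ≤ p := by
    have := hp.two_le
    omega
  -- an involution in the centralizer
  haveI : Fact (Nat.Prime 2) := ⟨Nat.prime_two⟩
  obtain ⟨t, ht⟩ := exists_prime_orderOf_dvd_card' (G := centralizer ((P : Subgroup G) : Set G)) 2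
    (even_iff_two_dvd.1 hC)
  have hu2 : (t : G) ^ 2 = 1 := by
    have h1 : t ^ 2 = 1 := by rw [← ht]; exact pow_orderOf_eq_one t
    have h2 := congrArg Subtype.val h1
    simpa using h2
  have hu1 : (t : G) ≠ 1 := by
    intro h1
    have h2 : t = 1 := Subtype.ext h1
    rw [h2, orderOf_one] at ht
    norm_num at ht
  -- |G| > 2
  have hcard : 2 < Nat.card G := by
    have h1 : Nat.card (Sylow p G) ∣ Nat.card G := by
      rw [Sylow.card_eq_index_normalizer P]
      exact Subgroup.index_dvd_card _
    have h2 := Nat.le_of_dvd Nat.card_pos h1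
    omega
  have hne : Nat.card (Sylow p G) ≠ 1 := by omega
  obtain ⟨s, hs⟩ := Cfsg.Agent.Lib.Helper23.SylowPerm.card_fixedBy_involution p hcard (t : G) hu2
  have hmod := Cfsg.Agent.Lib.Helper23.SylowPerm.card_fixedBy_modEq_one p P (t : G) t.2
  have hlt := Cfsg.Agent.Lib.Helper23.SylowPerm.card_fixedBy_lt p hne (t : G) hu1
  set f := Nat.card (fixedBy (Sylow p G) (t : G)) with hf
  rw [hd] at hs hlt
  have hfp : f % p = 1 := by
    have h1 : f % p = 1 % p := hmod
    rwa [Nat.mod_eq_of_lt (by omega : 1 < p)] at h1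
  have hdiv := Nat.div_add_mod f p
  rw [hfp] at hdiv
  have hq : f / p = 0 ∨ f / p = 1 := by
    generalize f / p = q at hdiv
    rcases Nat.lt_or_ge q 2 with h2 | h2
    · omega
    · exfalso
      have h3 : p * 2 ≤ p * q := Nat.mul_le_mul_left p h2
      omega
  rcases hq with hq | hq
  · rw [hq] at hdiv
    omega
  · rw [hq] at hdiv
    omega

end Cfsg.Agent.Lib.Helper67.Small1092
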