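import Mathlib
import Cfsg.Prelude.Def_GeometricClasses
import Cfsg.Agent.Lib.Helper69.SLTGlue
import Cfsg.Agent.Lib.Helper97.SLT3b

/-!
# K-SpT-Orth (keystone 598011, S5980 pack, architect helper86)

An orthogonal involution with prescribed `(-1)`-eigenspace dimension: a symmetric matrix is congruent to a
diagonal one (`2 ≠ 0`), and `B = P diag(-1,…,-1,1,…,1) P⁻¹` does the job.
-/

set_option autoImplicit false

namespace Cfsg.Agent.Lib.Helper67.SpT

open Matrix Cfsg.Agent.Lib.Helper69.SLT Cfsg.Agent.Lib.Helper97.SLT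

variable {F : Type*} [Field F]

/-- a symmetric matrix is congruent to a diagonal matrix when `2 ≠ 0` -/
theorem exists_congr_diagonal (h2 : (2 : F) ≠ 0) {b : ℕ} (S : Matrix (Fin b) (Fin b) F)
    (hS : Sᵀ = S) :
    ∃ (P : GL (Fin b) F) (c : Fin b → F),
      (P : Matrix (Fin b) (Fin b) F)ᵀ * S * (P : Matrix (Fin b) (Fin b) F) = Matrix.diagonal c := by
  have _ : Invertible (2 : F) := invertibleOfNonzero h2
  set Bf : LinearMap.BilinForm F (Fin b → F) := Matrix.toBilin' S with hBf
  have hsymm : Bf.IsSymm := by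
    refine ⟨fun x y => ?_⟩
    rw [hBf, Matrix.toBilin'_apply', Matrix.toBilin'_apply']
    rw [Matrix.dotProduct_mulVec, dotProduct_comm, ← Matrix.mulVec_transpose, hS]
  obtain ⟨v, hv⟩ := LinearMap.BilinForm.exists_orthogonal_basis (LinearMap.BilinForm.isSymm_iff.1 hsymm)
  have hn : Module.finrank F (Fin b → F) = b := Module.finrank_fin_fun F
  let v' : Module.Basis (Fin b) F (Fin b → F) := v.reindex (finCongr hn)
  have hv' : ∀ i j, i ≠ j → Bf (v' i) (v' j) = 0 := by
    intro i j hij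
    have h0 := LinearMap.isOrthoᵢ_def.1 hv ((finCongr hn).symm i) ((finCongr hn).symm j)
      (fun h => hij ((finCongr hn).symm.injective h))
    simpa [v', Module.Basis.reindex_apply] using h0
  let E : Module.Basis (Fin b) F (Fin b → F) := Pi.basisFun F (Fin b)
  have hPP' : E.toMatrix v' * v'.toMatrix E = 1 := Module.Basis.toMatrix_mul_toMatrix_flip E v'
  have hP'P : v'.toMatrix E * E.toMatrix v' = 1 := Module.Basis.toMatrix_mul_toMatrix_flip v' E
  refine ⟨⟨E.toMatrix v', v'.toMatrix E, hPP', hP'P⟩, fun i => Bf (v' i) (v' i), ?_⟩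
  have h1 := LinearMap.BilinForm.toMatrix_mul_basis_toMatrix (b := E) v' Bf
  have h2' : LinearMap.BilinForm.toMatrix E Bf = S := by
    rw [LinearMap.BilinForm.toMatrix_basisFun, hBf, LinearMap.BilinForm.toMatrix'_toBilin']
  rw [h2'] at h1
  show (E.toMatrix v')ᵀ * S * E.toMatrix v' = _
  rw [h1]
  ext i j
  rw [LinearMap.BilinForm.toMatrix_apply]
  by_cases hij : i = j
  · subst hij
    rw [Matrix.diagonal_apply_eq]
  · rw [Matrix.diagonal_apply_ne _ hij, hv' i j hij]

/-- **K-SpT-Orth** (598011) -/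
theorem exists_orth_invol (h2 : (2 : F) ≠ 0) {b : ℕ} (f₂ : (Fin b → F) → (Fin b → F) → F)
    (hf₂ : Cfsg.Geo.IsSymmetricForm f₂) (k : ℕ) (hk : k ≤ b) :
    ∃ B : GL (Fin b) F,
      (B : Matrix (Fin b) (Fin b) F)ᵀ * Cfsg.Geo.gramMatrix f₂ * (B : Matrix (Fin b) (Fin b) F) =
        Cfsg.Geo.gramMatrix f₂ ∧
      B ^ 2 = 1 ∧ eigDim (B : Matrix (Fin b) (Fin b) F) (-1) = k := by
  classical
  set S : Matrix (Fin b) (Fin b) F := Cfsg.Geo.gramMatrix f₂ with hSdef
  have hS : Sᵀ = S := by
    ext i j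
    rw [Matrix.transpose_apply]
    exact hf₂.symm _ _
  obtain ⟨P, c, hPc⟩ := exists_congr_diagonal h2 S hS
  let ε : Fin b → F := fun i => if (i : ℕ) < k then -1 else 1
  have hε2 : ∀ i, ε i * ε i = 1 := by
    intro i
    simp only [ε]
    split_ifs <;> simp
  let D : Matrix (Fin b) (Fin b) F := Matrix.diagonal ε
  have hDD : D * D = 1 := by
    show Matrix.diagonal ε * Matrix.diagonal ε = 1
    rw [Matrix.diagonal_mul_diagonal]
    have : (fun i => ε i * ε i) = fun _ => (1 : F) := funext hε2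
    rw [this, Matrix.diagonal_one]
  let Dg : GL (Fin b) F := ⟨D, D, hDD, hDD⟩
  have hDg2 : Dg ^ 2 = 1 := by
    apply Units.ext
    rw [pow_two, Units.val_mul, Units.val_one]
    exact hDD
  refine ⟨P * Dg * P⁻¹, ?_, ?_, ?_⟩
  · set Pm : Matrix (Fin b) (Fin b) F := (P : Matrix (Fin b) (Fin b) F) with hPm
    set Pi : Matrix (Fin b) (Fin b) F := ((P⁻¹ : GL (Fin b) F) : Matrix (Fin b) (Fin b) F) with hPi
    have hPmPi : Pm * Pi = 1 := by rw [hPm, hPi, ← Units.val_mul, mul_inv_cancel, Units.val_one]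
    have hS' : Piᵀ * Matrix.diagonal c * Pi = S := by
      rw [← hPc]
      calc Piᵀ * (Pmᵀ * S * Pm) * Pi = (Pm * Pi)ᵀ * S * (Pm * Pi) := by
            rw [Matrix.transpose_mul]; simp only [Matrix.mul_assoc]
        _ = S := by rw [hPmPi, Matrix.transpose_one, Matrix.one_mul, Matrix.mul_one]
    have hDCD : Dᵀ * Matrix.diagonal c * D = Matrix.diagonal c := by
      show (Matrix.diagonal ε)ᵀ * Matrix.diagonal c * Matrix.diagonal ε = Matrix.diagonal c
      rw [Matrix.diagonal_transpose, Matrix.diagonal_mul_diagonal, Matrix.diagonal_mul_diagonal]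
      congr 1
      ext i
      rw [mul_comm (ε i) (c i), mul_assoc, hε2, mul_one]
    have hB : ((P * Dg * P⁻¹ : GL (Fin b) F) : Matrix (Fin b) (Fin b) F) = Pm * D * Pi := by
      rw [Units.val_mul, Units.val_mul]
    rw [hB]
    calc (Pm * D * Pi)ᵀ * S * (Pm * D * Pi) = Piᵀ * (Dᵀ * (Pmᵀ * S * Pm) * D) * Pi := by
          simp only [Matrix.transpose_mul, Matrix.mul_assoc]
      _ = Piᵀ * Matrix.diagonal c * Pi := by rw [hPc, hDCD]
      _ = S := hS'
  · calc (P * Dg * P⁻¹) ^ 2 = P * Dg ^ 2 * P⁻¹ := by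
          simp only [pow_two, mul_assoc, inv_mul_cancel_left]
      _ = 1 := by rw [hDg2, mul_one, mul_inv_cancel]
  · have h1 := eigDim_conj (P⁻¹) Dg (-1 : F)
    rw [inv_inv] at h1
    rw [h1]
    show eigDim (Matrix.diagonal ε) (-1) = k
    rw [eigDim_diagonal]
    have hne : (1 : F) ≠ -1 := by
      intro h
      apply h2
      have : (1 : F) + 1 = 0 := by nth_rewrite 1 [h]; exact neg_add_cancel 1
      rw [← one_add_one_eq_two]; exact this
    have hfilter : (Finset.univ.filter (fun i : Fin b => ε i = -1)) =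
        Finset.univ.filter (fun i : Fin b => (i : ℕ) < k) := by
      ext i
      simp only [Finset.mem_filter, Finset.mem_univ, true_and, ε]
      split_ifs with h
      · simp [h]
      · simp [h, hne]
    rw [hfilter, Fin.card_filter_val_lt, min_eq_right hk]

end Cfsg.Agent.Lib.Helper67.SpT
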