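import Mathlib
import Cfsg.Agent.Lib.Helper40.T1904Defs

/-!
# K-S1904-8: case β with `B` of exponent two forces `B = Z(X)`
-/

set_option autoImplicit false
set_option linter.style.haveILetI false
set_option linter.unusedSectionVars false

namespace Cfsg.Agent.Lib.Helper67.T1904

open Cfsg.Agent.Lib.Helper40.T1904
open scoped commutatorElement

universe u_1

variable {X : Type u_1} [Group X]

theorem beta_exp2 [Finite X] {A : Subgroup (MulAut X)} (h : Ctx X A) (hna : ¬ IsMulCommutative X)
    (B : Subgroup X) (hB : MaxInv A B) (hZB : Subgroup.center X ≤ B)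
    (hfpf : Fpf A (Subgroup.center X)) (hexp : ∀ b ∈ B, b * b = 1) : B = Subgroup.center X := by
  classical
  haveI : Nontrivial X := by
    by_contra hX
    rw [not_nontrivial_iff_subsingleton] at hX
    exact hna ⟨⟨fun a b => Subsingleton.elim _ _⟩⟩
  haveI : Nontrivial (Subgroup.center X) := h.h2.center_nontrivial
  -- |B| ≤ 4
  have hBcard : Nat.card B ≤ 4 := by
    have h1 := h.hR B hB.1 hB.2.1
    have h2 : Nat.card B = Nat.card {t : X // t ∈ B ∧ t * t = 1} :=
      Nat.card_congr (Equiv.subtypeEquivRight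
        (fun t => ⟨fun ht => ⟨ht, hexp t ht⟩, fun ht => ht.1⟩))
    rw [h2]; exact h1
  -- |Z| ≥ 3
  have hZ2 : 2 ≤ Nat.card (Subgroup.center X) := by
    have := Finite.one_lt_card_iff_nontrivial.2 (inferInstance : Nontrivial (Subgroup.center X))
    omega
  have hZne2 : Nat.card (Subgroup.center X) ≠ 2 := by
    intro hc
    obtain ⟨z, hz1, hzu⟩ := (Nat.card_eq_two_iff' (1 : Subgroup.center X)).1 hc
    have hz1' : (z : X) ≠ 1 := fun h0 => hz1 (Subtype.ext h0)
    apply hz1'
    apply hfpf (z : X) z.2
    intro φ hφ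
    have hφz : φ (z : X) ∈ Subgroup.center X := by
      rw [Subgroup.mem_center_iff]
      intro g
      have hg : g = φ (φ.symm g) := (φ.apply_symm_apply g).symm
      rw [hg, ← map_mul, ← map_mul, (Subgroup.mem_center_iff.1 z.2) (φ.symm g)]
    have hne : (⟨φ (z : X), hφz⟩ : Subgroup.center X) ≠ 1 := by
      intro h0
      have h1 : φ (z : X) = 1 := congrArg Subtype.val h0
      rw [← map_one φ] at h1
      exact hz1' (φ.injective h1)
    have := hzu ⟨φ (z : X), hφz⟩ hne
    exact congrArg Subtype.val this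
  have hdvd : Nat.card (Subgroup.center X) ∣ Nat.card B := Subgroup.card_dvd_of_le hZB
  have hBpos : 0 < Nat.card B := Nat.card_pos
  have hle : Nat.card B ≤ Nat.card (Subgroup.center X) := by
    obtain ⟨k, hk⟩ := hdvd
    rcases k with _ | _ | k
    · omega
    · omega
    · have h3 : 3 ≤ Nat.card (Subgroup.center X) := by omega
      have h4 : Nat.card (Subgroup.center X) * 2 ≤ Nat.card (Subgroup.center X) * (k + 1 + 1) :=
        Nat.mul_le_mul_left _ (by omega)
      omega
  exact (Subgroup.eq_of_le_of_card_ge hZB hle).symm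

end Cfsg.Agent.Lib.Helper67.T1904
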