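import Mathlib
import Cfsg.Agent.Lib.Helper52.FFCore
import Cfsg.Agent.Lib.Helper39.HyperplaneGen

/-!
# Two conjugates of a `p`-subgroup in a `p`-solvable group: the hyperplane data
-/

set_option autoImplicit false

namespace Cfsg.Agent.Lib.Helper67

open scoped commutatorElement
open Cfsg.Agent.Lib.Helper52

theorem mem_normalizer_inf' {G : Type*} [Group G] {X Y : Subgroup G} {g : G}
    (hX : g ∈ Subgroup.normalizer (X : Set G)) (hY : g ∈ Subgroup.normalizer (Y : Set G)) :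
    g ∈ Subgroup.normalizer ((X ⊓ Y : Subgroup G) : Set G) := by
  rw [Subgroup.mem_normalizer_iff] at hX hY ⊢
  intro h
  rw [Subgroup.mem_inf, Subgroup.mem_inf, hX h, hY h]

/-- a `p'`-element in the image of a homomorphism lifts to a `p'`-element -/
theorem exists_coprime_lift {G H : Type*} [Group G] [Group H] [Finite G] {p : ℕ}
    [hp : Fact p.Prime] (f : G →* H) (g : G) (h : (orderOf (f g)).Coprime p) :
    ∃ r ∈ Subgroup.zpowers g, (orderOf r).Coprime p ∧ f r = f g := by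
  have hn : orderOf g ≠ 0 := (orderOf_pos g).ne'
  obtain ⟨k, m, hm, hkm⟩ := Nat.exists_eq_pow_mul_and_not_dvd hn p hp.out.ne_one
  have hmp : m.Coprime p := ((Nat.Prime.coprime_iff_not_dvd hp.out).mpr hm).symm
  have hfm : orderOf (f g) ∣ m := by
    have h1 : orderOf (f g) ∣ p ^ k * m := hkm ▸ orderOf_map_dvd f g
    exact (Nat.Coprime.dvd_mul_left (Nat.Coprime.pow_right k h)).mp h1
  by_cases hm1 : m = 1
  · refine ⟨1, Subgroup.one_mem _, by simp, ?_⟩
    rw [hm1, Nat.dvd_one, orderOf_eq_one_iff] at hfm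
    rw [map_one, hfm]
  · have hm0 : m ≠ 0 := by
      rintro rfl
      rw [mul_zero] at hkm
      exact hn hkm
    have hm2 : 1 < m := by omega
    have hcop : Nat.Coprime (p ^ k) m := Nat.Coprime.pow_left k hmp.symm
    obtain ⟨s, -, hs⟩ := Nat.exists_mul_mod_eq_one_of_coprime hcop hm2
    refine ⟨g ^ (p ^ k * s), Subgroup.pow_mem _ (Subgroup.mem_zpowers g) _, ?_, ?_⟩
    · have h1 : (g ^ (p ^ k * s)) ^ m = 1 := by
        rw [← pow_mul, mul_right_comm, pow_mul, ← hkm, pow_orderOf_eq_one, one_pow]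
      exact Nat.Coprime.coprime_dvd_left (orderOf_dvd_of_pow_eq_one h1) hmp
    · rw [map_pow]
      have h2 : p ^ k * s = m * (p ^ k * s / m) + 1 := by
        have := Nat.div_add_mod (p ^ k * s) m
        rw [hs] at this
        exact this.symm
      rw [h2, pow_succ, pow_mul]
      have h3 : (f g) ^ m = 1 := orderOf_dvd_iff_pow_eq_one.mp hfm
      rw [h3, one_pow, one_mul]

theorem map_map_conj {G H : Type*} [Group G] [Group H] (f : G →* H) (A : Subgroup G) (x : G) :
    (A.map (MulAut.conj x).toMonoidHom).map f =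
      (A.map f).map (MulAut.conj (f x)).toMonoidHom := by
  rw [Subgroup.map_map, Subgroup.map_map]
  congr 1
  ext a
  simp

/-- the hyperplane data in the quotient -/
theorem exists_hyperplane_data {Γ : Type*} [Group Γ] [Finite Γ] {p : ℕ} [hp : Fact p.Prime]
    (K A : Subgroup Γ) [hKn : K.Normal] (hKp : (Nat.card K).Coprime p)
    (hKc : Subgroup.centralizer (K : Set Γ) ≤ K)
    (hAc : ∀ a ∈ A, ∀ b ∈ A, a * b = b * a) (hAp : ∀ a ∈ A, a ^ p = 1) (hA1 : A ≠ ⊥) :
    ∃ (B X : Subgroup Γ) (x : Γ), B ≤ A ∧ B.relIndex A = p ∧ X ≤ K ∧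
      X ≤ Subgroup.centralizer (B : Set Γ) ∧ A ≤ Subgroup.normalizer (X : Set Γ) ∧ x ∈ X ∧
      X ≤ A ⊔ A.map (MulAut.conj x).toMonoidHom ∧
      A ⊓ Subgroup.centralizer (X : Set Γ) ≤ B := by
  have hAK : A ≤ Subgroup.normalizer (K : Set Γ) := by
    rw [Subgroup.normalizer_eq_top]; exact le_top
  have hAct : FFActs p (⊤ : Subgroup Γ) K A := by
    refine ⟨hAc, hAp, ?_, hAK, ?_⟩
    · rw [Subgroup.normalizer_eq_top]; exact le_top
    · rw [eq_bot_iff]
      intro a ha
      rw [Subgroup.mem_bot]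
      exact Cfsg.Agent.Lib.Helper39.eq_one_of_pow_eq_one_of_coprime hKp (hKc ha.2) (hAp a ha.1)
  have hKp' : ¬ p ∣ Nat.card K := (Nat.Prime.coprime_iff_not_dvd hp.out).mp hKp.symm
  obtain ⟨B, hBA, hBp, -, hL⟩ := ff_exists_hyperplane hKp' hAct le_rfl hA1
  -- a non-commuting pair
  have hex : ∃ k ∈ K ⊓ Subgroup.centralizer (B : Set Γ), ∃ a ∈ A, k * a ≠ a * k := by
    by_contra hcon
    push Not at hcon
    apply hL
    rw [eq_bot_iff, Subgroup.commutator_le]
    intro k hk a ha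
    rw [Subgroup.mem_bot, commutatorElement_eq_one_iff_mul_comm]
    exact hcon k hk a ha
  obtain ⟨k, hk, a, ha, hka⟩ := hex
  -- a minimal `A`-invariant subgroup of `C_K(B)` not centralized by `a`
  obtain ⟨X, hXmin⟩ := exists_minimal_of_wellFoundedLT
    (fun X : Subgroup Γ => X ≤ K ⊓ Subgroup.centralizer (B : Set Γ) ∧
      A ≤ Subgroup.normalizer (X : Set Γ) ∧ ∃ x ∈ X, x * a ≠ a * x)
    ⟨K ⊓ Subgroup.centralizer (B : Set Γ), le_rfl,
      Cfsg.Agent.Lib.Helper39.normalizes_inf_centralizer hAc hAK B hBA, k, hk, hka⟩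
  obtain ⟨⟨hXle, hXn, x, hxX, hxa⟩, hmin⟩ := hXmin
  have hXK : X ≤ K := hXle.trans inf_le_left
  have hXB : X ≤ Subgroup.centralizer (B : Set Γ) := hXle.trans inf_le_right
  refine ⟨B, X, x, hBA, hBp, hXK, hXB, hXn, hxX, ?_, ?_⟩
  · -- `X ≤ L`
    set L := A ⊔ A.map (MulAut.conj x).toMonoidHom with hLdef
    have hAL : A ≤ L := le_sup_left
    have hxaL : x * a * x⁻¹ ∈ L :=
      (le_sup_right : A.map (MulAut.conj x).toMonoidHom ≤ L) ⟨a, ha, by simp⟩
    have hcL : ⁅x, a⁆ ∈ L := by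
      rw [commutatorElement_def]
      exact L.mul_mem hxaL (L.inv_mem (hAL ha))
    have hcX : ⁅x, a⁆ ∈ X := by
      have h1 : a * x⁻¹ * a⁻¹ ∈ X :=
        (Subgroup.mem_normalizer_iff.mp (hXn ha) x⁻¹).mp (X.inv_mem hxX)
      have h2 : ⁅x, a⁆ = x * (a * x⁻¹ * a⁻¹) := by rw [commutatorElement_def]; group
      rw [h2]
      exact X.mul_mem hxX h1
    have hc : ⁅x, a⁆ * a ≠ a * ⁅x, a⁆ := by
      intro hcomm
      apply hxa
      have hc1 : x * a * x⁻¹ = ⁅x, a⁆ * a := by rw [commutatorElement_def]; group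
      have hc2 : (x * a * x⁻¹) ^ p = 1 := by rw [conj_pow, hAp a ha]; group
      have hc3 : (⁅x, a⁆ * a) ^ p = ⁅x, a⁆ ^ p := by
        have : Commute ⁅x, a⁆ a := hcomm
        rw [this.mul_pow, hAp a ha, mul_one]
      rw [hc1, hc3] at hc2
      have hc4 : ⁅x, a⁆ = 1 :=
        Cfsg.Agent.Lib.Helper39.eq_one_of_pow_eq_one_of_coprime hKp (hXK hcX) hc2
      exact commutatorElement_eq_one_iff_mul_comm.mp hc4
    have hX' : L ⊓ X ≤ K ⊓ Subgroup.centralizer (B : Set Γ) ∧
        A ≤ Subgroup.normalizer ((L ⊓ X : Subgroup Γ) : Set Γ) ∧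
        ∃ y ∈ L ⊓ X, y * a ≠ a * y := by
      refine ⟨inf_le_right.trans hXle, ?_, ⁅x, a⁆, ⟨hcL, hcX⟩, hc⟩
      intro a' ha'
      exact mem_normalizer_inf' (Subgroup.le_normalizer (hAL ha')) (hXn ha')
    exact (hmin hX' inf_le_right).trans inf_le_left
  · -- `C_A(X) ≤ B`
    set C := A ⊓ Subgroup.centralizer (X : Set Γ) with hCdef
    have hBC : B ≤ C := by
      intro b hb
      refine Subgroup.mem_inf.mpr ⟨hBA hb, ?_⟩
      rw [Subgroup.mem_centralizer_iff]
      intro y hy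
      exact ((Subgroup.mem_centralizer_iff.mp (hXB hy)) b hb).symm
    have hCA : C ≤ A := inf_le_left
    have hmul := Subgroup.relIndex_mul_relIndex B C A hBC hCA
    rw [hBp] at hmul
    have hne1 : C.relIndex A ≠ 1 := by
      intro h1
      rw [Subgroup.relIndex_eq_one] at h1
      apply hxa
      have := (Subgroup.mem_centralizer_iff.mp (h1 ha).2) x hxX
      exact this
    have hdvd : C.relIndex A ∣ p := Dvd.intro_left _ hmul
    rcases (Nat.dvd_prime hp.out).mp hdvd with h1 | h1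
    · exact absurd h1 hne1
    · rw [h1] at hmul
      have hp0 : 0 < p := hp.out.pos
      have h2 : B.relIndex C = 1 := by
        have : B.relIndex C * p = 1 * p := by rw [hmul, one_mul]
        exact Nat.eq_of_mul_eq_mul_right hp0 this
      exact Subgroup.relIndex_eq_one.mp h2

end Cfsg.Agent.Lib.Helper67
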