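import Mathlib
import Cfsg.Prelude.Def_Local
import Cfsg.Prelude.Def_Transfer
import Cfsg.Prelude.Def_CaseTheorems
import Cfsg.Agent.Lib.Helper67.TwoConj
import Cfsg.Agent.Lib.Helper67.ExpPLen2
import Cfsg.Agent.Lib.Helper67.PAction
import Cfsg.Agent.Lib.Helper54.Subnormal
import Cfsg.Agent.Lib.Helper54.Quot
import Cfsg.Agent.Lib.Helper75.PGroupFrattini

/-!
# Two conjugates of a `p`-subgroup in a `p`-solvable group
-/

set_option autoImplicit false

namespace Cfsg.Agent.Lib.Helper67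

open Cfsg
open scoped commutatorElement

theorem le_normalizer_of_conj_mem {G : Type*} [Group G] {S H : Subgroup G}
    (h : ∀ g ∈ S, ∀ x ∈ H, g * x * g⁻¹ ∈ H) : S ≤ Subgroup.normalizer (H : Set G) := by
  intro g hg
  rw [Subgroup.mem_normalizer_iff]
  intro x
  refine ⟨h g hg x, fun hx => ?_⟩
  have := h g⁻¹ (S.inv_mem hg) _ hx
  simpa [mul_assoc] using this

theorem le_normalizer_resid {M : Type*} [Group M] (p : ℕ) (L : Subgroup M) :
    L ≤ Subgroup.normalizer (((pResidual p ↥L).map L.subtype : Subgroup M) : Set M) := by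
  rw [Helper54.map_pResidual_subtype]
  apply le_normalizer_of_conj_mem
  intro l hl x hx
  induction hx using Subgroup.closure_induction with
  | mem g hg =>
    apply Subgroup.subset_closure
    refine ⟨L.mul_mem (L.mul_mem hl hg.1) (L.inv_mem hl), ?_⟩
    have h2 : orderOf (l * g * l⁻¹) = orderOf g :=
      orderOf_injective (MulAut.conj l).toMonoidHom (MulAut.conj l).injective g
    rw [h2]; exact hg.2
  | one => simp
  | mul a b _ _ ha hb =>
    have e : l * (a * b) * l⁻¹ = (l * a * l⁻¹) * (l * b * l⁻¹) := by group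
    rw [e]; exact Subgroup.mul_mem _ ha hb
  | inv a _ ha =>
    have e : l * a⁻¹ * l⁻¹ = (l * a * l⁻¹)⁻¹ := by group
    rw [e]; exact Subgroup.inv_mem _ ha

theorem le_normalizer_commutator' {G : Type*} [Group G] {V A : Subgroup G}
    (hAV : A ≤ Subgroup.normalizer (V : Set G)) :
    A ≤ Subgroup.normalizer ((⁅V, A⁆ : Subgroup G) : Set G) := by
  apply le_normalizer_of_conj_mem
  intro g hg x hx
  have h1 : (⁅V, A⁆).map (MulAut.conj g).toMonoidHom ≤ ⁅V, A⁆ := by
    rw [Subgroup.map_commutator]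
    apply Subgroup.commutator_mono
    · rintro _ ⟨v, hv, rfl⟩
      exact (Subgroup.mem_normalizer_iff.mp (hAV hg) v).mp hv
    · rintro _ ⟨a, ha, rfl⟩
      exact A.mul_mem (A.mul_mem hg ha) (A.inv_mem hg)
  exact h1 ⟨x, hx, rfl⟩

/-- `[O^p(L), A] = O^p(L)` when `L = ⟨A, A^x⟩` with `x ∈ O^p(L)` -/
theorem commutator_resid_eq {M : Type*} [Group M] [Finite M] {p : ℕ} [Fact p.Prime]
    (A : Subgroup M) (hA : IsPGroup p A) (x : M)
    (hx : x ∈ (pResidual p ↥(A ⊔ A.map (MulAut.conj x).toMonoidHom)).map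
      (A ⊔ A.map (MulAut.conj x).toMonoidHom).subtype) :
    ⁅(pResidual p ↥(A ⊔ A.map (MulAut.conj x).toMonoidHom)).map
      (A ⊔ A.map (MulAut.conj x).toMonoidHom).subtype, A⁆ =
    (pResidual p ↥(A ⊔ A.map (MulAut.conj x).toMonoidHom)).map
      (A ⊔ A.map (MulAut.conj x).toMonoidHom).subtype := by
  obtain ⟨L, hL⟩ : ∃ L : Subgroup M, L = A ⊔ A.map (MulAut.conj x).toMonoidHom := ⟨_, rfl⟩
  rw [← hL] at hx ⊢
  obtain ⟨R, hR⟩ : ∃ R : Subgroup M, R = (pResidual p ↥L).map L.subtype := ⟨_, rfl⟩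
  rw [← hR] at hx ⊢
  have hRL : R ≤ L := by rw [hR]; exact Subgroup.map_subtype_le _
  have hLR : L ≤ Subgroup.normalizer (R : Set M) := by rw [hR]; exact le_normalizer_resid p L
  have hAL : A ≤ L := by rw [hL]; exact le_sup_left
  have hAR : A ≤ Subgroup.normalizer (R : Set M) := hAL.trans hLR
  have h1 : ⁅R, A⁆ ≤ R := by
    rw [Subgroup.commutator_le]
    intro r hr a ha
    have h2 : ⁅r, a⁆ = r * (a * r⁻¹ * a⁻¹) := by rw [commutatorElement_def]; group
    rw [h2]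
    exact R.mul_mem hr ((Subgroup.mem_normalizer_iff.mp (hAR ha) r⁻¹).mp (R.inv_mem hr))
  have hAR₁ : A ≤ Subgroup.normalizer ((⁅R, A⁆ : Subgroup M) : Set M) :=
    le_normalizer_commutator' hAR
  have h2 : L ≤ ⁅R, A⁆ ⊔ A := by
    rw [hL]
    refine sup_le le_sup_right ?_
    rintro _ ⟨a, ha, rfl⟩
    have e : (MulAut.conj x).toMonoidHom a = ⁅x, a⁆ * a := by
      rw [commutatorElement_def]; simp
    rw [e]
    exact Subgroup.mul_mem _
      ((le_sup_left : ⁅R, A⁆ ≤ ⁅R, A⁆ ⊔ A) (Subgroup.commutator_mem_commutator hx ha))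
      ((le_sup_right : A ≤ ⁅R, A⁆ ⊔ A) ha)
  have h3 : R ≤ ⁅R, A⁆ := by
    refine hR.le.trans ?_
    have h4 : (pResidual p ↥(⁅R, A⁆ ⊔ A)).map (⁅R, A⁆ ⊔ A).subtype ≤ ⁅R, A⁆ :=
      Helper54.map_pResidual_subtype_le_of_sup (B := ⁅R, A⁆) (P := A) (M := ⁅R, A⁆ ⊔ A)
        rfl hAR₁ hA
    exact (Helper54.map_pResidual_subtype_mono p h2).trans h4
  exact le_antisymm h1 h3

open Cfsg.Agent.Lib.Helper81 (isPGroup_pCore card_pPrimeCore_coprime) in
/-- the two-conjugates lemma -/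
theorem two_conj_main {M : Type*} [Group M] [Finite M] {p : ℕ} [hp : Fact p.Prime]
    (hM : IsPSolvable p M) (A : Subgroup M) (hA : IsPGroup p A)
    (hΦ : (frattini ↥A).map A.subtype ≤ pCore p M) (hnot : ¬ A ≤ pCore p M) :
    ∃ x ∈ (pPrimeCore p (M ⧸ pCore p M)).comap (QuotientGroup.mk' (pCore p M)),
      x ∈ (pResidual p ↥(A ⊔ A.map (MulAut.conj x).toMonoidHom)).map
        (A ⊔ A.map (MulAut.conj x).toMonoidHom).subtype ∧
      (pResidual p ↥(A ⊔ A.map (MulAut.conj x).toMonoidHom)).map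
        (A ⊔ A.map (MulAut.conj x).toMonoidHom).subtype ≤
        (pPrimeCore p (M ⧸ pCore p M)).comap (QuotientGroup.mk' (pCore p M)) ∧
      (A ⊓ (pCore p ↥(A ⊔ A.map (MulAut.conj x).toMonoidHom)).map
        (A ⊔ A.map (MulAut.conj x).toMonoidHom).subtype).relIndex A = p ∧
      ⁅A ⊓ (pCore p ↥(A ⊔ A.map (MulAut.conj x).toMonoidHom)).map
        (A ⊔ A.map (MulAut.conj x).toMonoidHom).subtype,
        A ⊔ A.map (MulAut.conj x).toMonoidHom⁆ ≤ pCore p M := by
  obtain ⟨P, hP⟩ : ∃ P : Subgroup M, P = pCore p M := ⟨_, rfl⟩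
  have hPn : P.Normal := by rw [hP]; infer_instance
  have hPp : IsPGroup p P := by rw [hP]; exact isPGroup_pCore p
  obtain ⟨π, hπ⟩ : ∃ π : M →* M ⧸ pCore p M, π = QuotientGroup.mk' (pCore p M) := ⟨_, rfl⟩
  have hπs : Function.Surjective π := by rw [hπ]; exact QuotientGroup.mk'_surjective _
  have hker : ∀ g : M, π g = 1 ↔ g ∈ pCore p M := by
    intro g; rw [hπ, QuotientGroup.mk'_apply, QuotientGroup.eq_one_iff]
  obtain ⟨Kb, hKb⟩ : ∃ Kb : Subgroup (M ⧸ pCore p M), Kb = pPrimeCore p (M ⧸ pCore p M) :=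
    ⟨_, rfl⟩
  have hKbn : Kb.Normal := by rw [hKb]; infer_instance
  rw [← hπ, ← hKb]
  obtain ⟨Ab, hAb⟩ : ∃ Ab : Subgroup (M ⧸ pCore p M), Ab = A.map π := ⟨_, rfl⟩
  -- `Ab` is elementary abelian and nontrivial
  have hΦmem : ∀ u : ↥A, u ∈ frattini ↥A → π (u : M) = 1 := by
    intro u hu
    rw [hker]
    exact hΦ ⟨u, hu, rfl⟩
  have hAb_comm : ∀ a ∈ Ab, ∀ b ∈ Ab, a * b = b * a := by
    rw [hAb]
    rintro _ ⟨a, ha, rfl⟩ _ ⟨b, hb, rfl⟩
    have h1 := Helper75.frattini_quotient_comm hA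
      (QuotientGroup.mk (⟨a, ha⟩ : ↥A)) (QuotientGroup.mk (⟨b, hb⟩ : ↥A))
    rw [← QuotientGroup.mk_mul, ← QuotientGroup.mk_mul, QuotientGroup.eq] at h1
    have h2 := hΦmem _ h1
    have h3 : π ((a * b)⁻¹ * (b * a)) = 1 := h2
    rw [map_mul, map_inv, inv_mul_eq_one] at h3
    rw [← map_mul, ← map_mul]; exact h3
  have hAb_pow : ∀ a ∈ Ab, a ^ p = 1 := by
    rw [hAb]
    rintro _ ⟨a, ha, rfl⟩
    have h1 := Helper75.frattini_quotient_pow hA (QuotientGroup.mk (⟨a, ha⟩ : ↥A))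
    rw [← QuotientGroup.mk_pow, QuotientGroup.eq_one_iff] at h1
    have h2 := hΦmem _ h1
    have h3 : π (a ^ p) = 1 := h2
    rw [← map_pow]; exact h3
  have hAb_ne : Ab ≠ ⊥ := by
    intro h
    apply hnot
    intro a ha
    rw [← hker]
    have : π a ∈ Ab := by rw [hAb]; exact ⟨a, ha, rfl⟩
    rw [h, Subgroup.mem_bot] at this
    exact this
  have hKb_cop : (Nat.card Kb).Coprime p := by rw [hKb]; exact card_pPrimeCore_coprime p
  have hKb_cent : Subgroup.centralizer (Kb : Set (M ⧸ pCore p M)) ≤ Kb := by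
    rw [hKb]
    apply centralizer_pPrimeCore_le (Helper81.IsPSolvable.quotient hp.out hM (pCore p M))
    rw [Helper54.pCore_quotient_of_isPGroup (pCore p M) (isPGroup_pCore p)]
    exact QuotientGroup.map_mk'_self _
  obtain ⟨Bb, Xb, xb, hBA, hBp, hXK, hXB, hXn, hxX, hXL, hCB⟩ :=
    exists_hyperplane_data Kb Ab hKb_cop hKb_cent hAb_comm hAb_pow hAb_ne
  have hxb_cop : (orderOf xb).Coprime p := by
    have h1 : orderOf xb ∣ Nat.card Kb := by
      have := orderOf_dvd_natCard (⟨xb, hXK hxX⟩ : Kb)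
      rwa [Subgroup.orderOf_mk] at this
    exact Nat.Coprime.coprime_dvd_left h1 hKb_cop
  -- image of `⟨A, A^x⟩`
  have hπL : ∀ x : M, π x = xb → (A ⊔ A.map (MulAut.conj x).toMonoidHom).map π =
      Ab ⊔ Ab.map (MulAut.conj xb).toMonoidHom := by
    intro x hx
    rw [Subgroup.map_sup, map_map_conj, hx, hAb]
  -- a lift with `⟨A, A^x⟩` of least order
  obtain ⟨x₀, hx₀min⟩ := exists_minimalFor_of_wellFoundedLT (fun x : M => π x = xb)
    (fun x : M => Nat.card ↥(A ⊔ A.map (MulAut.conj x).toMonoidHom)) (hπs xb)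
  obtain ⟨hx₀, hmin⟩ := hx₀min
  have hxbL₀ : xb ∈ (A ⊔ A.map (MulAut.conj x₀).toMonoidHom).map π := by
    rw [hπL x₀ hx₀]; exact hXL hxX
  obtain ⟨l, hlL, hl⟩ := hxbL₀
  obtain ⟨r, hrz, hrcop, hr⟩ := exists_coprime_lift (p := p) π l (by rw [hl]; exact hxb_cop)
  have hrL₀ : r ∈ A ⊔ A.map (MulAut.conj x₀).toMonoidHom :=
    (Subgroup.zpowers_le.mpr hlL) hrz
  have hπr : π r = xb := by rw [hr, hl]
  have hLL₀ : A ⊔ A.map (MulAut.conj r).toMonoidHom ≤ A ⊔ A.map (MulAut.conj x₀).toMonoidHom := by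
    refine sup_le le_sup_left ?_
    rintro _ ⟨a, ha, rfl⟩
    have e : (MulAut.conj r).toMonoidHom a = r * a * r⁻¹ := by simp
    rw [e]
    exact Subgroup.mul_mem _ (Subgroup.mul_mem _ hrL₀ ((le_sup_left : A ≤ _) ha))
      (Subgroup.inv_mem _ hrL₀)
  have hLeq : A ⊔ A.map (MulAut.conj r).toMonoidHom = A ⊔ A.map (MulAut.conj x₀).toMonoidHom :=
    Subgroup.eq_of_le_of_card_ge hLL₀ (hmin hπr (Subgroup.card_le_of_le hLL₀))
  obtain ⟨L, hL⟩ : ∃ L : Subgroup M, L = A ⊔ A.map (MulAut.conj r).toMonoidHom := ⟨_, rfl⟩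
  have hrL : r ∈ L := by rw [hL, hLeq]; exact hrL₀
  have hAL : A ≤ L := by rw [hL]; exact le_sup_left
  have hπLr : L.map π = Ab ⊔ Ab.map (MulAut.conj xb).toMonoidHom := by rw [hL]; exact hπL r hπr
  have hrN : r ∈ Kb.comap π := by
    rw [Subgroup.mem_comap, hπr]; exact hXK hxX
  refine ⟨r, hrN, ?_⟩
  rw [← hL]
  have hNn : (Kb.comap π).Normal := Subgroup.Normal.comap hKbn π
  refine ⟨?_, ?_, ?_⟩
  · -- (1)
    rw [Helper54.map_pResidual_subtype]
    exact Subgroup.subset_closure ⟨hrL, hrcop⟩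
  · -- (2)
    have h2 : L ≤ Kb.comap π ⊔ A := by
      rw [hL]
      refine sup_le le_sup_right ?_
      rintro _ ⟨a, ha, rfl⟩
      have e : (MulAut.conj r).toMonoidHom a = r * a * r⁻¹ := by simp
      rw [e]
      have hr' : r ∈ Kb.comap π ⊔ A := (le_sup_left : Kb.comap π ≤ _) hrN
      exact Subgroup.mul_mem _ (Subgroup.mul_mem _ hr' ((le_sup_right : A ≤ _) ha))
        (Subgroup.inv_mem _ hr')
    have h4 : (pResidual p ↥(Kb.comap π ⊔ A)).map (Kb.comap π ⊔ A).subtype ≤ Kb.comap π :=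
      Helper54.map_pResidual_subtype_le_of_sup (B := Kb.comap π) (P := A)
        (M := Kb.comap π ⊔ A) rfl
        (by rw [Subgroup.normalizer_eq_top]; exact le_top) hA
    exact (Helper54.map_pResidual_subtype_mono p h2).trans h4
  · -- (4), (5)
    obtain ⟨B, hB⟩ : ∃ B : Subgroup M, B = A ⊓ Bb.comap π := ⟨_, rfl⟩
    have hBA' : B ≤ A := by rw [hB]; exact inf_le_left
    have hxbB : xb ∈ Subgroup.centralizer (Bb : Set (M ⧸ pCore p M)) := hXB hxX
    have hLcent : L.map π ≤ Subgroup.centralizer (Bb : Set (M ⧸ pCore p M)) := by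
      rw [hπLr]
      have h1 : Ab ≤ Subgroup.centralizer (Bb : Set (M ⧸ pCore p M)) := by
        intro a ha
        rw [Subgroup.mem_centralizer_iff]
        intro b hb
        exact hAb_comm b (hBA hb) a ha
      refine sup_le h1 ?_
      rintro _ ⟨a, ha, rfl⟩
      have e : (MulAut.conj xb).toMonoidHom a = xb * a * xb⁻¹ := by simp
      rw [e]
      exact Subgroup.mul_mem _ (Subgroup.mul_mem _ hxbB (h1 ha)) (Subgroup.inv_mem _ hxbB)
    have hB_cent : ∀ b ∈ B, ∀ l ∈ L, ⁅b, l⁆ ∈ pCore p M := by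
      intro b hb l hl
      rw [← hker, map_commutatorElement, commutatorElement_eq_one_iff_mul_comm]
      have hb' : π b ∈ Bb := by rw [hB] at hb; exact hb.2
      have hl' : π l ∈ Subgroup.centralizer (Bb : Set (M ⧸ pCore p M)) := hLcent ⟨l, hl, rfl⟩
      exact (Subgroup.mem_centralizer_iff.mp hl') (π b) hb'
    -- `B ≤ O_p(L)`
    have hBO : B ≤ (pCore p ↥L).map L.subtype := by
      have hBL : B ≤ L := hBA'.trans hAL
      have hPLn : L ≤ Subgroup.normalizer ((pCore p M ⊓ L : Subgroup M) : Set M) := by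
        intro l hl
        apply mem_normalizer_inf'
        · rw [Subgroup.normalizer_eq_top]; trivial
        · exact Subgroup.le_normalizer hl
      have hQp : IsPGroup p ↥(B ⊔ (pCore p M ⊓ L)) :=
        IsPGroup.to_sup_of_normal_right' (hA.to_le hBA')
          ((isPGroup_pCore (G := M) p).to_le inf_le_left) (hBL.trans hPLn)
      have hQL : B ⊔ (pCore p M ⊓ L) ≤ L := sup_le hBL inf_le_right
      have hLQ : L ≤ Subgroup.normalizer ((B ⊔ (pCore p M ⊓ L) : Subgroup M) : Set M) := by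
        apply le_normalizer_of_conj_mem
        intro l hl q hq
        obtain ⟨b, hb, u, hu, rfl⟩ := mem_sup_of_le_normalizer (hBL.trans hPLn) hq
        have e : l * (b * u) * l⁻¹ = (⁅b, l⁆⁻¹ * b) * (l * u * l⁻¹) := by
          rw [commutatorElement_def]; group
        rw [e]
        have h1 : ⁅b, l⁆ ∈ pCore p M ⊓ L :=
          ⟨hB_cent b hb l hl, by
            rw [commutatorElement_def]
            exact L.mul_mem (L.mul_mem (L.mul_mem (hBL hb) hl) (L.inv_mem (hBL hb)))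
              (L.inv_mem hl)⟩
        have h2 : l * u * l⁻¹ ∈ pCore p M ⊓ L :=
          (Subgroup.mem_normalizer_iff.mp (hPLn hl) u).mp hu
        exact Subgroup.mul_mem _ (Subgroup.mul_mem _
          ((le_sup_right : pCore p M ⊓ L ≤ _) (Subgroup.inv_mem _ h1))
          ((le_sup_left : B ≤ _) hb)) ((le_sup_right : pCore p M ⊓ L ≤ _) h2)
      exact le_sup_left.trans (Helper54.le_pCoreOf (p := p) hQL hLQ hQp)
    -- `A ∩ O_p(L) ≤ B`
    have hOB : A ⊓ (pCore p ↥L).map L.subtype ≤ B := by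
      intro a' ha'
      rw [hB]
      refine Subgroup.mem_inf.mpr ⟨ha'.1, ?_⟩
      rw [Subgroup.mem_comap]
      apply hCB
      have hOL : (pCore p ↥L).map L.subtype ≤ L := Subgroup.map_subtype_le _
      have hOn : L ≤ Subgroup.normalizer (((pCore p ↥L).map L.subtype : Subgroup M) : Set M) :=
        Helper54.le_normalizer_pCoreOf p L
      have hOp : IsPGroup p ↥((pCore p ↥L).map L.subtype) := Helper54.isPGroup_pCoreOf p L
      refine Subgroup.mem_inf.mpr ⟨by rw [hAb]; exact ⟨a', ha'.1, rfl⟩, ?_⟩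
      rw [Subgroup.mem_centralizer_iff]
      intro y hy
      -- `[π a', y] ∈ T ∩ Xb = 1`
      have hyL : y ∈ L.map π := by rw [hπLr]; exact hXL hy
      obtain ⟨l, hl, rfl⟩ := hyL
      have hLnX : L.map π ≤ Subgroup.normalizer (Xb : Set (M ⧸ pCore p M)) := by
        rw [hπLr]
        refine sup_le hXn ?_
        rintro _ ⟨a, ha, rfl⟩
        have e : (MulAut.conj xb).toMonoidHom a = xb * a * xb⁻¹ := by simp
        rw [e]
        have hxn : xb ∈ Subgroup.normalizer (Xb : Set (M ⧸ pCore p M)) :=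
          Subgroup.le_normalizer hxX
        exact Subgroup.mul_mem _ (Subgroup.mul_mem _ hxn (hXn ha)) (Subgroup.inv_mem _ hxn)
      have hc1 : ⁅π a', π l⁆ ∈ Xb := by
        have h1 : π a' ∈ Subgroup.normalizer (Xb : Set (M ⧸ pCore p M)) :=
          hLnX ⟨a', hOL ha'.2, rfl⟩
        have h2 : π a' * π l * (π a')⁻¹ ∈ Xb := (Subgroup.mem_normalizer_iff.mp h1 _).mp hy
        rw [commutatorElement_def]
        exact Xb.mul_mem h2 (Xb.inv_mem hy)
      have hc2 : ⁅a', l⁆ ∈ (pCore p ↥L).map L.subtype := by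
        have h1 : l * a'⁻¹ * l⁻¹ ∈ (pCore p ↥L).map L.subtype :=
          (Subgroup.mem_normalizer_iff.mp (hOn hl) _).mp (Subgroup.inv_mem _ ha'.2)
        have h2 : ⁅a', l⁆ = a' * (l * a'⁻¹ * l⁻¹) := by rw [commutatorElement_def]; group
        rw [h2]
        exact Subgroup.mul_mem _ ha'.2 h1
      obtain ⟨k, hk⟩ := hOp ⟨_, hc2⟩
      have hk' : ⁅a', l⁆ ^ p ^ k = 1 := by simpa using congrArg Subtype.val hk
      have hk'' : ⁅π a', π l⁆ ^ p ^ k = 1 := by
        rw [← map_commutatorElement, ← map_pow, hk', map_one]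
      have h1 : orderOf ⁅π a', π l⁆ ∣ p ^ k := orderOf_dvd_of_pow_eq_one hk''
      have h2 : orderOf ⁅π a', π l⁆ ∣ Nat.card Kb := by
        have := orderOf_dvd_natCard (⟨⁅π a', π l⁆, hXK hc1⟩ : Kb)
        rwa [Subgroup.orderOf_mk] at this
      have h3 : orderOf ⁅π a', π l⁆ = 1 :=
        Nat.eq_one_of_dvd_coprimes (Nat.Coprime.pow_right k hKb_cop) h2 h1
      rw [orderOf_eq_one_iff, commutatorElement_eq_one_iff_mul_comm] at h3
      exact h3.symm
    have hEq : A ⊓ (pCore p ↥L).map L.subtype = B := le_antisymm hOB (le_inf hBA' hBO)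
    rw [hEq]
    constructor
    · rw [hB, Subgroup.inf_relIndex_left, Subgroup.relIndex_comap, ← hAb]
      exact hBp
    · rw [Subgroup.commutator_le]
      exact hB_cent

end Cfsg.Agent.Lib.Helper67
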